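import Mathlib.FieldTheory.Finite.GaloisField

/-!
Embeddings of finite fields by cardinality.
-/

namespace CfsgLib.AutPSL

/-- A finite field with `q` elements embeds into every field with `q ^ r` elements. -/
theorem exists_ringHom_of_card_pow {F K : Type*} [Field F] [Fintype F] [Field K] [Fintype K]
    {r : ℕ} (h : Fintype.card K = Fintype.card F ^ r) : Nonempty (F →+* K) := by
  obtain ⟨p, hpF⟩ := CharP.exists F
  obtain ⟨p', hpK⟩ := CharP.exists K
  obtain ⟨n, hp, hF⟩ := FiniteField.card F p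
  obtain ⟨n', hp', hK⟩ := FiniteField.card K p'
  have hpp : p = p' := by
    have hdvd : p' ∣ p := by
      have h1 : p' ∣ Fintype.card F ^ r := h ▸ hK ▸ dvd_pow_self p' n'.pos.ne'
      exact hp'.dvd_of_dvd_pow (hF ▸ hp'.dvd_of_dvd_pow h1)
    exact ((Nat.prime_dvd_prime_iff_eq hp' hp).mp hdvd).symm
  subst hpp
  haveI : Fact p.Prime := ⟨hp⟩
  letI : Algebra (ZMod p) F := ZMod.algebra _ _
  letI : Algebra (ZMod p) K := ZMod.algebra _ _
  have hdvd : Module.finrank (ZMod p) F ∣ Module.finrank (ZMod p) K := by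
    refine ⟨r, Nat.pow_right_injective hp.two_le ?_⟩
    show p ^ _ = p ^ _
    rw [pow_mul, FiniteField.pow_finrank_eq_card p K, FiniteField.pow_finrank_eq_card p F, h]
  obtain ⟨f⟩ := FiniteField.nonempty_algHom_of_finrank_dvd hdvd
  exact ⟨f.toRingHom⟩

end CfsgLib.AutPSL
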