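import Mathlib
import Cfsg.Agent.Lib.AutPSL.FiniteFieldEmb

/-!
Automorphisms of finite fields: count, fixed fields, norms, a semilinear Hilbert 90.
-/

namespace CfsgLib.AutPSL

variable {F : Type*} [Field F] [Fintype F]

/-- The automorphism group of a field with `p ^ f` elements has order `f`. -/
theorem card_ringAut {p f : ℕ} [Fact p.Prime] (hF : Fintype.card F = p ^ f) :
    Nat.card (F ≃+* F) = f := by
  have hp : p.Prime := Fact.out
  obtain ⟨c, hc⟩ := CharP.exists F
  haveI := hc
  obtain ⟨m, hcp, hcard⟩ := FiniteField.card F c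
  have hcp' : c = p := by
    have h1 : c ∣ p ^ f := hF ▸ hcard ▸ dvd_pow_self c m.pos.ne'
    exact (Nat.prime_dvd_prime_iff_eq hcp hp).mp (hcp.dvd_of_dvd_pow h1)
  subst hcp'
  letI : Algebra (ZMod c) F := ZMod.algebra _ _
  have e : (F ≃+* F) ≃ (F ≃ₐ[ZMod c] F) :=
    { toFun := fun σ => AlgEquiv.ofRingEquiv (f := σ)
        (fun x => by rw [← ZMod.natCast_zmod_val x, map_natCast, map_natCast])
      invFun := fun σ => σ.toRingEquiv
      left_inv := fun σ => by ext; rfl
      right_inv := fun σ => by ext; rfl }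
  rw [Nat.card_congr e, ← Nat.card_congr (Equiv.ofBijective _
    (FiniteField.bijective_frobeniusAlgEquivOfAlgebraic_pow (ZMod c) F)), Nat.card_fin]
  refine Nat.pow_right_injective hp.two_le ?_
  show c ^ _ = c ^ f
  rw [FiniteField.pow_finrank_eq_card, hF]

/-- Automorphisms of a finite field commute. -/
theorem ringAut_comm (σ τ : F ≃+* F) : σ * τ = τ * σ := by
  obtain ⟨c, hc⟩ := CharP.exists F
  haveI := hc
  haveI : Fact c.Prime := ⟨CharP.char_is_prime F c⟩
  letI : Algebra (ZMod c) F := ZMod.algebra _ _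
  have hpow : ∀ σ : F ≃+* F, ∃ k : ℕ, ∀ x, σ x = x ^ (c ^ k) := by
    intro σ
    let σ' : F ≃ₐ[ZMod c] F := AlgEquiv.ofRingEquiv (f := σ)
      (fun x => by rw [← ZMod.natCast_zmod_val x, map_natCast, map_natCast])
    obtain ⟨⟨k, _⟩, hk⟩ := (FiniteField.bijective_frobeniusAlgEquivOfAlgebraic_pow (ZMod c) F).2 σ'
    refine ⟨k, fun x => ?_⟩
    have h1 : σ' x = x ^ (c ^ k) := by
      rw [← hk]
      show (FiniteField.frobeniusAlgEquivOfAlgebraic (ZMod c) F ^ k) x = _
      rw [AlgEquiv.coe_pow, FiniteField.coe_frobeniusAlgEquivOfAlgebraic_iterate, ZMod.card]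
    exact h1
  obtain ⟨a, ha⟩ := hpow σ
  obtain ⟨b, hb⟩ := hpow τ
  ext x
  show σ (τ x) = τ (σ x)
  rw [ha, hb, hb, ha, ← pow_mul, ← pow_mul, mul_comm]

variable (σ : F ≃+* F)

/-- The fixed field of a field automorphism. -/
def fixedField : Subfield F where
  carrier := {x | σ x = x}
  mul_mem' := fun {a b} ha hb => by show σ (a * b) = a * b; rw [map_mul, ha, hb]
  one_mem' := map_one σ
  add_mem' := fun {a b} ha hb => by show σ (a + b) = a + b; rw [map_add, ha, hb]
  zero_mem' := map_zero σ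
  neg_mem' := fun {a} ha => by show σ (-a) = -a; rw [map_neg, ha]
  inv_mem' := fun a ha => by show σ a⁻¹ = a⁻¹; rw [map_inv₀, ha]

omit [Fintype F] in
theorem mem_fixedField {x : F} : x ∈ fixedField σ ↔ σ x = x := Iff.rfl

omit [Fintype F] in
theorem fixedPoints_subfield_eq :
    FixedPoints.subfield (↥(Subgroup.zpowers σ)) F = fixedField σ := by
  ext x
  constructor
  · intro h; exact h ⟨σ, Subgroup.mem_zpowers σ⟩
  · rintro h ⟨τ, hτ⟩
    show τ x = x
    have hle : Subgroup.zpowers σ ≤ MulAction.stabilizer (F ≃+* F) x :=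
      Subgroup.zpowers_le.mpr h
    exact hle hτ

theorem card_fixedField_pow : Nat.card ↥(fixedField σ) ^ orderOf σ = Fintype.card F := by
  haveI : Finite (F ≃+* F) := Finite.of_injective _ DFunLike.coe_injective
  letI : Fintype ↥(Subgroup.zpowers σ) := Fintype.ofFinite _
  have h := FixedPoints.finrank_eq_card (↥(Subgroup.zpowers σ)) F
  rw [Fintype.card_eq_nat_card, Nat.card_zpowers] at h
  have h2 := Module.natCard_eq_pow_finrank (K := FixedPoints.subfield (↥(Subgroup.zpowers σ)) F) (V := F)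
  rw [h, Nat.card_eq_fintype_card] at h2
  rw [← fixedPoints_subfield_eq, h2]

theorem fixedField_card {p f r : ℕ} [Fact p.Prime] (hF : Fintype.card F = p ^ f) (hr : orderOf σ = r) :
    r ∣ f ∧ Nat.card ↥(fixedField σ) = p ^ (f / r) := by
  have hp : p.Prime := Fact.out
  have h := card_fixedField_pow σ
  rw [hr, hF] at h
  have hr0 : r ≠ 0 := by
    rintro rfl
    rw [pow_zero] at h
    have := Fintype.one_lt_card (α := F)
    omega
  have hdvd : Nat.card ↥(fixedField σ) ∣ p ^ f := h ▸ dvd_pow_self _ hr0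
  obtain ⟨i, _, hi⟩ := (Nat.dvd_prime_pow hp).mp hdvd
  rw [hi, ← pow_mul] at h
  have := Nat.pow_right_injective hp.two_le h
  refine ⟨⟨i, by rw [← this, mul_comm]⟩, ?_⟩
  rw [hi, ← this, Nat.mul_div_cancel _ (Nat.pos_of_ne_zero hr0)]

/-- Isomorphism of the fixed field with a given field of the right cardinality. -/
theorem exists_equiv_fixedField {p f r : ℕ} [Fact p.Prime] (hF : Fintype.card F = p ^ f) (hr : orderOf σ = r)
    {F₀ : Type*} [Field F₀] [Fintype F₀] (hF₀ : Fintype.card F₀ = p ^ (f / r)) :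
    Nonempty (F₀ ≃+* ↥(fixedField σ)) := by
  letI : Fintype ↥(fixedField σ) := Fintype.ofFinite _
  refine ⟨FiniteField.ringEquivOfCardEq (hF₀.trans ?_)⟩
  rw [← (fixedField_card σ hF hr).2, Nat.card_eq_fintype_card]

/-- The norm `x ↦ ∏_{i < r} σ^i x` onto the fixed field is surjective. -/
theorem exists_norm_eq {r : ℕ} (hr : orderOf σ = r) {c : F} (hc : σ c = c) :
    ∃ x : F, ∏ i ∈ Finset.range r, (σ ^ i) x = c := by
  haveI : Finite (F ≃+* F) := Finite.of_injective _ DFunLike.coe_injective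
  letI : Fintype ↥(Subgroup.zpowers σ) := Fintype.ofFinite _
  let K := FixedPoints.subfield (↥(Subgroup.zpowers σ)) F
  obtain ⟨x, hx⟩ := FiniteField.norm_surjective K F ⟨c, by show c ∈ FixedPoints.subfield _ F; rw [fixedPoints_subfield_eq]; exact hc⟩
  refine ⟨x, ?_⟩
  haveI : IsGalois K F := ⟨⟩
  have h2 := Algebra.norm_eq_prod_automorphisms K x
  rw [hx] at h2
  have h3 : ∏ τ : F ≃ₐ[K] F, τ x = ∏ g : ↥(Subgroup.zpowers σ), (g : F ≃+* F) x := by
    rw [← (FixedPoints.toAlgAutMulEquiv (↥(Subgroup.zpowers σ)) F).toEquiv.prod_comp (fun τ => τ x)]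
    rfl
  rw [h3] at h2
  have hfin : IsOfFinOrder σ := isOfFinOrder_of_finite σ
  rw [← (finEquivZPowers hfin).prod_comp] at h2
  subst hr
  rw [← Fin.prod_univ_eq_prod_range (fun i => (σ ^ i) x)]
  exact h2.symm

omit [Fintype F] in
/-- A semilinear map of finite order `r = orderOf σ` has enough fixed vectors: any functional killing all
fixed vectors is zero. -/
theorem semilinear_fixed_span [Finite F] {V : Type*} [AddCommGroup V] [Module F V] (φ : V → V)
    (hadd : ∀ u v, φ (u + v) = φ u + φ v) (hsmul : ∀ (c : F) v, φ (c • v) = σ c • φ v)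
    (hper : ∀ v, φ^[orderOf σ] v = v) :
    Submodule.span F {v | φ v = v} = ⊤ := by
  haveI : Finite (F ≃+* F) := Finite.of_injective _ DFunLike.coe_injective
  have hiter : ∀ (i : ℕ) (c : F) (v : V), φ^[i] (c • v) = (σ ^ i) c • φ^[i] v := by
    intro i c v
    induction i with
    | zero => simp
    | succ i ih => rw [Function.iterate_succ_apply', ih, hsmul, Function.iterate_succ_apply', pow_succ']; rfl
  let φh : V →+ V := AddMonoidHom.mk' φ hadd
  by_contra hne
  obtain ⟨ψ, hψ0, hψ⟩ := Submodule.exists_dual_map_eq_bot_of_lt_top (lt_top_iff_ne_top.mpr hne) inferInstance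
  have hker : ∀ w, φ w = w → ψ w = 0 := by
    intro w hw
    have : ψ w ∈ (Submodule.span F {v | φ v = v}).map ψ := Submodule.mem_map_of_mem (Submodule.subset_span hw)
    rw [hψ] at this
    exact this
  apply hψ0
  ext v
  set r := orderOf σ with hrdef
  have hr : 0 < r := orderOf_pos σ
  have hli : LinearIndependent F (fun i : Fin r => ((σ ^ (i : ℕ) : F ≃+* F).toRingHom.toMonoidHom : F → F)) := by
    refine (linearIndependent_monoidHom F F).comp _ ?_
    intro i j hij
    apply Fin.ext
    refine pow_injOn_Iio_orderOf (x := σ) i.2 j.2 ?_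
    ext x
    exact DFunLike.congr_fun hij x
  have hzero : ∀ i : Fin r, ψ (φ^[(i : ℕ)] v) = 0 := by
    refine Fintype.linearIndependent_iff.mp hli _ ?_
    funext c
    have hw : φ (∑ i ∈ Finset.range r, φ^[i] (c • v)) = ∑ i ∈ Finset.range r, φ^[i] (c • v) := by
      show φh _ = _
      rw [map_sum]
      show ∑ i ∈ Finset.range r, φ (φ^[i] (c • v)) = _
      simp only [← Function.iterate_succ_apply']
      have h1 := Finset.sum_range_succ (fun i => φ^[i] (c • v)) r
      have h2 := Finset.sum_range_succ' (fun i => φ^[i] (c • v)) r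
      rw [h1, hper] at h2
      exact (add_right_cancel h2).symm
    have h0 := hker _ hw
    simp only [map_sum, hiter, map_smul, smul_eq_mul] at h0
    rw [← Fin.sum_univ_eq_sum_range (fun i => (σ ^ i) c * ψ (φ^[i] v))] at h0
    rw [Finset.sum_apply, Pi.zero_apply, ← h0]
    exact Finset.sum_congr rfl fun i _ => mul_comm _ _
  simpa using hzero ⟨0, hr⟩

end CfsgLib.AutPSL
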