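import Mathlib.GroupTheory.QuotientGroup.Basic
import Mathlib.GroupTheory.Subgroup.Center
import Mathlib.Algebra.Group.End

/-!
The action of automorphisms of a group on its central quotient.
-/

namespace CfsgLib.AutPSL

variable {G : Type*} [Group G]

theorem map_center_eq (e : MulAut G) :
    (Subgroup.center G).map (e : G ≃* G).toMonoidHom = Subgroup.center G := by
  ext x
  simp only [Subgroup.mem_map, Subgroup.mem_center_iff, MulEquiv.coe_toMonoidHom]
  constructor
  · rintro ⟨y, hy, rfl⟩ g
    have := congrArg e (hy (e.symm g))
    simpa using this
  · intro h
    refine ⟨e.symm x, fun g => ?_, e.apply_symm_apply x⟩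
    have := congrArg e.symm (h (e g))
    simpa using this

/-- The induced automorphism of the central quotient. -/
def descend : MulAut G →* MulAut (G ⧸ Subgroup.center G) where
  toFun e := QuotientGroup.congr _ _ e (map_center_eq e)
  map_one' := by
    ext x; induction x using QuotientGroup.induction_on; rfl
  map_mul' e f := by
    ext x; induction x using QuotientGroup.induction_on; rfl

@[simp] theorem descend_mk (e : MulAut G) (x : G) :
    descend e (QuotientGroup.mk x) = QuotientGroup.mk (e x) := rfl

theorem descend_conj (x : G) : descend (MulAut.conj x) = MulAut.conj (QuotientGroup.mk x) := by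
  ext y; induction y using QuotientGroup.induction_on
  simp

/-- An automorphism of the central quotient is determined by its values on classes. -/
theorem eq_descend_iff {β : MulAut (G ⧸ Subgroup.center G)} {e : MulAut G} :
    β = descend e ↔ ∀ x : G, β (QuotientGroup.mk x) = QuotientGroup.mk (e x) := by
  refine ⟨fun h x => by rw [h]; rfl, fun h => ?_⟩
  ext y; induction y using QuotientGroup.induction_on with
  | _ x => exact h x

end CfsgLib.AutPSL
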