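import Mathlib
import Cfsg.Prelude.Def_LieTypeDatum
import Cfsg.Agent.Lib.AutPSL.Quot
import Cfsg.Agent.Lib.Linear.Transvection

/-!
The standard automorphisms of `PSL_n(F)`: diagonal (induced by `GL_n`), field, inverse-transpose,
their relations, and the translation of the predicates of `Def_LieTypeDatum` into equalities.
-/

namespace CfsgLib.AutPSL

open Matrix
open scoped MatrixGroups

variable {n : ℕ} {F : Type*} [Field F]

/-- `SL_n`, shorthand. -/
abbrev SLg (n : ℕ) (F : Type*) [Field F] : Type _ := Matrix.SpecialLinearGroup (Fin n) F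

/-- `PSL_n`, shorthand. -/
abbrev PSLg (n : ℕ) (F : Type*) [Field F] : Type _ := Matrix.ProjectiveSpecialLinearGroup (Fin n) F

/-- Conjugation by an invertible matrix on `SL_n`. -/
def conjSL : GL (Fin n) F →* MulAut (SLg n F) where
  toFun g :=
    { toFun := fun s => ⟨(g : Matrix (Fin n) (Fin n) F) * s.1 * ((g⁻¹ : GL (Fin n) F) : Matrix (Fin n) (Fin n) F), by
        rw [Matrix.det_units_conj]; exact s.2⟩
      invFun := fun s => ⟨((g⁻¹ : GL (Fin n) F) : Matrix (Fin n) (Fin n) F) * s.1 * (g : Matrix (Fin n) (Fin n) F), by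
        rw [Matrix.det_units_conj']; exact s.2⟩
      left_inv := fun s => Subtype.ext (by simp [Matrix.mul_assoc])
      right_inv := fun s => Subtype.ext (by simp [Matrix.mul_assoc])
      map_mul' := fun s t => Subtype.ext (by
        show (g : Matrix (Fin n) (Fin n) F) * (s.1 * t.1) * _ = (_ * _ * _) * (_ * _ * _)
        simp [Matrix.mul_assoc]) }
  map_one' := MulEquiv.ext fun s => Subtype.ext (by
    show ((1 : GL (Fin n) F) : Matrix (Fin n) (Fin n) F) * s.1 * _ = s.1
    simp)
  map_mul' g h := MulEquiv.ext fun s => Subtype.ext (by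
    show ((g * h : GL (Fin n) F) : Matrix (Fin n) (Fin n) F) * s.1 * _ = g.1 * (h.1 * s.1 * h⁻¹.1) * g⁻¹.1
    simp [_root_.mul_inv_rev, Matrix.mul_assoc])

theorem conjSL_coe (g : GL (Fin n) F) (s : SLg n F) :
    (conjSL g s).1 = (g : Matrix (Fin n) (Fin n) F) * s.1 * ((g⁻¹ : GL (Fin n) F) : Matrix (Fin n) (Fin n) F) :=
  rfl

theorem map_val_det (σ : F ≃+* F) (s : SLg n F) : (s.1.map σ).det = 1 := by
  have h := RingHom.map_det σ.toRingHom s.1
  rw [s.2, map_one] at h
  exact h.symm

/-- A field automorphism applied entrywise on `SL_n`. -/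
def fieldSL : (F ≃+* F) →* MulAut (SLg n F) where
  toFun σ :=
    { toFun := fun s => ⟨s.1.map σ, map_val_det σ s⟩
      invFun := fun s => ⟨s.1.map σ.symm, map_val_det σ.symm s⟩
      left_inv := fun s => Subtype.ext (by ext i j; simp)
      right_inv := fun s => Subtype.ext (by ext i j; simp)
      map_mul' := fun s t => Subtype.ext (Matrix.map_mul (f := σ.toRingHom)) }
  map_one' := by ext s : 2; rfl
  map_mul' σ τ := by ext s : 2; rfl

theorem fieldSL_coe (σ : F ≃+* F) (s : SLg n F) : (fieldSL σ s).1 = s.1.map σ := rfl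

theorem itSL_invol (s : SLg n F) : (((s⁻¹).transpose)⁻¹).transpose = s := by
  have h : (s⁻¹).transpose * s.transpose = 1 := Subtype.ext (by
    show ((s⁻¹).1).transpose * s.1.transpose = 1
    rw [← Matrix.transpose_mul, ← Matrix.SpecialLinearGroup.coe_mul, mul_inv_cancel,
      Matrix.SpecialLinearGroup.coe_one, Matrix.transpose_one])
  rw [inv_eq_of_mul_eq_one_right h]
  exact Subtype.ext (Matrix.transpose_transpose _)

/-- The inverse-transpose automorphism of `SL_n`. -/
def itSL : MulAut (SLg n F) where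
  toFun s := (s⁻¹).transpose
  invFun s := (s⁻¹).transpose
  left_inv s := itSL_invol s
  right_inv s := itSL_invol s
  map_mul' s t := Subtype.ext (by
    simp [Matrix.transpose_mul, Matrix.adjugate_mul_distrib])

theorem itSL_coe (s : SLg n F) : (itSL s).1 = ((s⁻¹ : SLg n F) : Matrix (Fin n) (Fin n) F).transpose := rfl

/-- The automorphism of `PSL_n` induced by an invertible matrix. -/
def diagAut : GL (Fin n) F →* MulAut (PSLg n F) := descend.comp conjSL

/-- The standard field automorphism of `PSL_n`. -/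
def fieldAut : (F ≃+* F) →* MulAut (PSLg n F) := descend.comp fieldSL

/-- The inverse-transpose automorphism of `PSL_n`. -/
def itAut : MulAut (PSLg n F) := descend itSL

@[simp] theorem diagAut_mk (g : GL (Fin n) F) (s : SLg n F) :
    diagAut g (QuotientGroup.mk s) = QuotientGroup.mk (conjSL g s) := rfl

@[simp] theorem fieldAut_mk (σ : F ≃+* F) (s : SLg n F) :
    fieldAut σ (QuotientGroup.mk s) = QuotientGroup.mk (fieldSL σ s) := rfl

@[simp] theorem itAut_mk (s : SLg n F) :
    itAut (QuotientGroup.mk s) = QuotientGroup.mk (itSL s) := rfl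

theorem conjSL_toGL (s : SLg n F) : conjSL (Matrix.SpecialLinearGroup.toGL s) = MulAut.conj s := by
  ext t : 2
  rw [conjSL_coe, MulAut.conj_apply]
  rfl

theorem diagAut_toGL (s : SLg n F) :
    diagAut (Matrix.SpecialLinearGroup.toGL s) = MulAut.conj (QuotientGroup.mk s : PSLg n F) := by
  show descend (conjSL _) = _
  rw [conjSL_toGL, descend_conj]

/-! ### The predicates of the prelude -/

theorem isInnerDiagonalAutPSL_iff {β : MulAut (PSLg n F)} :
    Cfsg.IsInnerDiagonalAutPSL β ↔ ∃ g, β = diagAut g := by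
  constructor
  · rintro ⟨g, hg⟩
    exact ⟨g, eq_descend_iff.mpr fun s => hg s (conjSL g s) rfl⟩
  · rintro ⟨g, rfl⟩
    exact ⟨g, fun s s' h => (diagAut_mk g s).trans (congrArg _ (Subtype.ext h.symm))⟩

theorem isStdFieldAutPSL_iff {σ : F ≃+* F} {β : MulAut (PSLg n F)} :
    Cfsg.IsStdFieldAutPSL σ β ↔ β = fieldAut σ := by
  constructor
  · intro h
    exact eq_descend_iff.mpr fun s => h s (fieldSL σ s) rfl
  · rintro rfl s s' h
    exact (fieldAut_mk σ s).trans (congrArg _ (Subtype.ext h.symm))

theorem isInverseTransposeAutPSL_iff {β : MulAut (PSLg n F)} :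
    Cfsg.IsInverseTransposeAutPSL β ↔ β = itAut := by
  constructor
  · intro h
    exact eq_descend_iff.mpr fun s => h s (itSL s) rfl
  · rintro rfl s s' h
    exact (itAut_mk s).trans (congrArg _ (Subtype.ext h.symm))

theorem isFieldAutPSL_iff {β : MulAut (PSLg n F)} :
    Cfsg.IsFieldAutPSL β ↔ ∃ σ, β = fieldAut σ :=
  exists_congr fun _ => isStdFieldAutPSL_iff

theorem isInducedBySemilinearPSL_iff {g : GL (Fin n) F} {σ : F ≃+* F} {β : MulAut (PSLg n F)} :
    Cfsg.IsInducedBySemilinearPSL g σ β ↔ β = diagAut g * fieldAut σ := by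
  constructor
  · intro h
    ext x
    induction x using QuotientGroup.induction_on with
    | _ s => exact h s (conjSL g (fieldSL σ s)) rfl
  · rintro rfl s s' h
    rw [MulAut.mul_apply, fieldAut_mk, diagAut_mk]
    exact congrArg _ (Subtype.ext h.symm)

theorem inndiagPSL_eq : Cfsg.inndiagPSL n F = (diagAut (n := n) (F := F)).range := by
  have : {β : MulAut (PSLg n F) | Cfsg.IsInnerDiagonalAutPSL β} = ((diagAut (n := n) (F := F)).range : Set _) := by
    ext β
    simp only [Set.mem_setOf_eq, isInnerDiagonalAutPSL_iff, SetLike.mem_coe, MonoidHom.mem_range, eq_comm]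
  show Subgroup.closure {β : MulAut (PSLg n F) | Cfsg.IsInnerDiagonalAutPSL β} = _
  rw [this, Subgroup.closure_eq]

/-! ### Relations -/

theorem fieldSL_conjSL (σ : F ≃+* F) (g : GL (Fin n) F) :
    fieldSL σ * conjSL g = conjSL (Matrix.GeneralLinearGroup.map σ.toRingHom g) * fieldSL σ := by
  refine MulEquiv.ext fun s => Subtype.ext ?_
  simp only [MulAut.mul_apply, fieldSL_coe, conjSL_coe]
  rw [← map_inv]
  show (g.1 * s.1 * (g⁻¹).1).map σ.toRingHom = _
  rw [Matrix.map_mul, Matrix.map_mul]
  rfl

theorem fieldAut_diagAut (σ : F ≃+* F) (g : GL (Fin n) F) :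
    fieldAut σ * diagAut g = diagAut (Matrix.GeneralLinearGroup.map σ.toRingHom g) * fieldAut σ := by
  simp only [fieldAut, diagAut, MonoidHom.comp_apply, ← map_mul, fieldSL_conjSL]

/-- Inverse-transpose of an invertible matrix, as a group homomorphism. -/
def itGL : GL (Fin n) F →* GL (Fin n) F where
  toFun g := ⟨((g⁻¹ : GL (Fin n) F) : Matrix (Fin n) (Fin n) F).transpose,
    (g : Matrix (Fin n) (Fin n) F).transpose,
    by rw [← Matrix.transpose_mul, Units.mul_inv, Matrix.transpose_one],
    by rw [← Matrix.transpose_mul, Units.inv_mul, Matrix.transpose_one]⟩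
  map_one' := Units.ext (by simp)
  map_mul' g h := Units.ext (by simp [Matrix.transpose_mul, _root_.mul_inv_rev])

theorem itGL_coe (g : GL (Fin n) F) :
    (itGL g).1 = ((g⁻¹ : GL (Fin n) F) : Matrix (Fin n) (Fin n) F).transpose := rfl

theorem itGL_inv_coe (g : GL (Fin n) F) : ((itGL g)⁻¹).1 = g.1.transpose := rfl

@[simp] theorem itGL_itGL (g : GL (Fin n) F) : itGL (itGL g) = g := by
  apply Units.ext
  rw [itGL_coe, itGL_inv_coe, Matrix.transpose_transpose]

theorem itSL_mul_self : itSL * itSL = (1 : MulAut (SLg n F)) := by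
  ext s : 1
  exact itSL.left_inv s

theorem itAut_mul_self : itAut * itAut = (1 : MulAut (PSLg n F)) := by
  rw [itAut, ← map_mul, itSL_mul_self, map_one]

theorem itAut_inv : (itAut : MulAut (PSLg n F))⁻¹ = itAut :=
  inv_eq_of_mul_eq_one_right itAut_mul_self

theorem toGL_inv_coe (s : SLg n F) :
    ((Matrix.SpecialLinearGroup.toGL s)⁻¹).1 = (s⁻¹).1 := by
  rw [← map_inv]; rfl

theorem itSL_conjSL (g : GL (Fin n) F) :
    itSL * conjSL g = conjSL (itGL g) * itSL := by
  refine MulEquiv.ext fun s => Subtype.ext ?_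
  simp only [MulAut.mul_apply, itSL_coe, conjSL_coe, ← map_inv]
  rw [map_inv (itGL (n := n) (F := F)), itGL_coe, itGL_inv_coe, Matrix.transpose_mul, Matrix.transpose_mul,
    Matrix.mul_assoc]

theorem itAut_diagAut (g : GL (Fin n) F) :
    itAut * diagAut g = diagAut (itGL g) * itAut := by
  simp only [itAut, diagAut, MonoidHom.comp_apply, ← map_mul, itSL_conjSL]

theorem itSL_fieldSL (σ : F ≃+* F) : itSL * fieldSL σ = fieldSL σ * (itSL : MulAut (SLg n F)) := by
  refine MulEquiv.ext fun s => Subtype.ext ?_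
  simp only [MulAut.mul_apply, itSL_coe, fieldSL_coe, ← map_inv, Matrix.transpose_map]

theorem itAut_fieldAut (σ : F ≃+* F) : itAut * fieldAut σ = fieldAut σ * (itAut : MulAut (PSLg n F)) := by
  simp only [itAut, fieldAut, MonoidHom.comp_apply, ← map_mul, itSL_fieldSL]

/-- Two automorphisms agreeing on the root elements are equal. -/
theorem aut_ext {β γ : MulAut (PSLg n F)}
    (h : ∀ (i j : Fin n) (hij : i ≠ j) (c : F),
      β (QuotientGroup.mk (SpecialLinearGroup.transvection hij c)) =
        γ (QuotientGroup.mk (SpecialLinearGroup.transvection hij c))) : β = γ := by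
  have := CfsgLib.Linear.SL_monoidHom_ext (n := Fin n) (F := F)
    (f := (β : PSLg n F ≃* PSLg n F).toMonoidHom.comp (QuotientGroup.mk' _))
    (g := (γ : PSLg n F ≃* PSLg n F).toMonoidHom.comp (QuotientGroup.mk' _)) h
  ext x
  induction x using QuotientGroup.induction_on with
  | _ s => exact DFunLike.congr_fun this s

end CfsgLib.AutPSL
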