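import Mathlib
import Cfsg.Agent.Lib.FormsDisc.Basic

/-!
Congruence of square matrices over finite fields: alternating matrices, non-alternating symmetric matrices in
characteristic two, and symmetric matrices in odd characteristic.
-/

set_option autoImplicit false

namespace CfsgLib.AutPSL

open Matrix Module

variable {F : Type*} [Field F]

/-- `M` becomes `N` under an invertible change of coordinates. -/
def Congr {ι κ : Type} [Fintype ι] [DecidableEq ι] [Fintype κ] [DecidableEq κ]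
    (M : Matrix ι ι F) (N : Matrix κ κ F) : Prop :=
  ∃ (H : Matrix ι κ F) (H' : Matrix κ ι F), H * H' = 1 ∧ H' * H = 1 ∧ Hᵀ * M * H = N

section

variable {ι κ μ : Type} [Fintype ι] [DecidableEq ι] [Fintype κ] [DecidableEq κ] [Fintype μ] [DecidableEq μ]

theorem Congr.refl (M : Matrix ι ι F) : Congr M M := ⟨1, 1, by simp, by simp, by simp⟩

theorem Congr.trans {M : Matrix ι ι F} {N : Matrix κ κ F} {P : Matrix μ μ F} (h₁ : Congr M N)
    (h₂ : Congr N P) : Congr M P := by
  obtain ⟨A, A', hA, hA', rfl⟩ := h₁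
  obtain ⟨B, B', hB, hB', rfl⟩ := h₂
  refine ⟨A * B, B' * A', ?_, ?_, ?_⟩
  · rw [Matrix.mul_assoc, ← Matrix.mul_assoc B, hB, Matrix.one_mul, hA]
  · rw [Matrix.mul_assoc, ← Matrix.mul_assoc A', hA', Matrix.one_mul, hB']
  · simp only [Matrix.transpose_mul, Matrix.mul_assoc]

theorem Congr.symm {M : Matrix ι ι F} {N : Matrix κ κ F} (h : Congr M N) : Congr N M := by
  obtain ⟨A, A', hA, hA', rfl⟩ := h
  refine ⟨A', A, hA', hA, ?_⟩
  calc A'ᵀ * (Aᵀ * M * A) * A' = (A'ᵀ * Aᵀ) * M * (A * A') := by simp only [Matrix.mul_assoc]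
    _ = M := by rw [← Matrix.transpose_mul, hA, Matrix.transpose_one, Matrix.one_mul, Matrix.mul_one]

theorem Congr.smul {M : Matrix ι ι F} {N : Matrix κ κ F} (c : F) (h : Congr M N) : Congr (c • M) (c • N) := by
  obtain ⟨A, A', hA, hA', rfl⟩ := h
  exact ⟨A, A', hA, hA', by rw [Matrix.mul_smul, Matrix.smul_mul]⟩

theorem congr_submatrix (M : Matrix ι ι F) (e : κ ≃ ι) : Congr M (M.submatrix e e) := by
  refine ⟨(1 : Matrix ι ι F).submatrix id e, (1 : Matrix ι ι F).submatrix e id, ?_, ?_, ?_⟩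
  · rw [Matrix.submatrix_mul_equiv, Matrix.one_mul, Matrix.submatrix_id_id]
  · rw [← Matrix.submatrix_mul _ _ e id e Function.bijective_id, Matrix.one_mul, Matrix.submatrix_one_equiv]
  · ext a b
    simp [Matrix.mul_apply, Matrix.one_apply]

theorem Congr.transpose_eq_smul {M : Matrix ι ι F} {N : Matrix κ κ F} (h : Congr M N) {c : F} (hM : Mᵀ = c • M) :
    Nᵀ = c • N := by
  obtain ⟨A, A', hA, hA', rfl⟩ := h
  rw [Matrix.transpose_mul, Matrix.transpose_mul, Matrix.transpose_transpose, hM, Matrix.smul_mul,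
    Matrix.mul_smul, Matrix.mul_assoc]

theorem diag_zero_iff_self_zero (M : Matrix ι ι F) (hskew : Mᵀ = -M) :
    (∀ i, M i i = 0) ↔ ∀ v, v ⬝ᵥ (M *ᵥ v) = 0 := by
  constructor
  · intro h v
    simp only [dotProduct, Matrix.mulVec, Finset.mul_sum]
    rw [← Finset.sum_product']
    refine Finset.sum_involution (fun p _ => (p.2, p.1)) ?_ ?_ ?_ ?_
    · rintro ⟨i, j⟩ -
      have : M j i = -M i j := congrFun (congrFun hskew i) j
      show v i * (M i j * v j) + v j * (M j i * v i) = 0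
      rw [this]; ring
    · rintro ⟨i, j⟩ - hne he
      simp only [Prod.mk.injEq] at he
      obtain ⟨rfl, -⟩ := he
      exact hne (by simp [h])
    · intro p _; exact Finset.mem_univ _
    · intro p _; rfl
  · intro h i
    simpa using h (Pi.single i 1)

theorem Congr.self_zero {M : Matrix ι ι F} {N : Matrix κ κ F} (h : Congr M N)
    (hM : ∀ v, v ⬝ᵥ (M *ᵥ v) = 0) (v : κ → F) : v ⬝ᵥ (N *ᵥ v) = 0 := by
  obtain ⟨A, A', hA, hA', rfl⟩ := h
  rw [← Matrix.mulVec_mulVec, ← Matrix.mulVec_mulVec, Matrix.dotProduct_mulVec, Matrix.vecMul_transpose]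
  exact hM _

theorem congr_of_family {M : Matrix ι ι F} {N : Matrix κ κ F} (hcard : Fintype.card ι = Fintype.card κ)
    (hN : N.det ≠ 0) (e : κ → ι → F) (h : ∀ a b, e a ⬝ᵥ (M *ᵥ e b) = N a b) : Congr M N := by
  let H : Matrix ι κ F := Matrix.of fun i a => e a i
  have hH : Hᵀ * M * H = N := by
    ext a b
    rw [← h, Matrix.mul_assoc]
    rfl
  have h1 : N⁻¹ * (Hᵀ * M) * H = 1 := by
    rw [Matrix.mul_assoc, hH]
    exact Matrix.nonsing_inv_mul _ (isUnit_iff_ne_zero.mpr hN)
  exact ⟨H, N⁻¹ * (Hᵀ * M), (Matrix.mul_eq_one_comm_of_equiv (Fintype.card_eq.mp hcard).some).mpr h1, h1, hH⟩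

theorem Congr.det_eq_sq {M : Matrix ι ι F} {N : Matrix κ κ F} (h : Congr M N) (e : κ ≃ ι) :
    ∃ d : F, d ≠ 0 ∧ N.det = M.det * d ^ 2 := by
  obtain ⟨H, H', h1, h2, rfl⟩ := h
  refine ⟨(H.submatrix e id).det, ?_, ?_⟩
  · intro h0
    have h3 : H'.submatrix id e * H.submatrix e id = 1 := by
      rw [Matrix.submatrix_mul_equiv, h2, Matrix.submatrix_id_id]
    have := congrArg Matrix.det h3
    rw [Matrix.det_mul, h0, mul_zero, Matrix.det_one] at this
    exact zero_ne_one this
  · have h3 : Hᵀ * M * H = (H.submatrix e id)ᵀ * M.submatrix e e * H.submatrix e id := by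
      rw [Matrix.transpose_submatrix, Matrix.submatrix_mul_equiv, Matrix.submatrix_mul_equiv,
        Matrix.submatrix_id_id]
    rw [h3, Matrix.det_mul, Matrix.det_mul, Matrix.det_transpose, Matrix.det_submatrix_equiv_self]
    ring

end

/-! ### Families -/

/-- A non-degenerate alternating form has a symplectic family. -/
theorem exists_symp_family : ∀ (n : ℕ) {V : Type*} [AddCommGroup V] [Module F V] [FiniteDimensional F V]
    (B : LinearMap.BilinForm F V), B.IsAlt → (∀ x, (∀ y, B x y = 0) → x = 0) → finrank F V = n →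
    ∃ (k : ℕ) (e f : Fin k → V), n = 2 * k ∧
      ∀ i j, B (e i) (e j) = 0 ∧ B (f i) (f j) = 0 ∧ B (e i) (f j) = if i = j then 1 else 0 := by
  intro n
  induction n using Nat.strong_induction_on with
  | _ n ih =>
  intro V _ _ _ B halt hnd hn
  rcases Nat.eq_zero_or_pos n with h0 | hpos
  · exact ⟨0, Fin.elim0, Fin.elim0, by omega, fun i => i.elim0⟩
  have : Nontrivial V := Module.nontrivial_of_finrank_pos (R := F) (by omega)
  obtain ⟨u, hu⟩ := exists_ne (0 : V)
  obtain ⟨z₀, hz₀⟩ : ∃ z, B u z ≠ 0 := by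
    by_contra! h; exact hu (hnd u h)
  set z : V := (B u z₀)⁻¹ • z₀ with hz
  have huz : B u z = 1 := by rw [hz, map_smul, smul_eq_mul, inv_mul_cancel₀ hz₀]
  have hzu : B z u = -1 := by rw [← LinearMap.IsAlt.neg halt u z, huz]
  have huu := halt u
  have hzz := halt z
  let W : Submodule F V := LinearMap.ker (B u) ⊓ LinearMap.ker (B z)
  have hW : ∀ w, w ∈ W ↔ B u w = 0 ∧ B z w = 0 := fun w => Iff.rfl
  have hproj : ∀ y, y + B z y • u - B u y • z ∈ W := by
    intro y
    rw [hW]
    simp [huu, hzz, huz, hzu]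
  have hWn : finrank F W + 2 = n := by
    let Φ : V →ₗ[F] F × F := (B u).prod (B z)
    have hk : LinearMap.ker Φ = W := LinearMap.ker_prod _ _
    have hr : LinearMap.range Φ = ⊤ := by
      rw [LinearMap.range_eq_top]
      intro p
      exact ⟨p.1 • z - p.2 • u, by simp [Φ, huu, hzz, huz, hzu]⟩
    have := LinearMap.finrank_range_add_finrank_ker Φ
    rw [hk, hr, finrank_top, finrank_prod, finrank_self] at this
    omega
  let B' : LinearMap.BilinForm F W := B.compl₁₂ W.subtype W.subtype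
  have hB' : ∀ a b : W, B' a b = B a b := fun _ _ => rfl
  obtain ⟨k, e, f, hk, hef⟩ := ih (finrank F W) (by omega) B' (fun a => halt a) (fun a ha => by
    refine Subtype.ext (hnd _ fun y => ?_)
    have h1 := ha ⟨_, hproj y⟩
    rw [hB'] at h1
    have h2 : B (a : V) u = 0 := by rw [← LinearMap.IsAlt.neg halt u (a : V), ((hW _).mp a.2).1, neg_zero]
    have h3 : B (a : V) z = 0 := by rw [← LinearMap.IsAlt.neg halt z (a : V), ((hW _).mp a.2).2, neg_zero]
    simpa [h2, h3] using h1) rfl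
  refine ⟨k + 1, Fin.cons u fun i => (e i : V), Fin.cons z fun i => (f i : V), by omega, fun i j => ?_⟩
  have hl : ∀ w : W, B u (w : V) = 0 ∧ B z (w : V) = 0 ∧ B (w : V) u = 0 ∧ B (w : V) z = 0 := fun w =>
    ⟨((hW _).mp w.2).1, ((hW _).mp w.2).2, by rw [← LinearMap.IsAlt.neg halt u (w : V), ((hW _).mp w.2).1, neg_zero],
      by rw [← LinearMap.IsAlt.neg halt z (w : V), ((hW _).mp w.2).2, neg_zero]⟩
  refine Fin.cases ?_ (fun i => ?_) i <;> refine Fin.cases ?_ (fun j => ?_) j
  · simp [huu, hzz, huz]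
  · simp [hl, (Fin.succ_ne_zero j).symm]
  · simp [hl, Fin.succ_ne_zero i]
  · simpa [hB'] using hef i j

/-- A symmetric non-alternating non-degenerate form in characteristic two has an orthonormal family. -/
theorem exists_orthonormal_family [Fintype F] [CharP F 2] :
    ∀ (n : ℕ) {V : Type*} [AddCommGroup V] [Module F V] [FiniteDimensional F V]
    (B : LinearMap.BilinForm F V), (∀ x y, B x y = B y x) → (∀ x, (∀ y, B x y = 0) → x = 0) →
      (n ≠ 0 → ∃ x, B x x ≠ 0) → finrank F V = n →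
    ∃ e : Fin n → V, ∀ i j, B (e i) (e j) = if i = j then 1 else 0 := by
  intro n
  induction n with
  | zero => intro V _ _ _ B _ _ _ _; exact ⟨Fin.elim0, fun i => i.elim0⟩
  | succ n ih =>
  intro V _ _ _ B hsym hnd hna hn
  have one : ∃ v, B v v = 1 := by
    obtain ⟨x, hx⟩ := hna (Nat.succ_ne_zero n)
    obtain ⟨s, hs⟩ := FiniteField.isSquare_of_char_two (ringChar.eq F 2) (B x x)
    have hs0 : s ≠ 0 := by rintro rfl; exact hx (by simpa using hs)
    exact ⟨s⁻¹ • x, by simp [hs]; field_simp⟩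
  have good : ∃ v, B v v = 1 ∧ (n ≠ 0 → ∃ w, B v w = 0 ∧ B w w ≠ 0) := by
    obtain ⟨v, hv⟩ := one
    by_cases hW : ∃ w, B v w = 0 ∧ B w w ≠ 0
    · exact ⟨v, hv, fun _ => hW⟩
    push Not at hW
    by_cases hn0 : n = 0
    · exact ⟨v, hv, fun h => absurd hn0 h⟩
    obtain ⟨e, he, he0⟩ : ∃ e, B v e = 0 ∧ e ≠ 0 := by
      by_contra! h
      have hbot : LinearMap.ker (B v) = ⊥ := (Submodule.eq_bot_iff _).mpr h
      have := LinearMap.finrank_range_add_finrank_ker (B v)
      rw [hbot, finrank_bot] at this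
      have h2 := Submodule.finrank_le (LinearMap.range (B v))
      rw [finrank_self] at h2
      omega
    obtain ⟨y, hy⟩ : ∃ y, B e y ≠ 0 := by by_contra! h; exact he0 (hnd e h)
    have hev : B e v = 0 := by rw [hsym, he]
    let f := (B e y)⁻¹ • (y - B v y • v)
    have hvf : B v f = 0 := by simp [f, hv]
    have hef : B e f = 1 := by simp [f, hev, hy]
    have hfv : B f v = 0 := by rw [hsym, hvf]
    refine ⟨v + e, ?_, fun _ => ⟨v + f, ?_, ?_⟩⟩
    · simp [hv, he, hev, hW e he]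
    · simp [hv, hvf, hev, hef]
      exact CharTwo.add_self_eq_zero (1 : F)
    · simp [hv, hvf, hfv, hW f hvf]
  obtain ⟨v, hv, hgood⟩ := good
  let W : Submodule F V := LinearMap.ker (B v)
  have hproj : ∀ y, y - B v y • v ∈ W := fun y => by simp [W, hv]
  have hWn : finrank F W = n := by
    have hr : LinearMap.range (B v) = ⊤ := by
      rw [LinearMap.range_eq_top]
      intro c; exact ⟨c • v, by simp [hv]⟩
    have h1 := LinearMap.finrank_range_add_finrank_ker (B v)
    rw [hr, finrank_top, finrank_self] at h1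
    show finrank F (LinearMap.ker (B v)) = n
    omega
  let B' : LinearMap.BilinForm F W := B.compl₁₂ W.subtype W.subtype
  have hvW : ∀ a : W, B v (a : V) = 0 := fun a => a.2
  obtain ⟨e, he⟩ := ih B' (fun a b => hsym _ _) (fun a ha => by
    refine Subtype.ext (hnd _ fun y => ?_)
    have h1 : B (a : V) (y - B v y • v) = 0 := ha ⟨_, hproj y⟩
    simpa [hsym (a : V) v, hvW] using h1) (fun h => by
    obtain ⟨w, hw, hw'⟩ := hgood h
    exact ⟨⟨w, hw⟩, hw'⟩) hWn
  refine ⟨Fin.cons v fun i => (e i : V), fun i j => ?_⟩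
  refine Fin.cases ?_ (fun i => ?_) i <;> refine Fin.cases ?_ (fun j => ?_) j
  · simp [hv]
  · simp [hvW, (Fin.succ_ne_zero j).symm]
  · simp [hsym _ v, hvW, Fin.succ_ne_zero i]
  · simpa [B'] using he i j

/-! ### Classification -/

section

variable {ι κ : Type} [Fintype ι] [DecidableEq ι] [Fintype κ] [DecidableEq κ]

theorem toBilin'_nd {M : Matrix ι ι F} (hdet : M.det ≠ 0) :
    ∀ x, (∀ y, Matrix.toBilin' M x y = 0) → x = 0 :=
  (LinearMap.BilinForm.nondegenerate_toBilin'_iff_det_ne_zero.mpr hdet).1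

theorem congr_alternating {M : Matrix ι ι F} (hdiag : ∀ i, M i i = 0) (hskew : Mᵀ = -M) (hdet : M.det ≠ 0) :
    ∃ m, Fintype.card ι = 2 * m ∧ Congr M (Matrix.J (Fin m) F) := by
  have halt : (Matrix.toBilin' M).IsAlt := fun v => by
    rw [Matrix.toBilin'_apply']
    exact (diag_zero_iff_self_zero M hskew).mp hdiag v
  obtain ⟨m, e, f, hm, hef⟩ := exists_symp_family (Fintype.card ι) _ halt (toBilin'_nd hdet)
    (Module.finrank_fintype_fun_eq_card F)
  refine ⟨m, hm, congr_of_family (by simp; omega) ?_ (Sum.elim f e) fun a b => ?_⟩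
  · intro h
    have := Matrix.J_det_mul_J_det (Fin m) F
    rw [h, mul_zero] at this
    exact zero_ne_one this
  · rw [← Matrix.toBilin'_apply']
    rcases a with i | i <;> rcases b with j | j <;>
      simp only [Sum.elim_inl, Sum.elim_inr, Matrix.J, Matrix.fromBlocks_apply₁₁, Matrix.fromBlocks_apply₁₂,
        Matrix.fromBlocks_apply₂₁, Matrix.fromBlocks_apply₂₂, Matrix.zero_apply]
    · exact (hef i j).2.1
    · rw [← LinearMap.IsAlt.neg halt (e j) (f i), (hef j i).2.2, Matrix.neg_apply, Matrix.one_apply]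
      simp [eq_comm]
    · rw [(hef i j).2.2, Matrix.one_apply]
    · exact (hef i j).1

theorem congr_one_char_two [Fintype F] [CharP F 2] {M : Matrix ι ι F} (hsym : Mᵀ = M) (hdet : M.det ≠ 0)
    (hna : ∃ i, M i i ≠ 0) (hcard : Fintype.card ι = Fintype.card κ) : Congr M (1 : Matrix κ κ F) := by
  obtain ⟨e, he⟩ := exists_orthonormal_family (Fintype.card κ) (Matrix.toBilin' M) (fun x y => by
      rw [Matrix.toBilin'_apply', Matrix.toBilin'_apply', dotProduct_comm, Matrix.dotProduct_mulVec,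
        dotProduct_comm, ← Matrix.mulVec_transpose, hsym, dotProduct_comm])
    (toBilin'_nd hdet) (fun _ => by
      obtain ⟨i, hi⟩ := hna
      exact ⟨Pi.single i 1, by rwa [Matrix.toBilin'_single]⟩)
    ((Module.finrank_fintype_fun_eq_card F).trans hcard)
  refine congr_of_family hcard (by simp) (e ∘ Fintype.equivFin κ) fun a b => ?_
  rw [← Matrix.toBilin'_apply', Function.comp_apply, Function.comp_apply, he, Matrix.one_apply]
  simp

theorem congr_symmetric_fin [Fintype F] (h2 : (2 : F) ≠ 0) {n : ℕ} {M N : Matrix (Fin n) (Fin n) F}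
    (hM : Mᵀ = M) (hN : Nᵀ = N) (hMd : M.det ≠ 0) (hNd : N.det ≠ 0) (hsq : IsSquare (M.det * N.det)) :
    Congr M N := by
  classical
  let Q (A : Matrix (Fin n) (Fin n) F) : QuadraticForm F (Fin n → F) := (Matrix.toBilin' A).toQuadraticMap
  have hQ : ∀ A v, Q A v = v ⬝ᵥ (A *ᵥ v) := fun A v => by
    rw [LinearMap.BilinMap.toQuadraticMap_apply, Matrix.toBilin'_apply']
  have hp : ∀ {A}, Aᵀ = A → ∀ x y, QuadraticMap.polar ⇑(Q A) x y = 2 * (x ⬝ᵥ (A *ᵥ y)) := by
    intro A hA x y
    rw [LinearMap.BilinMap.polar_toQuadraticMap, Matrix.toBilin'_apply', Matrix.toBilin'_apply',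
      Matrix.dotProduct_mulVec y, dotProduct_comm (y ᵥ* A), ← Matrix.mulVec_transpose, hA, two_mul]
  have hgram : ∀ {A}, Aᵀ = A →
      (Matrix.of fun i j : Fin n => QuadraticMap.polar ⇑(Q A) (Pi.single i 1) (Pi.single j 1)) = (2 : F) • A := by
    intro A hA; ext i j
    rw [Matrix.of_apply, hp hA]
    simp
  have hnd : ∀ {A}, Aᵀ = A → A.det ≠ 0 → (QuadraticMap.polarBilin (Q A)).Nondegenerate := by
    intro A hA hAd
    have : QuadraticMap.polarBilin (Q A) = Matrix.toBilin' ((2 : F) • A) := by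
      refine LinearMap.ext fun x => LinearMap.ext fun y => ?_
      rw [QuadraticMap.polarBilin_apply_apply, hp hA, map_smul]
      simp [Matrix.toBilin'_apply']
    rw [this]
    refine LinearMap.BilinForm.nondegenerate_toBilin'_iff_det_ne_zero.mpr ?_
    rw [Matrix.det_smul]
    exact mul_ne_zero (pow_ne_zero _ h2) hAd
  obtain ⟨s, hs⟩ := hsq
  obtain ⟨e⟩ := FormsDisc.equivalent_of_disc h2 (Q N) (Q M) (hnd hN hNd) (hnd hM hMd) (by
    rw [hgram hN, hgram hM, Matrix.det_smul, Matrix.det_smul]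
    exact ⟨(2 : F) ^ Fintype.card (Fin n) * s, by linear_combination ((2 : F) ^ Fintype.card (Fin n)) ^ 2 * hs⟩)
  refine congr_of_family rfl hNd (fun a => e (Pi.single a 1)) fun a b => mul_left_cancel₀ h2 ?_
  have h := e.map_app (Pi.single a 1 + Pi.single b 1)
  have ha := e.map_app (Pi.single a 1)
  have hb := e.map_app (Pi.single b 1)
  calc 2 * (e (Pi.single a 1) ⬝ᵥ (M *ᵥ e (Pi.single b 1)))
      = QuadraticMap.polar ⇑(Q M) (e (Pi.single a 1)) (e (Pi.single b 1)) := (hp hM _ _).symm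
    _ = QuadraticMap.polar ⇑(Q N) (Pi.single a 1) (Pi.single b 1) := by
        rw [QuadraticMap.polar, QuadraticMap.polar, ← map_add e, h, ha, hb]
    _ = 2 * N a b := by rw [hp hN]; simp

theorem congr_symmetric [Fintype F] (h2 : (2 : F) ≠ 0) {M : Matrix ι ι F} {N : Matrix κ κ F}
    (hcard : Fintype.card ι = Fintype.card κ)
    (hM : Mᵀ = M) (hN : Nᵀ = N) (hMd : M.det ≠ 0) (hNd : N.det ≠ 0) (hsq : IsSquare (M.det * N.det)) :
    Congr M N := by
  let e : Fin (Fintype.card ι) ≃ ι := (Fintype.equivFin ι).symm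
  let f : Fin (Fintype.card ι) ≃ κ := (finCongr hcard).trans (Fintype.equivFin κ).symm
  refine (congr_submatrix M e).trans (Congr.trans ?_ (congr_submatrix N f).symm)
  refine congr_symmetric_fin h2 ?_ ?_ ?_ ?_ ?_
  · rw [Matrix.transpose_submatrix, hM]
  · rw [Matrix.transpose_submatrix, hN]
  · rwa [Matrix.det_submatrix_equiv_self]
  · rwa [Matrix.det_submatrix_equiv_self]
  · rwa [Matrix.det_submatrix_equiv_self, Matrix.det_submatrix_equiv_self]

end

end CfsgLib.AutPSL
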