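import Mathlib
import Cfsg.Agent.Lib.AutPSL.Basic

/-!
Root elements `g x_{ij}(t) g⁻¹` of `SL_n`/`PSL_n`, the upper unitriangular group as a Sylow subgroup,
and its centre.
-/

namespace CfsgLib.AutPSL

open Matrix
open scoped MatrixGroups

variable {n : ℕ} {F : Type*} [Field F]

/-- Root element `x_{ij}(t)` in `PSL_n`. -/
def rootPSL {i j : Fin n} (hij : i ≠ j) (t : F) : PSLg n F :=
  QuotientGroup.mk (SpecialLinearGroup.transvection hij t)

theorem rootPSL_add {i j : Fin n} (hij : i ≠ j) (s t : F) :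
    rootPSL hij (s + t) = rootPSL hij s * rootPSL hij t := by
  rw [rootPSL, SpecialLinearGroup.transvection_add]; rfl

theorem rootPSL_zero {i j : Fin n} (hij : i ≠ j) : rootPSL hij (0 : F) = 1 := by
  rw [rootPSL, SpecialLinearGroup.transvection_coeff_zero]; rfl

theorem rootPSL_injective {i j : Fin n} (hij : i ≠ j) :
    Function.Injective (rootPSL hij : F → PSLg n F) := by
  intro s t h
  rw [rootPSL, rootPSL, QuotientGroup.eq, SpecialLinearGroup.transvection_inv,
    ← SpecialLinearGroup.transvection_add, SpecialLinearGroup.transvection_mem_center_iff] at h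
  linear_combination -h

/-- The root subgroup `X_{ij}` of `PSL_n`. -/
def rootSub {i j : Fin n} (hij : i ≠ j) : Subgroup (PSLg n F) where
  carrier := Set.range (rootPSL hij)
  mul_mem' := by
    rintro _ _ ⟨s, rfl⟩ ⟨t, rfl⟩
    exact ⟨s + t, rootPSL_add hij s t⟩
  one_mem' := ⟨0, rootPSL_zero hij⟩
  inv_mem' := by
    rintro _ ⟨s, rfl⟩
    refine ⟨-s, (inv_eq_of_mul_eq_one_right ?_).symm⟩
    rw [← rootPSL_add, add_neg_cancel, rootPSL_zero]

theorem mem_rootSub {i j : Fin n} {hij : i ≠ j} {x : PSLg n F} :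
    x ∈ rootSub hij ↔ ∃ t, rootPSL hij t = x := Iff.rfl

/-! ### Unipotent lifts are unique -/

variable (p : ℕ) [Fact p.Prime] [CharP F p]

theorem eq_one_of_pow_prime_pow {r : F} {k : ℕ} (h : r ^ (p ^ k) = 1) : r = 1 := by
  have h0 : (r - 1) ^ (p ^ k) = 0 := by rw [sub_pow_char_pow, h, one_pow, sub_self]
  exact sub_eq_zero.mp (eq_zero_of_pow_eq_zero h0)

theorem center_eq_one_of_pow {z : SLg n F} (hz : z ∈ Subgroup.center (SLg n F)) {k : ℕ}
    (h : z ^ (p ^ k) = 1) : z = 1 := by
  obtain ⟨r, _, hrz⟩ := Matrix.SpecialLinearGroup.mem_center_iff.mp hz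
  rcases Nat.eq_zero_or_pos n with hn | hn
  · subst hn; exact Subsingleton.elim _ _
  haveI : Nonempty (Fin n) := ⟨⟨0, hn⟩⟩
  have : Matrix.scalar (Fin n) (r ^ (p ^ k)) = Matrix.scalar (Fin n) (1 : F) := by
    rw [map_pow, hrz, map_one]
    exact (Matrix.SpecialLinearGroup.coe_pow z _).symm.trans (congrArg Subtype.val h)
  have hr := eq_one_of_pow_prime_pow p (Matrix.scalar_inj.mp this)
  apply Subtype.ext
  rw [← hrz, hr, map_one]
  rfl

/-- Two elements of `p`-power order of `SL_n` with the same class in `PSL_n` are equal. -/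
theorem eq_of_mk_eq {A B : SLg n F} {k : ℕ} (hA : A ^ (p ^ k) = 1) (hB : B ^ (p ^ k) = 1)
    (h : (QuotientGroup.mk A : PSLg n F) = QuotientGroup.mk B) : A = B := by
  have hz : A⁻¹ * B ∈ Subgroup.center (SLg n F) := QuotientGroup.eq.mp h
  have hcomm : Commute A⁻¹ B := by
    have hc := Subgroup.mem_center_iff.mp hz A
    show A⁻¹ * B = B * A⁻¹
    rw [← mul_assoc, mul_inv_cancel, one_mul] at hc
    calc A⁻¹ * B = (A⁻¹ * B * A) * A⁻¹ := by group
      _ = B * A⁻¹ := by rw [← hc]
  have : A⁻¹ * B = 1 := center_eq_one_of_pow p hz (k := k) (by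
    rw [hcomm.mul_pow, inv_pow, hA, hB]; simp)
  exact inv_mul_eq_one.mp this

theorem transvection_pow_eq_one {i j : Fin n} (hij : i ≠ j) (t : F) :
    SpecialLinearGroup.transvection hij t ^ p = 1 := by
  have : ∀ m : ℕ, SpecialLinearGroup.transvection hij t ^ m =
      SpecialLinearGroup.transvection hij ((m : F) * t) := by
    intro m
    induction m with
    | zero => simp
    | succ m ih => rw [pow_succ, ih, ← SpecialLinearGroup.transvection_add]; push_cast; ring_nf
  rw [this, CharP.cast_eq_zero, zero_mul, SpecialLinearGroup.transvection_coeff_zero]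

theorem conjSL_transvection_pow_eq_one (g : GL (Fin n) F) {i j : Fin n} (hij : i ≠ j) (t : F) :
    conjSL g (SpecialLinearGroup.transvection hij t) ^ p = 1 := by
  rw [← map_pow, transvection_pow_eq_one p hij t, map_one]

omit [Fact p.Prime] [CharP F p] in
theorem conjSL_transvection_coe (g : GL (Fin n) F) {i j : Fin n} (hij : i ≠ j) (t : F) :
    (conjSL g (SpecialLinearGroup.transvection hij t)).1 =
      1 + t • Matrix.vecMulVec (g.1.col i) ((g⁻¹).1 j) := by
  rw [conjSL_coe, SpecialLinearGroup.transvection_coe, Matrix.mul_add, Matrix.add_mul, Matrix.mul_one,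
    Units.mul_inv]
  congr 1
  ext k l
  rw [Matrix.mul_apply]
  rw [Finset.sum_eq_single j]
  · simp [Matrix.vecMulVec_apply, Matrix.mul_single_apply_same, Matrix.col_apply]; ring
  · intro b _ hb
    simp [Matrix.mul_single_apply_of_ne (hbj := hb)]
  · simp

/-! ### The upper unitriangular group -/

/-- The upper unitriangular subgroup of `SL_n` over a finite field. -/
def uniTri (n : ℕ) (F : Type*) [Field F] [Finite F] : Subgroup (SLg n F) :=
  let M : Submonoid (SLg n F) :=
    { carrier := {s | s.1.BlockTriangular id ∧ ∀ i, s.1 i i = 1}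
      one_mem' := ⟨Matrix.blockTriangular_one, fun i => by simp⟩
      mul_mem' := fun {s t} hs ht => ⟨hs.1.mul ht.1, fun i => by
        show (s.1 * t.1) i i = 1
        rw [Matrix.mul_apply, Finset.sum_eq_single i]
        · rw [hs.2, ht.2, one_mul]
        · intro k _ hk
          rcases lt_or_gt_of_ne hk with h | h
          · rw [hs.1 (show id k < id i from h), zero_mul]
          · rw [ht.1 (show id i < id k from h), mul_zero]
        · simp⟩ }
  { M with
    inv_mem' := fun {s} hs => by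
      show s⁻¹ ∈ M
      have hs' : s ∈ M := hs
      rw [show s⁻¹ = s ^ (orderOf s - 1) by
        rw [inv_eq_iff_mul_eq_one, ← pow_succ', Nat.sub_add_cancel (orderOf_pos s), pow_orderOf_eq_one]]
      exact pow_mem hs' _ }

section Finite

variable [Finite F]

omit [Fact p.Prime] [CharP F p] in
theorem mem_uniTri {s : SLg n F} :
    s ∈ uniTri n F ↔ s.1.BlockTriangular id ∧ ∀ i, s.1 i i = 1 := Iff.rfl

omit [Fact p.Prime] [CharP F p] in
theorem transvection_mem_uniTri {i j : Fin n} (hij : i < j) (t : F) :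
    SpecialLinearGroup.transvection hij.ne t ∈ uniTri n F := by
  rw [mem_uniTri, SpecialLinearGroup.transvection_coe]
  refine ⟨fun a b hab => ?_, fun a => ?_⟩
  · have h1 : a ≠ b := ne_of_gt hab
    have h2 : ¬ (i = a ∧ j = b) := by rintro ⟨rfl, rfl⟩; exact lt_asymm hij hab
    simp [h1, Matrix.single_apply, h2]
  · have h2 : ¬ (i = a ∧ j = a) := by rintro ⟨rfl, rfl⟩; exact lt_irrefl _ hij
    simp [Matrix.single_apply, h2]

/-- The free coordinates of the upper unitriangular group. -/
def uniTriEquiv : ↥(uniTri n F) ≃ ((j : Fin n) → Fin (j : ℕ) → F) where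
  toFun s j i := s.1.1 ⟨i, i.2.trans j.2⟩ j
  invFun c :=
    let A : Matrix (Fin n) (Fin n) F :=
      Matrix.of fun i j => if h : (i : ℕ) < j then c j ⟨i, h⟩ else if i = j then 1 else 0
    have hA : A.BlockTriangular id := fun a b hab => by
      have : ¬ (a : ℕ) < b := not_lt.mpr (le_of_lt hab)
      have h' : ¬ a < b := not_lt.mpr (le_of_lt hab)
      simp [A, h', ne_of_gt (show b < a from hab)]
    ⟨⟨A, by
      rw [Matrix.det_of_isUpperTriangular (M := A) hA]
      exact Finset.prod_eq_one fun i _ => by simp [A]⟩, ⟨hA, fun i => by simp [A]⟩⟩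
  left_inv s := by
    refine Subtype.ext (Subtype.ext ?_)
    ext i j
    show (if h : (i : ℕ) < j then _ else if i = j then (1 : F) else 0) = s.1.1 i j
    by_cases h : (i : ℕ) < j
    · rw [dif_pos h]
    · rw [dif_neg h]
      by_cases h' : i = j
      · subst h'; rw [if_pos rfl]; exact ((mem_uniTri.mp s.2).2 i).symm
      · rw [if_neg h']
        exact ((mem_uniTri.mp s.2).1 (show id j < id i from lt_of_le_of_ne (not_lt.mp h) (Ne.symm h'))).symm
  right_inv c := by
    funext j i
    show (if h : (i : ℕ) < j then _ else _) = _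
    rw [dif_pos i.2]

omit [Fact p.Prime] [CharP F p] in
theorem card_uniTri : Nat.card ↥(uniTri n F) = ∏ j : Fin n, Nat.card F ^ (j : ℕ) := by
  rw [Nat.card_congr uniTriEquiv, Nat.card_pi]
  exact Finset.prod_congr rfl fun j _ => by rw [Nat.card_fun, Nat.card_fin]

end Finite

section Fintype

variable [Fintype F]

theorem isPGroup_uniTri : IsPGroup p ↥(uniTri n F) := by
  obtain ⟨f, _, hf⟩ := FiniteField.card F p
  refine IsPGroup.of_card (n := ∑ j : Fin n, (f : ℕ) * (j : ℕ)) ?_
  rw [card_uniTri, Nat.card_eq_fintype_card, hf, ← Finset.prod_pow_eq_pow_sum]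
  exact Finset.prod_congr rfl fun j _ => (pow_mul _ _ _).symm

omit [Fact p.Prime] [CharP F p] in
theorem card_GL_eq_uniTri_mul :
    Nat.card (GL (Fin n) F) =
      Nat.card ↥(uniTri n F) * ∏ j : Fin n, (Fintype.card F ^ (n - j) - 1) := by
  rw [Matrix.card_GL_field, card_uniTri, Nat.card_eq_fintype_card, ← Finset.prod_mul_distrib]
  refine Finset.prod_congr rfl fun j _ => ?_
  rw [Nat.mul_sub, mul_one, ← pow_add, Nat.add_sub_cancel' j.2.le]

omit [Fintype F] in
theorem uniTri_inf_center [Finite F] {z : SLg n F} (hz : z ∈ uniTri n F)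
    (hc : z ∈ Subgroup.center (SLg n F)) : z = 1 := by
  obtain ⟨r, _, hrz⟩ := Matrix.SpecialLinearGroup.mem_center_iff.mp hc
  apply Subtype.ext
  rcases Nat.eq_zero_or_pos n with hn | hn
  · subst hn; exact Subsingleton.elim _ _
  have h1 := (mem_uniTri.mp hz).2 ⟨0, hn⟩
  rw [← hrz] at h1
  simp at h1
  rw [← hrz, h1, map_one]
  rfl

/-- The image of the upper unitriangular group in `PSL_n`. -/
def uniTriPSL (n : ℕ) (F : Type*) [Field F] [Finite F] : Subgroup (PSLg n F) :=
  (uniTri n F).map (QuotientGroup.mk' _)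

omit [Fintype F] in
theorem card_uniTriPSL [Finite F] : Nat.card ↥(uniTriPSL n F) = Nat.card ↥(uniTri n F) := by
  refine (Nat.card_congr (Equiv.ofBijective
    (fun s : ↥(uniTri n F) => (⟨QuotientGroup.mk' _ s.1, Subgroup.mem_map_of_mem _ s.2⟩ : ↥(uniTriPSL n F)))
    ⟨?_, ?_⟩)).symm
  · intro s t h
    have h' : (QuotientGroup.mk s.1 : PSLg n F) = QuotientGroup.mk t.1 := congrArg Subtype.val h
    exact Subtype.ext (inv_mul_eq_one.mp (uniTri_inf_center (mul_mem (inv_mem s.2) t.2) (QuotientGroup.eq.mp h')))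
  · rintro ⟨x, s, hs, rfl⟩
    exact ⟨⟨s, hs⟩, rfl⟩

theorem not_dvd_index_uniTriPSL : ¬ p ∣ (uniTriPSL n F).index := by
  have hp : p.Prime := Fact.out
  have h1 : Nat.card (PSLg n F) ∣ Nat.card (GL (Fin n) F) :=
    (Subgroup.card_quotient_dvd_card _).trans
      (Subgroup.card_dvd_of_injective (SpecialLinearGroup.toGL (n := Fin n) (R := F))
        SpecialLinearGroup.toGL_injective)
  rw [← Subgroup.card_mul_index (uniTriPSL n F), card_uniTriPSL, card_GL_eq_uniTri_mul] at h1
  have h2 := Nat.dvd_of_mul_dvd_mul_left Nat.card_pos h1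
  intro hdvd
  obtain ⟨j, _, hj⟩ := (Prime.dvd_finset_prod_iff hp.prime _).mp (hdvd.trans h2)
  have hq : p ∣ Fintype.card F ^ (n - (j : ℕ)) := by
    obtain ⟨f, _, hf⟩ := FiniteField.card F p
    rw [hf, ← pow_mul]
    exact dvd_pow_self p (Nat.mul_ne_zero f.pos.ne' (by omega))
  have hle : 1 ≤ Fintype.card F ^ (n - (j : ℕ)) := Nat.one_le_pow _ _ Fintype.card_pos
  have := Nat.dvd_sub hq hj
  rw [Nat.sub_sub_self hle] at this
  exact hp.one_lt.ne' (Nat.dvd_one.mp this)

/-- The upper unitriangular group as a Sylow subgroup of `PSL_n`. -/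
def uniTriSylow : Sylow p (PSLg n F) :=
  ((isPGroup_uniTri (F := F) (n := n) p).map (QuotientGroup.mk' _)).toSylow (not_dvd_index_uniTriPSL p)

theorem coe_uniTriSylow : ((uniTriSylow p : Sylow p (PSLg n F)) : Subgroup (PSLg n F)) = uniTriPSL n F := rfl

theorem uniTri_pow_eq_one {s : SLg n F} (hs : s ∈ uniTri n F) : ∃ k, s ^ (p ^ k) = 1 := by
  obtain ⟨k, hk⟩ := isPGroup_uniTri (F := F) (n := n) p ⟨s, hs⟩
  exact ⟨k, congrArg Subtype.val hk⟩

include p in
/-- The centre of the unitriangular group of `PSL_n` is the highest root subgroup. -/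
theorem mem_rootSub_of_central {a b : Fin n} (hab : a < b) (ha : ∀ i, a ≤ i) (hb : ∀ i, i ≤ b)
    {x : PSLg n F} (hx : x ∈ uniTriPSL n F) (hc : ∀ y ∈ uniTriPSL n F, x * y = y * x) :
    x ∈ rootSub hab.ne := by
  obtain ⟨A, hA, rfl⟩ := hx
  have hcomm : ∀ (k l : Fin n) (h : k < l),
      A.1 * Matrix.single k l 1 = Matrix.single k l 1 * A.1 := by
    intro k l h
    have hB := transvection_mem_uniTri (F := F) h 1
    have he := hc _ (Subgroup.mem_map_of_mem (QuotientGroup.mk' _) hB)
    obtain ⟨k1, hk1⟩ := uniTri_pow_eq_one p (mul_mem (mul_mem hA hB) (inv_mem hA))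
    obtain ⟨k2, hk2⟩ := uniTri_pow_eq_one p hB
    have hm : (QuotientGroup.mk (A * SpecialLinearGroup.transvection h.ne 1 * A⁻¹) : PSLg n F) =
        QuotientGroup.mk (SpecialLinearGroup.transvection h.ne 1) := by
      rw [QuotientGroup.mk_mul, QuotientGroup.mk_mul, QuotientGroup.mk_inv]
      exact mul_inv_eq_iff_eq_mul.mpr he
    have hAB := eq_of_mk_eq p (k := k1 + k2)
      (by rw [pow_add, pow_mul, hk1, one_pow]) (by rw [pow_add, mul_comm, pow_mul, hk2, one_pow]) hm
    have hAB' : A.1 * (1 + Matrix.single k l 1) = (1 + Matrix.single k l 1) * A.1 :=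
      congrArg Subtype.val ((mul_inv_eq_iff_eq_mul (G := SLg n F)).mp hAB)
    simp only [Matrix.mul_add, Matrix.add_mul, Matrix.mul_one, Matrix.one_mul] at hAB'
    exact add_left_cancel hAB'
  refine ⟨A.1 a b, congrArg _ (Subtype.ext ?_)⟩
  rw [SpecialLinearGroup.transvection_coe]
  ext i j
  rw [Matrix.add_apply, Matrix.single_apply]
  by_cases hij : i = j
  · subst hij
    rw [Matrix.one_apply_eq, if_neg (by rintro ⟨rfl, rfl⟩; exact lt_irrefl _ hab), add_zero,
      (mem_uniTri.mp hA).2]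
  rw [Matrix.one_apply_ne hij, zero_add]
  by_cases h : a = i ∧ b = j
  · rw [if_pos h, h.1, h.2]
  rw [if_neg h]
  by_cases hjb : j = b
  · have hia : i ≠ a := fun h' => h ⟨h'.symm, hjb.symm⟩
    have hk : a < i := lt_of_le_of_ne (ha i) (Ne.symm hia)
    have := congrFun (congrFun (hcomm a i hk) a) j
    rw [Matrix.mul_single_apply_of_ne (hbj := Ne.symm hij), Matrix.single_mul_apply_same, one_mul] at this
    exact this
  · have hk : j < b := lt_of_le_of_ne (hb j) hjb
    have := congrFun (congrFun (hcomm j b hk) i) b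
    rw [Matrix.mul_single_apply_same, Matrix.single_mul_apply_of_ne (h := hij), mul_one] at this
    exact this.symm

omit [Fact p.Prime] [CharP F p] [Fintype F] in
theorem rootSub_central [Finite F] {a b : Fin n} (hab : a < b) (ha : ∀ i, a ≤ i) (hb : ∀ i, i ≤ b)
    {x : PSLg n F} (hx : x ∈ rootSub hab.ne) :
    x ∈ uniTriPSL n F ∧ ∀ y ∈ uniTriPSL n F, x * y = y * x := by
  obtain ⟨t, rfl⟩ := hx
  refine ⟨Subgroup.mem_map_of_mem _ (transvection_mem_uniTri hab t), ?_⟩
  rintro _ ⟨A, hA, rfl⟩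
  show QuotientGroup.mk (SpecialLinearGroup.transvection hab.ne t * A) =
    (QuotientGroup.mk (A * SpecialLinearGroup.transvection hab.ne t) : PSLg n F)
  refine congrArg _ (Subtype.ext ?_)
  show (1 + Matrix.single a b t) * A.1 = A.1 * (1 + Matrix.single a b t)
  simp only [Matrix.mul_add, Matrix.add_mul, Matrix.mul_one, Matrix.one_mul]
  congr 1
  obtain ⟨h1, h2⟩ := mem_uniTri.mp hA
  ext i j
  by_cases hi : i = a <;> by_cases hj : j = b
  · subst hi hj
    rw [Matrix.single_mul_apply_same, Matrix.mul_single_apply_same, h2, h2]; ring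
  · subst hi
    rw [Matrix.single_mul_apply_same, Matrix.mul_single_apply_of_ne (hbj := hj),
      h1 (show id j < id b from lt_of_le_of_ne (hb j) hj), mul_zero]
  · subst hj
    rw [Matrix.single_mul_apply_of_ne (h := hi), Matrix.mul_single_apply_same,
      h1 (show id a < id i from lt_of_le_of_ne (ha i) (Ne.symm hi)), zero_mul]
  · rw [Matrix.single_mul_apply_of_ne (h := hi), Matrix.mul_single_apply_of_ne (hbj := hj)]

include p in
/-- Every automorphism sends every root subgroup to a conjugate of the highest one. -/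
theorem exists_map_rootSub (β : MulAut (PSLg n F)) {a b : Fin n} (hab : a < b) (ha : ∀ i, a ≤ i)
    (hb : ∀ i, i ≤ b) : ∃ g : GL (Fin n) F, ∀ x, β x ∈ (rootSub (F := F) hab.ne).map (diagAut g).toMonoidHom ↔
      x ∈ rootSub (F := F) hab.ne := by
  have hP := ((isPGroup_uniTri (F := F) (n := n) p).map (QuotientGroup.mk' _)).map β.toMonoidHom
  obtain ⟨Q, hQ⟩ := hP.exists_le_sylow
  obtain ⟨y, hy⟩ := MulAction.exists_smul_eq (PSLg n F) Q (uniTriSylow p : Sylow p (PSLg n F))
  obtain ⟨s, rfl⟩ := QuotientGroup.mk_surjective y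
  refine ⟨(SpecialLinearGroup.toGL s)⁻¹, ?_⟩
  let α : MulAut (PSLg n F) := MulAut.conj (QuotientGroup.mk s) * β
  have hle : (uniTriPSL n F).map α.toMonoidHom ≤ uniTriPSL n F := by
    rintro _ ⟨z, hz, rfl⟩
    show MulAut.conj (QuotientGroup.mk s) (β z) ∈ uniTriPSL n F
    rw [← coe_uniTriSylow p, ← hy]
    exact Subgroup.mem_map_of_mem _ (hQ ⟨z, hz, rfl⟩)
  have heq : (uniTriPSL n F).map α.toMonoidHom = uniTriPSL n F :=
    Subgroup.eq_of_le_of_card_ge hle
      (Subgroup.card_map_of_injective α.injective).ge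
  have hiff : ∀ z, α z ∈ uniTriPSL n F ↔ z ∈ uniTriPSL n F := by
    intro z
    conv_lhs => rw [← heq]
    exact Subgroup.mem_map_iff_mem α.injective
  have hroot : ∀ z, α z ∈ rootSub (F := F) hab.ne ↔ z ∈ rootSub (F := F) hab.ne := by
    intro z
    constructor
    · intro h
      obtain ⟨h1, h2⟩ := rootSub_central hab ha hb h
      refine mem_rootSub_of_central p hab ha hb ((hiff z).mp h1) fun w hw => α.injective ?_
      rw [map_mul, map_mul]
      exact h2 _ ((hiff w).mpr hw)
    · intro h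
      obtain ⟨h1, h2⟩ := rootSub_central hab ha hb h
      refine mem_rootSub_of_central p hab ha hb ((hiff z).mpr h1) fun w hw => ?_
      obtain ⟨w', rfl⟩ := α.surjective w
      rw [← map_mul, ← map_mul, h2 _ ((hiff w').mp hw)]
  intro x
  have hd : (diagAut (SpecialLinearGroup.toGL s)⁻¹ : MulAut (PSLg n F)) = (MulAut.conj (QuotientGroup.mk s))⁻¹ := by
    rw [map_inv, diagAut_toGL]
  rw [hd, Subgroup.map_equiv_eq_comap_symm', ← hroot x, Subgroup.mem_comap]
  rfl

end Fintype

end CfsgLib.AutPSL
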