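import Mathlib
import Cfsg.Agent.Lib.AutPSL.Root

/-!
Images of root subgroups of `PSL_n` under an arbitrary automorphism: they are groups of transvections
`1 + s u φ` with `φ ⬝ u = 0`, and the relations between them are preserved.
-/

namespace CfsgLib.AutPSL

open Matrix
open scoped MatrixGroups commutatorElement

variable {n : ℕ} {F : Type*} [Field F]

/-- `(u, φ)` describes the image of the root group `X_{ij}` under `β`. -/
structure IsRootImage (β : MulAut (PSLg n F)) {i j : Fin n} (hij : i ≠ j) (u φ : Fin n → F) : Prop where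
  fst_ne : u ≠ 0
  snd_ne : φ ≠ 0
  dot_eq : φ ⬝ᵥ u = 0
  fwd : ∀ t : F, ∃ (A : SLg n F) (s : F), (A : Matrix (Fin n) (Fin n) F) = 1 + s • Matrix.vecMulVec u φ ∧
    β (rootPSL hij t) = QuotientGroup.mk A
  bwd : ∀ (A : SLg n F) (s : F), (A : Matrix (Fin n) (Fin n) F) = 1 + s • Matrix.vecMulVec u φ →
    ∃ t : F, β (rootPSL hij t) = QuotientGroup.mk A

/-- Two vectors are non-zero multiples of each other. -/
def Par (u v : Fin n → F) : Prop := ∃ c : F, c ≠ 0 ∧ v = c • u

theorem Par.symm {u v : Fin n → F} (h : Par u v) : Par v u := by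
  obtain ⟨c, hc, rfl⟩ := h
  exact ⟨c⁻¹, inv_ne_zero hc, by rw [smul_smul, inv_mul_cancel₀ hc, one_smul]⟩

theorem Par.trans {u v w : Fin n → F} (h : Par u v) (h' : Par v w) : Par u w := by
  obtain ⟨c, hc, rfl⟩ := h
  obtain ⟨d, hd, rfl⟩ := h'
  exact ⟨d * c, mul_ne_zero hd hc, by rw [smul_smul]⟩

theorem Par.refl (u : Fin n → F) : Par u u := ⟨1, one_ne_zero, (one_smul _ _).symm⟩

/-- A permutation matrix as an element of `GL_n`. -/
def permGL (π : Equiv.Perm (Fin n)) : GL (Fin n) F :=
  ⟨(1 : Matrix (Fin n) (Fin n) F).submatrix π.symm id, (1 : Matrix (Fin n) (Fin n) F).submatrix id π.symm,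
    by rw [Matrix.submatrix_mul _ _ _ id _ Function.bijective_id |>.symm, Matrix.one_mul, Matrix.submatrix_one_equiv],
    by rw [Matrix.submatrix_mul _ _ _ π.symm _ π.symm.bijective |>.symm, Matrix.one_mul, Matrix.submatrix_id_id]⟩

theorem conjSL_permGL (π : Equiv.Perm (Fin n)) {a b : Fin n} (hab : a ≠ b) (hab' : π a ≠ π b) (t : F) :
    conjSL (permGL π) (SpecialLinearGroup.transvection hab t) = SpecialLinearGroup.transvection hab' t := by
  apply Subtype.ext
  rw [conjSL_transvection_coe, SpecialLinearGroup.transvection_coe]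
  congr 1
  ext k l
  show t * ((1 : Matrix (Fin n) (Fin n) F) (π.symm k) a * (1 : Matrix (Fin n) (Fin n) F) b (π.symm l)) =
    Matrix.single (π a) (π b) t k l
  rw [Matrix.single_apply, Matrix.one_apply, Matrix.one_apply]
  by_cases h1 : π a = k <;> by_cases h2 : π b = l
  · subst h1 h2; simp
  · rw [if_neg (by tauto : ¬ (π a = k ∧ π b = l)), if_neg (c := b = π.symm l)]
    · simp
    · intro h; exact h2 (by rw [h, Equiv.apply_symm_apply])
  · rw [if_neg (by tauto : ¬ (π a = k ∧ π b = l)), if_neg (c := π.symm k = a)]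
    · simp
    · intro h; exact h1 (by rw [← h, Equiv.apply_symm_apply])
  · rw [if_neg (by tauto : ¬ (π a = k ∧ π b = l)), if_neg (c := π.symm k = a)]
    · simp
    · intro h; exact h1 (by rw [← h, Equiv.apply_symm_apply])

theorem exists_perm_pair {a b i j : Fin n} (hab : a ≠ b) (hij : i ≠ j) :
    ∃ π : Equiv.Perm (Fin n), π a = i ∧ π b = j := by
  refine ⟨Equiv.swap (Equiv.swap a i b) j * Equiv.swap a i, ?_, ?_⟩
  · rw [Equiv.Perm.mul_apply, Equiv.swap_apply_left,
      Equiv.swap_apply_of_ne_of_ne (fun h => hab ?_) hij]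
    exact (Equiv.swap a i).injective (by rw [Equiv.swap_apply_left]; exact h)
  · rw [Equiv.Perm.mul_apply, Equiv.swap_apply_left]

variable [Fintype F]

/-- Every automorphism maps each root group to a group of transvections. -/
theorem exists_isRootImage (p : ℕ) [Fact p.Prime] [CharP F p] (β : MulAut (PSLg n F)) {i j : Fin n} (hij : i ≠ j) :
    ∃ u φ : Fin n → F, IsRootImage β hij u φ := by
  have hn : 0 < n := i.pos
  let a : Fin n := ⟨0, hn⟩
  let b : Fin n := ⟨n - 1, by omega⟩
  have hab : a < b := by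
    have : (i : ℕ) ≠ (j : ℕ) := fun h => hij (Fin.ext h)
    have := i.2; have := j.2
    show (0 : ℕ) < n - 1
    omega
  have ha : ∀ k, a ≤ k := fun k => Nat.zero_le _
  have hb : ∀ k, k ≤ b := fun k => by show (k : ℕ) ≤ n - 1; omega
  obtain ⟨π, hπa, hπb⟩ := exists_perm_pair hab.ne hij
  obtain ⟨g, hg⟩ := exists_map_rootSub p (β * diagAut (permGL π)) hab ha hb
  have hperm : ∀ t, diagAut (permGL π) (rootPSL hab.ne t) = rootPSL (F := F) hij t := by
    intro t
    subst hπa hπb
    exact congrArg QuotientGroup.mk (conjSL_permGL π hab.ne hij t)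
  refine ⟨g.1.col a, (g⁻¹).1 b, ?_, ?_, ?_, ?_, ?_⟩
  · intro h
    have := congrFun (congrFun g.inv_mul a) a
    rw [Matrix.mul_apply, Finset.sum_eq_zero (fun k _ => by
      show _ * g.1.col a k = 0
      rw [h]; simp), Matrix.one_apply_eq] at this
    exact zero_ne_one this
  · intro h
    have := congrFun (congrFun g.inv_mul b) b
    rw [Matrix.mul_apply, Finset.sum_eq_zero (fun k _ => by rw [h]; simp), Matrix.one_apply_eq] at this
    exact zero_ne_one this
  · have := congrFun (congrFun g.inv_mul b) a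
    rw [Matrix.one_apply_ne hab.ne', Matrix.mul_apply] at this
    exact this
  · intro t
    obtain ⟨_, ⟨s, rfl⟩, hz⟩ := (hg (rootPSL hab.ne t)).mpr ⟨t, rfl⟩
    refine ⟨conjSL g (SpecialLinearGroup.transvection hab.ne s), s, conjSL_transvection_coe g hab.ne s, ?_⟩
    rw [← hperm, ← MulAut.mul_apply, ← hz]
    rfl
  · intro A s hA
    obtain ⟨x, hx⟩ := (β * diagAut (permGL π)).surjective (diagAut g (rootPSL hab.ne s))
    obtain ⟨t, rfl⟩ := (hg x).mp (by rw [hx]; exact Subgroup.mem_map_of_mem _ ⟨s, rfl⟩)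
    refine ⟨t, ?_⟩
    rw [← hperm, ← MulAut.mul_apply, hx, rootPSL, diagAut_mk]
    exact congrArg _ (Subtype.ext ((conjSL_transvection_coe g hab.ne s).trans hA.symm))

omit [Fintype F]

theorem one_add_pow_char (p : ℕ) [Fact p.Prime] [CharP F p] {A : SLg n F} {s : F} {u φ : Fin n → F}
    (hd : φ ⬝ᵥ u = 0) (hA : (A : Matrix (Fin n) (Fin n) F) = 1 + s • Matrix.vecMulVec u φ) :
    A ^ (p ^ 1) = 1 := by
  have hsq : Matrix.vecMulVec u φ * Matrix.vecMulVec u φ = 0 := by
    rw [Matrix.vecMulVec_mul_vecMulVec, hd, zero_smul, Matrix.vecMulVec_zero]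
  apply Subtype.ext
  show (A ^ p ^ 1).1 = 1
  rw [Matrix.SpecialLinearGroup.coe_pow, hA, pow_one]
  have : ∀ m : ℕ, (1 + s • Matrix.vecMulVec u φ) ^ m = 1 + ((m : F) * s) • Matrix.vecMulVec u φ := by
    intro m
    induction m with
    | zero => simp
    | succ m ih =>
      rw [pow_succ, ih]
      simp only [Matrix.mul_add, Matrix.add_mul, Matrix.smul_mul, Matrix.mul_smul,
        hsq, smul_zero, add_zero, Matrix.one_mul, Matrix.mul_one]
      push_cast
      module
  rw [this, CharP.cast_eq_zero, zero_mul, zero_smul, add_zero]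

theorem fwd_ne_zero {β : MulAut (PSLg n F)} {i j : Fin n} {hij : i ≠ j} {t : F} (ht : t ≠ 0)
    {A : SLg n F} {s : F} {u φ : Fin n → F}
    (hA : (A : Matrix (Fin n) (Fin n) F) = 1 + s • Matrix.vecMulVec u φ)
    (h : β (rootPSL hij t) = QuotientGroup.mk A) : s ≠ 0 := by
  rintro rfl
  rw [zero_smul, add_zero] at hA
  have h1 : A = 1 := Subtype.ext hA
  rw [h1, QuotientGroup.mk_one, MulEquiv.map_eq_one_iff, ← rootPSL_zero hij] at h
  exact ht (rootPSL_injective hij h)

theorem vecMulVec_ne {u φ : Fin n → F} (hu : u ≠ 0) (hφ : φ ≠ 0) : Matrix.vecMulVec u φ ≠ 0 := by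
  obtain ⟨k, hk⟩ := Function.ne_iff.mp hu
  obtain ⟨l, hl⟩ := Function.ne_iff.mp hφ
  intro h
  have := congrFun (congrFun h k) l
  simp [Matrix.vecMulVec_apply, hk, hl] at this
  tauto

variable (p : ℕ) [Fact p.Prime] [CharP F p]
variable {β : MulAut (PSLg n F)}

include p

/-- Commuting root groups have incident images. -/
theorem IsRootImage.dot_of_commute {i j k l : Fin n} {hij : i ≠ j} {hkl : k ≠ l} {u φ u' φ' : Fin n → F}
    (h : IsRootImage β hij u φ) (h' : IsRootImage β hkl u' φ') (hjk : j ≠ k) (hli : l ≠ i) :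
    φ ⬝ᵥ u' = 0 ∧ φ' ⬝ᵥ u = 0 := by
  obtain ⟨A, s, hA, hβA⟩ := h.fwd 1
  obtain ⟨B, t, hB, hβB⟩ := h'.fwd 1
  have hs := fwd_ne_zero one_ne_zero hA hβA
  have ht := fwd_ne_zero one_ne_zero hB hβB
  have hroot : rootPSL hij (1 : F) * rootPSL hkl 1 = rootPSL hkl 1 * rootPSL hij 1 := by
    show QuotientGroup.mk (SpecialLinearGroup.transvection hij 1 * SpecialLinearGroup.transvection hkl 1) =
      (QuotientGroup.mk (SpecialLinearGroup.transvection hkl 1 * SpecialLinearGroup.transvection hij 1) : PSLg n F)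
    refine congrArg _ (Subtype.ext ?_)
    show (1 + Matrix.single i j (1 : F)) * (1 + Matrix.single k l 1) = (1 + Matrix.single k l 1) * (1 + Matrix.single i j 1)
    simp only [Matrix.mul_add, Matrix.add_mul]
    rw [Matrix.single_mul_single_of_ne (h := hjk), Matrix.single_mul_single_of_ne (h := hli)]
    simp only [Matrix.mul_one, Matrix.one_mul, add_zero]
    abel
  have he := congrArg β hroot
  rw [map_mul, map_mul, hβA, hβB] at he
  have hC : (A * B * A⁻¹) ^ (p ^ 1) = 1 := by
    rw [conj_pow, one_add_pow_char p h'.dot_eq hB, mul_one, mul_inv_cancel]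
  have hAB : A * B * A⁻¹ = B := eq_of_mk_eq p hC (one_add_pow_char p h'.dot_eq hB) (by
    rw [QuotientGroup.mk_mul, QuotientGroup.mk_mul, QuotientGroup.mk_inv]
    exact mul_inv_eq_iff_eq_mul.mpr he)
  have hm : A.1 * B.1 = B.1 * A.1 := congrArg Subtype.val ((mul_inv_eq_iff_eq_mul (G := SLg n F)).mp hAB)
  rw [hA, hB] at hm
  simp only [Matrix.mul_add, Matrix.add_mul, Matrix.mul_one, Matrix.one_mul, Matrix.smul_mul,
    Matrix.mul_smul, Matrix.vecMulVec_mul_vecMulVec] at hm
  have key : (s * t) • ((φ ⬝ᵥ u') • Matrix.vecMulVec u φ' - (φ' ⬝ᵥ u) • Matrix.vecMulVec u' φ) = 0 := by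
    simp only [Matrix.vecMulVec_smul] at hm
    linear_combination (norm := module) hm
  have key' := (smul_eq_zero.mp key).resolve_left (mul_ne_zero hs ht)
  rw [sub_eq_zero] at key'
  by_cases hc : φ ⬝ᵥ u' = 0
  · refine ⟨hc, ?_⟩
    rw [hc, zero_smul] at key'
    exact (smul_eq_zero.mp key'.symm).resolve_right (vecMulVec_ne h'.fst_ne h.snd_ne)
  · exfalso
    obtain ⟨m, hm'⟩ := Function.ne_iff.mp h'.snd_ne
    apply hc
    by_cases hd : φ' ⬝ᵥ u = 0
    · rw [hd, zero_smul] at key'
      exact (smul_eq_zero.mp key').resolve_right (vecMulVec_ne h.fst_ne h'.snd_ne)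
    · have hu : ((φ ⬝ᵥ u') * φ' m) • u = ((φ' ⬝ᵥ u) * φ m) • u' := by
        funext x
        have := congrFun (congrFun key' x) m
        simp only [Matrix.smul_apply, Matrix.vecMulVec_apply, smul_eq_mul] at this
        simp only [Pi.smul_apply, smul_eq_mul]
        linear_combination this
      have hm2 : φ m ≠ 0 := by
        intro h0
        rw [h0, mul_zero, zero_smul] at hu
        exact (mul_ne_zero hc hm') ((smul_eq_zero.mp hu).resolve_right h.fst_ne)
      have := congrArg (fun v => φ ⬝ᵥ v) hu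
      simp only [dotProduct_smul, h.dot_eq, smul_eq_mul, mul_zero] at this
      rcases mul_eq_zero.mp this.symm with h0 | h0
      · exact absurd h0 (mul_ne_zero hd hm2)
      · exact h0

/-- Non-commuting root groups have non-incident images. -/
theorem IsRootImage.dot_of_chain {i j l : Fin n} {hij : i ≠ j} {hjl : j ≠ l} (hil : i ≠ l)
    {u φ u' φ' : Fin n → F} (h : IsRootImage β hij u φ) (h' : IsRootImage β hjl u' φ') :
    φ ⬝ᵥ u' ≠ 0 ∨ φ' ⬝ᵥ u ≠ 0 := by
  by_contra hcon
  simp only [not_or, not_not] at hcon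
  obtain ⟨A, s, hA, hβA⟩ := h.fwd 1
  obtain ⟨B, t, hB, hβB⟩ := h'.fwd 1
  have hAB : A * B = B * A := by
    apply Subtype.ext
    show A.1 * B.1 = B.1 * A.1
    rw [hA, hB]
    simp only [Matrix.mul_add, Matrix.add_mul, Matrix.mul_one, Matrix.one_mul, Matrix.smul_mul,
      Matrix.mul_smul, Matrix.vecMulVec_mul_vecMulVec, hcon.1, hcon.2, zero_smul, Matrix.vecMulVec_zero,
      smul_zero, add_zero]
    abel
  have h1 : rootPSL hij (1 : F) * rootPSL hjl 1 = rootPSL hjl 1 * rootPSL hij 1 := by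
    apply β.injective
    rw [map_mul, map_mul, hβA, hβB, ← QuotientGroup.mk_mul, hAB]; rfl
  have h2 : ⁅rootPSL hij (1 : F), rootPSL hjl (1 : F)⁆ = 1 := by
    rw [commutatorElement_eq_one_iff_mul_comm]; exact h1
  have h3 : rootPSL hil (1 * 1 : F) = rootPSL hil 0 := by
    rw [rootPSL_zero, ← h2]
    show (QuotientGroup.mk' _) _ = ⁅(QuotientGroup.mk' _) _, (QuotientGroup.mk' _) _⁆
    rw [← map_commutatorElement, CfsgLib.Linear.commutator_transvection_transvection hil hij hjl]
  exact (mul_ne_zero (one_ne_zero (α := F)) one_ne_zero) (rootPSL_injective hil h3)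

/-- Two root images with parallel lines and parallel hyperplanes come from the same root group. -/
theorem IsRootImage.not_both_par {i j k l : Fin n} {hij : i ≠ j} {hkl : k ≠ l} {u φ u' φ' : Fin n → F}
    (h : IsRootImage β hij u φ) (h' : IsRootImage β hkl u' φ') (hne : ¬ (i = k ∧ j = l)) :
    ¬ (Par u u' ∧ Par φ φ') := by
  rintro ⟨⟨c, hc, rfl⟩, ⟨d, hd, rfl⟩⟩
  obtain ⟨A, s, hA, hβA⟩ := h.fwd 1
  obtain ⟨t, ht⟩ := h'.bwd A (s / (c * d)) (by
    rw [hA, Matrix.smul_vecMulVec, Matrix.vecMulVec_smul, smul_smul, smul_smul, div_mul_eq_mul_div]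
    congr 2
    field_simp)
  have heq : rootPSL hkl t = rootPSL hij (1 : F) := β.injective (ht.trans hβA.symm)
  have hm := eq_of_mk_eq p (k := 1) (by rw [pow_one]; exact transvection_pow_eq_one p hkl t)
    (by rw [pow_one]; exact transvection_pow_eq_one p hij 1) heq
  have hm' : (1 : Matrix (Fin n) (Fin n) F) + Matrix.single k l t = 1 + Matrix.single i j 1 := congrArg Subtype.val hm
  have hm'' : Matrix.single k l t = Matrix.single i j (1 : F) := add_left_cancel hm'
  have := congrFun (congrFun hm'' i) j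
  rw [Matrix.single_apply, if_neg (fun hh => hne ⟨hh.1.symm, hh.2.symm⟩), Matrix.single_apply_same] at this
  exact zero_ne_one this

omit p in
/-- A linear combination of two rank-one matrices of rank one forces parallel rows or columns. -/
theorem par_of_sum_rank_one {u φ u' φ' u'' φ'' : Fin n → F} {s t r : F} (hs : s ≠ 0) (ht : t ≠ 0)
    (hu : u ≠ 0) (hu' : u' ≠ 0) (hφ : φ ≠ 0) (hφ' : φ' ≠ 0)
    (h : s • Matrix.vecMulVec u φ + t • Matrix.vecMulVec u' φ' = r • Matrix.vecMulVec u'' φ'') :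
    Par u u' ∨ Par φ φ' := by
  by_cases hpar : Par u u'
  · exact Or.inl hpar
  refine Or.inr ?_
  have hind : ∀ a b : F, a • u + b • u' = 0 → a = 0 ∧ b = 0 := by
    intro a b hab
    by_cases hb : b = 0
    · subst hb
      rw [zero_smul, add_zero] at hab
      exact ⟨(smul_eq_zero.mp hab).resolve_right hu, rfl⟩
    · exfalso
      by_cases ha : a = 0
      · subst ha
        rw [zero_smul, zero_add] at hab
        exact hb ((smul_eq_zero.mp hab).resolve_right hu')
      · refine hpar ⟨-(a / b), neg_ne_zero.mpr (div_ne_zero ha hb), ?_⟩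
        funext x
        have := congrFun hab x
        simp only [Pi.add_apply, Pi.smul_apply, smul_eq_mul, Pi.zero_apply] at this
        simp only [Pi.smul_apply, smul_eq_mul]
        field_simp
        linear_combination this
  have hcol : ∀ k l, φ'' l * φ k = φ'' k * φ l ∧ φ'' l * φ' k = φ'' k * φ' l := by
    intro k l
    obtain ⟨h1, h2⟩ := hind (s * (φ'' l * φ k - φ'' k * φ l)) (t * (φ'' l * φ' k - φ'' k * φ' l)) (by
      funext x
      have hk := congrFun (congrFun h x) k
      have hl := congrFun (congrFun h x) l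
      simp only [Matrix.add_apply, Matrix.smul_apply, Matrix.vecMulVec_apply, smul_eq_mul] at hk hl
      simp only [Pi.add_apply, Pi.smul_apply, smul_eq_mul, Pi.zero_apply]
      linear_combination φ'' l * hk - φ'' k * hl)
    exact ⟨sub_eq_zero.mp ((mul_eq_zero.mp h1).resolve_left hs),
      sub_eq_zero.mp ((mul_eq_zero.mp h2).resolve_left ht)⟩
  have hφ'' : φ'' ≠ 0 := by
    intro h0
    rw [h0, Matrix.vecMulVec_zero, smul_zero] at h
    obtain ⟨m, hm⟩ := Function.ne_iff.mp hφ
    obtain ⟨h1, -⟩ := hind (s * φ m) (t * φ' m) (by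
      funext x
      have := congrFun (congrFun h x) m
      simp only [Matrix.add_apply, Matrix.smul_apply, Matrix.vecMulVec_apply, smul_eq_mul, Matrix.zero_apply] at this
      simp only [Pi.add_apply, Pi.smul_apply, smul_eq_mul, Pi.zero_apply]
      linear_combination this)
    exact (mul_ne_zero hs hm) h1
  obtain ⟨l, hl⟩ := Function.ne_iff.mp hφ''
  have e1 : φ = (φ l / φ'' l) • φ'' := by
    funext k
    simp only [Pi.smul_apply, smul_eq_mul]
    field_simp [show φ'' l ≠ 0 from hl]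
    linear_combination (hcol k l).1
  have e2 : φ' = (φ' l / φ'' l) • φ'' := by
    funext k
    simp only [Pi.smul_apply, smul_eq_mul]
    field_simp [show φ'' l ≠ 0 from hl]
    linear_combination (hcol k l).2
  have n1 : φ l / φ'' l ≠ 0 := fun h0 => hφ (by rw [e1, h0, zero_smul])
  have n2 : φ' l / φ'' l ≠ 0 := fun h0 => hφ' (by rw [e2, h0, zero_smul])
  have p1 : Par φ'' φ := ⟨_, n1, e1⟩
  exact p1.symm.trans ⟨_, n2, e2⟩

/-- If `x_{ij}(1) x_{kl}(1)` is again a transvection of the same kind, the images share a line or a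
hyperplane. -/
theorem IsRootImage.adj {i j k l : Fin n} {hij : i ≠ j} {hkl : k ≠ l} {u φ u' φ' : Fin n → F}
    (h : IsRootImage β hij u φ) (h' : IsRootImage β hkl u' φ') (hjk : j ≠ k) (hli : l ≠ i)
    (g : GL (Fin n) F)
    (hg : conjSL g (SpecialLinearGroup.transvection hij 1) =
      SpecialLinearGroup.transvection hij 1 * SpecialLinearGroup.transvection hkl 1)
    (hne : ¬ (i = k ∧ j = l)) [Fintype F] :
    (Par u u' ∧ ¬ Par φ φ') ∨ (¬ Par u u' ∧ Par φ φ') := by
  obtain ⟨u'', φ'', h''⟩ := exists_isRootImage p (β * diagAut g) hij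
  obtain ⟨C, r, hC, hβC⟩ := h''.fwd 1
  obtain ⟨A, s, hA, hβA⟩ := h.fwd 1
  obtain ⟨B, t, hB, hβB⟩ := h'.fwd 1
  obtain ⟨hd1, hd2⟩ := h.dot_of_commute p h' hjk hli
  have hmk : (QuotientGroup.mk C : PSLg n F) = QuotientGroup.mk (A * B) := by
    rw [← hβC, MulAut.mul_apply, rootPSL, diagAut_mk, hg, QuotientGroup.mk_mul, map_mul]
    show β (rootPSL hij 1) * β (rootPSL hkl 1) = _
    rw [hβA, hβB, ← QuotientGroup.mk_mul]
  have hcomm : Commute A B := by
    apply Subtype.ext
    show A.1 * B.1 = B.1 * A.1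
    rw [hA, hB]
    simp only [Matrix.mul_add, Matrix.add_mul, Matrix.mul_one, Matrix.one_mul, Matrix.smul_mul,
      Matrix.mul_smul, Matrix.vecMulVec_mul_vecMulVec, hd1, hd2, zero_smul, Matrix.vecMulVec_zero,
      smul_zero, add_zero]
    abel
  have hCAB := eq_of_mk_eq p (one_add_pow_char p h''.dot_eq hC)
    (by rw [hcomm.mul_pow, one_add_pow_char p h.dot_eq hA, one_add_pow_char p h'.dot_eq hB, mul_one]) hmk
  have hm : C.1 = A.1 * B.1 := congrArg Subtype.val hCAB
  rw [hA, hB, hC] at hm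
  simp only [Matrix.mul_add, Matrix.add_mul, Matrix.mul_one, Matrix.one_mul, Matrix.smul_mul,
    Matrix.mul_smul, Matrix.vecMulVec_mul_vecMulVec, hd1, zero_smul, Matrix.vecMulVec_zero,
    smul_zero, add_zero] at hm
  have hsum : s • Matrix.vecMulVec u φ + t • Matrix.vecMulVec u' φ' = r • Matrix.vecMulVec u'' φ'' := by
    rw [add_assoc] at hm
    exact (add_left_cancel hm).symm
  have hboth := h.not_both_par p h' hne
  rcases par_of_sum_rank_one (fwd_ne_zero one_ne_zero hA hβA) (fwd_ne_zero one_ne_zero hB hβB)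
    h.fst_ne h'.fst_ne h.snd_ne h'.snd_ne hsum with hp | hp
  · exact Or.inl ⟨hp, fun hq => hboth ⟨hp, hq⟩⟩
  · exact Or.inr ⟨fun hq => hboth ⟨hq, hp⟩, hp⟩

end CfsgLib.AutPSL
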