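import Mathlib
import Cfsg.Agent.Lib.AutPSL.Data

/-!
Automorphisms of `PSL_n(F)` for `n ≥ 3`: every one is diagonal times field times possibly inverse-transpose.
-/

namespace CfsgLib.AutPSL

open Matrix
open scoped MatrixGroups commutatorElement

variable {n : ℕ} {F : Type*} [Field F]

/-- Applying inverse-transpose exchanges lines and hyperplanes. -/
theorem IsRootImage.it {β : MulAut (PSLg n F)} {i j : Fin n} {hij : i ≠ j} {u φ : Fin n → F}
    (h : IsRootImage β hij u φ) : IsRootImage (itAut * β) hij φ u := by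
  have key : ∀ (A : SLg n F) (s : F) (u φ : Fin n → F), φ ⬝ᵥ u = 0 → A.1 = 1 + s • Matrix.vecMulVec u φ →
      (itSL A).1 = 1 + (-s) • Matrix.vecMulVec φ u := by
    intro A s u φ hd hA
    have hB : (1 + (-s) • Matrix.vecMulVec u φ) * A.1 = 1 := by
      rw [hA]
      simp only [Matrix.mul_add, Matrix.add_mul, Matrix.mul_one, Matrix.one_mul, Matrix.smul_mul,
        Matrix.mul_smul, Matrix.vecMulVec_mul_vecMulVec, hd, zero_smul, Matrix.vecMulVec_zero, smul_zero]
      module
    have hinv : (A⁻¹).1 = 1 + (-s) • Matrix.vecMulVec u φ := by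
      have h1 : A.1 * (A⁻¹).1 = 1 := congrArg Subtype.val (mul_inv_cancel A)
      calc (A⁻¹).1 = (1 + (-s) • Matrix.vecMulVec u φ) * A.1 * (A⁻¹).1 := by rw [hB, Matrix.one_mul]
        _ = _ := by rw [Matrix.mul_assoc, h1, Matrix.mul_one]
    rw [itSL_coe, hinv, Matrix.transpose_add, Matrix.transpose_one, Matrix.transpose_smul,
      Matrix.transpose_vecMulVec]
  refine ⟨h.snd_ne, h.fst_ne, by rw [dotProduct_comm]; exact h.dot_eq, fun t => ?_, fun A s hA => ?_⟩
  · obtain ⟨A, s, hA, hβ⟩ := h.fwd t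
    refine ⟨itSL A, -s, key A s u φ h.dot_eq hA, ?_⟩
    rw [MulAut.mul_apply, hβ, itAut_mk]
  · obtain ⟨t, ht⟩ := h.bwd (itSL A) (-s)
      (key A s φ u (by rw [dotProduct_comm]; exact h.dot_eq) hA)
    refine ⟨t, ?_⟩
    rw [MulAut.mul_apply, ht, itAut_mk]
    exact congrArg _ (itSL.left_inv A)

section Incidence

variable {β : MulAut (PSLg n F)} [Fintype F] (p : ℕ) [Fact p.Prime] [CharP F p]
  {u φ : Fin n → Fin n → Fin n → F}

omit [Fintype F] in
theorem conjSL_row {i j k : Fin n} (hij : i ≠ j) (hik : i ≠ k) (hjk : j ≠ k) :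
    conjSL (SpecialLinearGroup.toGL (SpecialLinearGroup.transvection hjk (-1 : F)))
      (SpecialLinearGroup.transvection hij 1) =
      SpecialLinearGroup.transvection hij 1 * SpecialLinearGroup.transvection hik 1 := by
  rw [conjSL_toGL, MulAut.conj_apply, SpecialLinearGroup.transvection_inv, neg_neg]
  apply Subtype.ext
  show (1 + Matrix.single j k (-1 : F)) * (1 + Matrix.single i j 1) * (1 + Matrix.single j k 1) =
    (1 + Matrix.single i j 1) * (1 + Matrix.single i k 1)
  simp [Matrix.mul_add, Matrix.add_mul, hij.symm, hjk.symm, hik.symm, hij, hjk, hik]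
  ext x y
  simp only [Matrix.add_apply, Matrix.single_apply]
  split_ifs <;> ring

omit [Fintype F] in
theorem conjSL_col {i j k : Fin n} (hji : j ≠ i) (hki : k ≠ i) (hjk : k ≠ j) :
    conjSL (SpecialLinearGroup.toGL (SpecialLinearGroup.transvection hjk (1 : F)))
      (SpecialLinearGroup.transvection hji 1) =
      SpecialLinearGroup.transvection hji 1 * SpecialLinearGroup.transvection hki 1 := by
  rw [conjSL_toGL, MulAut.conj_apply, SpecialLinearGroup.transvection_inv]
  apply Subtype.ext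
  show (1 + Matrix.single k j (1 : F)) * (1 + Matrix.single j i 1) * (1 + Matrix.single k j (-1)) =
    (1 + Matrix.single j i 1) * (1 + Matrix.single k i 1)
  simp [Matrix.mul_add, Matrix.add_mul, hji.symm, hjk.symm, hki.symm, hji, hjk, hki]
  ext x y
  simp only [Matrix.add_apply, Matrix.single_apply]
  split_ifs <;> ring

end Incidence

theorem dot_eq_zero_of_par {u u' φ : Fin n → F} (hu : Par u u') (h : φ ⬝ᵥ u = 0) : φ ⬝ᵥ u' = 0 := by
  obtain ⟨c, _, rfl⟩ := hu
  rw [dotProduct_smul, h, smul_zero]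

theorem dot_eq_zero_of_par' {u φ φ' : Fin n → F} (hu : Par φ φ') (h : φ ⬝ᵥ u = 0) : φ' ⬝ᵥ u = 0 := by
  obtain ⟨c, _, rfl⟩ := hu
  rw [smul_dotProduct, h, smul_zero]

/-- The incidence configuration of the images of the root groups: up to inverse-transpose, lines depend only
on the row index and hyperplanes only on the column index. -/
theorem root_images_type [Fintype F] (p : ℕ) [Fact p.Prime] [CharP F p] (hn : 3 ≤ n) {β : MulAut (PSLg n F)}
    (u φ : Fin n → Fin n → Fin n → F)
    (h : ∀ (i j : Fin n) (hij : i ≠ j), IsRootImage β hij (u i j) (φ i j)) :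
    (∀ i j k, i ≠ j → i ≠ k → j ≠ k → Par (u i j) (u i k) ∧ Par (φ j i) (φ k i)) ∨
      (∀ i j k, i ≠ j → i ≠ k → j ≠ k → Par (φ i j) (φ i k) ∧ Par (u j i) (u k i)) := by
  have hrow : ∀ {i j k : Fin n}, i ≠ j → i ≠ k → j ≠ k →
      (Par (u i j) (u i k) ∧ ¬ Par (φ i j) (φ i k)) ∨ (¬ Par (u i j) (u i k) ∧ Par (φ i j) (φ i k)) :=
    fun {i j k} hij hik hjk => (h i j hij).adj p (h i k hik) hij.symm hik.symm _
      (conjSL_row hij hik hjk) (fun e => hjk e.2)
  have hcol : ∀ {i j k : Fin n}, j ≠ i → k ≠ i → j ≠ k →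
      (Par (u j i) (u k i) ∧ ¬ Par (φ j i) (φ k i)) ∨ (¬ Par (u j i) (u k i) ∧ Par (φ j i) (φ k i)) :=
    fun {i j k} hji hki hjk => (h j i hji).adj p (h k i hki) hki.symm hji.symm _
      (conjSL_col hji hki hjk.symm) (fun e => hjk e.1)
  -- row type and column type at an element are opposite
  have halt : ∀ {i j k : Fin n}, i ≠ j → i ≠ k → j ≠ k →
      (Par (u i j) (u i k) ↔ ¬ Par (u i j) (u k j)) := by
    intro i j k hij hik hjk
    have hch := (h i k hik).dot_of_chain p hij (h k j hjk.symm)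
    constructor
    · intro hb hc
      rcases hch with h1 | h1
      · exact h1 (dot_eq_zero_of_par ((hb.symm).trans hc) (h i k hik).dot_eq)
      · exact h1 (dot_eq_zero_of_par ((hc.symm).trans hb) (h k j hjk.symm).dot_eq)
    · intro hc
      rcases hrow hij hik hjk with hb | hb
      · exact hb.1
      · rcases hcol hij hjk.symm hik with hc' | hc'
        · exact absurd hc'.1 hc
        · rcases hch with h1 | h1
          · exact absurd (dot_eq_zero_of_par' (hc'.2.symm.trans hb.2) (h k j hjk.symm).dot_eq) h1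
          · exact absurd (dot_eq_zero_of_par' (hb.2.symm.trans hc'.2) (h i k hik).dot_eq) h1
  have hunif : ∀ {i j k l : Fin n}, i ≠ j → i ≠ k → i ≠ l → j ≠ k → j ≠ l →
      Par (u i j) (u i k) → Par (u i j) (u i l) := by
    intro i j k l hij hik hil hjk hjl hp
    by_cases hkl : k = l
    · subst hkl; exact hp
    by_contra hl
    obtain h1 | h1 := hrow hij hil hjl
    · exact hl h1.1
    obtain h2 | h2 := hrow hij hik hjk
    swap
    · exact h2.1 hp
    obtain h3 | h3 := hrow hik hil hkl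
    · exact hl (hp.trans h3.1)
    · exact h2.2 (h1.2.trans h3.2.symm)
  -- row `i` and column `j` have opposite types
  let R : Fin n → Prop := fun i => ∀ j k, i ≠ j → i ≠ k → j ≠ k → Par (u i j) (u i k)
  let C : Fin n → Prop := fun i => ∀ j k, j ≠ i → k ≠ i → j ≠ k → Par (u j i) (u k i)
  have hR : ∀ {i j k : Fin n}, i ≠ j → i ≠ k → j ≠ k → Par (u i j) (u i k) → R i := by
    intro i j k hij hik hjk hp a b hia hib hab
    by_cases haj : a = j
    · subst haj; exact hunif hij hik hib hjk hab hp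
    have hja : Par (u i j) (u i a) := hunif hij hik hia hjk (Ne.symm haj) hp
    by_cases hbj : b = j
    · subst hbj; exact hja.symm
    · exact hja.symm.trans (hunif hij hik hib hjk (Ne.symm hbj) hp)
  have hRC : ∀ {i j k : Fin n}, i ≠ j → i ≠ k → j ≠ k → (R i ↔ ¬ Par (u i j) (u k j)) :=
    fun {i j k} hij hik hjk => ⟨fun hr => (halt hij hik hjk).mp (hr j k hij hik hjk),
      fun hc => hR hij hik hjk ((halt hij hik hjk).mpr hc)⟩
  have hthird : ∀ a b : Fin n, ∃ c, c ≠ a ∧ c ≠ b := by
    intro a b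
    obtain ⟨c, hc⟩ := Finset.exists_mem_notMem_of_card_lt_card (s := ({a, b} : Finset (Fin n)))
      (t := Finset.univ) (Finset.card_le_two.trans_lt (by rw [Finset.card_univ, Fintype.card_fin]; omega))
    exact ⟨c, fun e => hc.2 (by simp [e]), fun e => hc.2 (by simp [e])⟩
  have hRR : ∀ i i', R i → R i' := by
    intro i i' hr
    by_cases hii : i = i'
    · subst hii; exact hr
    obtain ⟨j, hji, hji'⟩ := hthird i i'
    have h1 := (hRC (Ne.symm hji) hii hji').mp hr
    exact (hRC (Ne.symm hji') (Ne.symm hii) hji).mpr fun hp => h1 hp.symm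
  by_cases hr : ∃ i, R i
  · obtain ⟨i₀, hi₀⟩ := hr
    refine Or.inl fun i j k hij hik hjk => ⟨hRR i₀ i hi₀ j k hij hik hjk, ?_⟩
    have h1 := (hRC (Ne.symm hij) hjk (Ne.symm (Ne.symm hik))).mp (hRR i₀ j hi₀)
    rcases hcol (Ne.symm hij) (Ne.symm hik) hjk with h2 | h2
    · exact absurd h2.1 h1
    · exact h2.2
  · refine Or.inr fun i j k hij hik hjk => ⟨?_, ?_⟩
    · rcases hrow hij hik hjk with h1 | h1
      · exact absurd ⟨i, hR hij hik hjk h1.1⟩ hr
      · exact h1.2
    · by_contra hp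
      exact hr ⟨j, (hRC (Ne.symm hij) hjk hik).mpr hp⟩

theorem vecMulVec_mulVec_right (M N : Matrix (Fin n) (Fin n) F) (u φ : Fin n → F) :
    M * Matrix.vecMulVec u φ * N = Matrix.vecMulVec (M *ᵥ u) (φ ᵥ* N) := by
  rw [Matrix.mul_vecMulVec, Matrix.vecMulVec_mul]

theorem exists_diag_fix [Fintype F] (p : ℕ) [Fact p.Prime] [CharP F p] (hn : 3 ≤ n) {β : MulAut (PSLg n F)}
    (u φ : Fin n → Fin n → Fin n → F)
    (h : ∀ (i j : Fin n) (hij : i ≠ j), IsRootImage β hij (u i j) (φ i j))
    (hrow : ∀ i j k, i ≠ j → i ≠ k → j ≠ k → Par (u i j) (u i k) ∧ Par (φ j i) (φ k i)) :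
    ∃ g : GL (Fin n) F, ∀ (i j : Fin n) (hij : i ≠ j) (t : F), ∃ s : F,
      (diagAut g * β) (rootPSL hij t) = rootPSL hij s := by
  have hother : ∀ i : Fin n, ∃ j, j ≠ i := by
    intro i
    haveI : Nontrivial (Fin n) := Fin.nontrivial_iff_two_le.mpr (by omega)
    exact exists_ne i
  choose o ho using hother
  let P : Fin n → Fin n → F := fun i => u i (o i)
  let H : Fin n → Fin n → F := fun j => φ (o j) j
  have hP : ∀ i j, i ≠ j → Par (P i) (u i j) := by
    intro i j hij
    by_cases hj : o i = j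
    · subst hj; exact Par.refl _
    · exact (hrow i (o i) j (ho i).symm hij hj).1
  have hH : ∀ i j, i ≠ j → Par (H j) (φ i j) := by
    intro i j hij
    by_cases hi : o j = i
    · subst hi; exact Par.refl _
    · exact (hrow j (o j) i (ho j).symm (Ne.symm hij) hi).2
  have hzero : ∀ i j, i ≠ j → H j ⬝ᵥ P i = 0 := fun i j hij =>
    dot_eq_zero_of_par (hP i j hij).symm (dot_eq_zero_of_par' (hH i j hij).symm (h i j hij).dot_eq)
  have hne : ∀ j, H j ⬝ᵥ P j ≠ 0 := by
    intro j h0
    obtain ⟨i, l, hij, hlj, hil⟩ : ∃ i l, i ≠ j ∧ l ≠ j ∧ i ≠ l := by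
      obtain ⟨l, hl⟩ := Finset.exists_mem_notMem_of_card_lt_card (s := ({o j, j} : Finset (Fin n)))
        (t := Finset.univ) (Finset.card_le_two.trans_lt (by rw [Finset.card_univ, Fintype.card_fin]; omega))
      exact ⟨o j, l, ho j, fun e => hl.2 (by simp [e]), fun e => hl.2 (by simp [← e])⟩
    rcases (h i j hij).dot_of_chain p hil (h j l hlj.symm) with h1 | h1
    · exact h1 (dot_eq_zero_of_par (hP j l hlj.symm) (dot_eq_zero_of_par' (hH i j hij) h0))
    · exact h1 (dot_eq_zero_of_par (hP i j hij) (dot_eq_zero_of_par' (hH j l hlj.symm) (hzero i l hil)))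
  let G : Matrix (Fin n) (Fin n) F := Matrix.of fun k i => P i k
  let Hm : Matrix (Fin n) (Fin n) F := Matrix.of fun j k => H j k
  let d : Fin n → F := fun j => H j ⬝ᵥ P j
  have hHG : Hm * G = Matrix.diagonal d := by
    ext j i
    rw [Matrix.mul_apply]
    by_cases hji : j = i
    · subst hji; rw [Matrix.diagonal_apply_eq]; rfl
    · rw [Matrix.diagonal_apply_ne _ hji]
      exact hzero i j (Ne.symm hji)
  have hG : IsUnit G.det := by
    refine isUnit_iff_ne_zero.mpr fun h0 => ?_
    have := congrArg Matrix.det hHG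
    rw [Matrix.det_mul, h0, mul_zero, Matrix.det_diagonal] at this
    exact Finset.prod_ne_zero_iff.mpr (fun j _ => hne j) this.symm
  let g : GL (Fin n) F := G.nonsingInvUnit hG
  have hg1 : ∀ i, (g⁻¹).1 *ᵥ P i = Pi.single i 1 := by
    intro i
    have hc : P i = g.1 *ᵥ Pi.single i 1 := by
      funext k
      rw [Matrix.mulVec_single_one]; rfl
    rw [hc, Matrix.mulVec_mulVec, Units.inv_mul, Matrix.one_mulVec]
  have hg2 : ∀ j, H j ᵥ* g.1 = d j • Pi.single j 1 := by
    intro j
    funext k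
    show (Hm * G) j k = _
    rw [hHG]
    by_cases hjk : j = k
    · subst hjk; simp
    · simp [hjk]
  refine ⟨g⁻¹, fun i j hij t => ?_⟩
  obtain ⟨A, s, hA, hβ⟩ := (h i j hij).fwd t
  obtain ⟨c, _, hc⟩ := hP i j hij
  obtain ⟨e, _, he⟩ := hH i j hij
  refine ⟨s * (c * (e * d j)), ?_⟩
  rw [MulAut.mul_apply, hβ, diagAut_mk]
  refine congrArg QuotientGroup.mk (Subtype.ext ?_)
  rw [conjSL_coe, hA, SpecialLinearGroup.transvection_coe, inv_inv, Matrix.mul_add, Matrix.add_mul,
    Matrix.mul_one, Units.inv_mul, Matrix.mul_smul, Matrix.smul_mul, vecMulVec_mulVec_right, hc, he,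
    Matrix.mulVec_smul, Matrix.smul_vecMul, hg1, hg2]
  congr 1
  ext x y
  simp only [Matrix.vecMulVec_apply, Matrix.smul_apply, Pi.smul_apply, Pi.single_apply, Matrix.single_apply,
    smul_eq_mul]
  by_cases hx : x = i <;> by_cases hy : y = j
  · subst hx hy; simp
  · simp [hy, Ne.symm hy]
  · simp [hx, Ne.symm hx]
  · simp [hx, Ne.symm hx]

/-- An automorphism fixing every root group is diagonal times field. -/
theorem diag_field_of_fix [Finite F] (hn : 3 ≤ n) {β : MulAut (PSLg n F)}
    (h : ∀ (i j : Fin n) (hij : i ≠ j) (t : F), ∃ s : F, β (rootPSL hij t) = rootPSL hij s) :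
    ∃ (g : GL (Fin n) F) (σ : F ≃+* F), β = diagAut g * fieldAut σ := by
  choose f hf using h
  have fadd : ∀ {i j : Fin n} (hij : i ≠ j) (s t : F), f i j hij (s + t) = f i j hij s + f i j hij t := by
    intro i j hij s t
    apply rootPSL_injective hij
    rw [← hf, rootPSL_add, rootPSL_add, map_mul, hf, hf]
  have finj : ∀ {i j : Fin n} (hij : i ≠ j), Function.Injective (f i j hij) := by
    intro i j hij s t hst
    apply rootPSL_injective hij
    apply β.injective
    rw [hf, hf, hst]
  have fcomm : ∀ {i k j : Fin n} (hij : i ≠ j) (hik : i ≠ k) (hkj : k ≠ j) (s t : F),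
      f i j hij (s * t) = f i k hik s * f k j hkj t := by
    intro i k j hij hik hkj s t
    have hroot : ∀ a b : F, ⁅rootPSL hik a, rootPSL hkj b⁆ = rootPSL hij (a * b) := fun a b => by
      show ⁅(QuotientGroup.mk' _) _, (QuotientGroup.mk' _) _⁆ = _
      rw [← map_commutatorElement, CfsgLib.Linear.commutator_transvection_transvection hij hik hkj]
      rfl
    apply rootPSL_injective hij
    rw [← hf, ← hroot, map_commutatorElement, hf, hf, hroot]
  have f0 : ∀ {i j : Fin n} (hij : i ≠ j), f i j hij 1 ≠ 0 := by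
    intro i j hij h1
    have h0 : f i j hij 0 = 0 := by simpa using fadd hij 0 0
    exact one_ne_zero (finj hij (h1.trans h0.symm))
  let a : Fin n := ⟨0, by omega⟩
  let d : Fin n → Fˣ := fun j => if hj : a = j then 1 else Units.mk0 _ (f0 hj)
  let g : GL (Fin n) F := ⟨Matrix.diagonal (fun j => (d j : F)), Matrix.diagonal (fun j => ((d j)⁻¹ : Fˣ).1),
    by rw [Matrix.diagonal_mul_diagonal]; simp [← Units.val_mul],
    by rw [Matrix.diagonal_mul_diagonal]; simp [← Units.val_mul]⟩
  have hg : ∀ {i j : Fin n} (hij : i ≠ j) (t : F),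
      diagAut g (rootPSL hij t) = rootPSL hij ((d i : F) * t * ((d j)⁻¹ : Fˣ).1) := by
    intro i j hij t
    show diagAut g (QuotientGroup.mk _) = _
    rw [diagAut_mk]
    refine congrArg QuotientGroup.mk (Subtype.ext ?_)
    rw [conjSL_transvection_coe, SpecialLinearGroup.transvection_coe]
    congr 1
    ext x y
    simp only [Matrix.smul_apply, Matrix.vecMulVec_apply, Matrix.single_apply, smul_eq_mul, Matrix.col_apply]
    show t * (Matrix.diagonal _ x i * Matrix.diagonal _ j y) = _
    rw [Matrix.diagonal_apply, Matrix.diagonal_apply]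
    by_cases hx : x = i <;> by_cases hy : j = y
    · subst hx hy; simp; ring
    · simp [hx, hy]
    · simp [hx, Ne.symm hx]
    · simp [hx, hy, Ne.symm hx]
  let F' : ∀ (i j : Fin n), i ≠ j → F → F := fun i j hij t => (d i : F) * f i j hij t * ((d j)⁻¹ : Fˣ).1
  have hF' : ∀ {i j : Fin n} (hij : i ≠ j) (t : F), (diagAut g * β) (rootPSL hij t) = rootPSL hij (F' i j hij t) := by
    intro i j hij t
    rw [MulAut.mul_apply, hf, hg]
  have F'comm : ∀ {i k j : Fin n} (hij : i ≠ j) (hik : i ≠ k) (hkj : k ≠ j) (s t : F),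
      F' i j hij (s * t) = F' i k hik s * F' k j hkj t := by
    intro i k j hij hik hkj s t
    simp only [F', fcomm hij hik hkj]
    linear_combination -((d i : F) * f i k hik s * f k j hkj t * ((d j)⁻¹ : Fˣ).1) * (Units.inv_mul (d k))
  have F'one : ∀ {j : Fin n} (hj : a ≠ j), F' a j hj 1 = 1 := by
    intro j hj
    simp only [F', d, dif_pos, dif_neg hj, Units.val_one, one_mul, Units.val_inv_eq_inv_val, Units.val_mk0]
    exact mul_inv_cancel₀ (f0 hj)
  have hthird : ∀ b c : Fin n, ∃ k, k ≠ b ∧ k ≠ c := by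
    intro b c
    obtain ⟨k, hk⟩ := Finset.exists_mem_notMem_of_card_lt_card (s := ({b, c} : Finset (Fin n)))
      (t := Finset.univ) (Finset.card_le_two.trans_lt (by rw [Finset.card_univ, Fintype.card_fin]; omega))
    exact ⟨k, fun e => hk.2 (by simp [e]), fun e => hk.2 (by simp [e])⟩
  obtain ⟨b, hb, -⟩ := hthird a a
  let G := F' a b (Ne.symm hb)
  have e1 : ∀ {j k : Fin n} (hj : a ≠ j) (hk : a ≠ k) (hjk : j ≠ k) (t : F), F' j k hjk t = F' a k hk t := by
    intro j k hj hk hjk t
    have := F'comm hk hj hjk 1 t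
    rw [one_mul, F'one, one_mul] at this
    exact this.symm
  have e2 : ∀ {j : Fin n} (hj : a ≠ j) (t : F), F' a j hj t = G t := by
    intro j hj t
    by_cases hjb : j = b
    · subst hjb; rfl
    have := F'comm hj (Ne.symm hb) (Ne.symm hjb) t 1
    rw [mul_one, e1 (Ne.symm hb) hj (Ne.symm hjb), F'one, mul_one] at this
    exact this
  have e3 : ∀ {j : Fin n} (hj : j ≠ a) (t : F), F' j a hj t = G t := by
    intro j hj t
    obtain ⟨k, hka, hkj⟩ := hthird a j
    have := F'comm (Ne.symm hkj) hj (Ne.symm hka) t 1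
    rw [mul_one, F'one, mul_one, e1 (Ne.symm hj) (Ne.symm hka) (Ne.symm hkj), e2] at this
    exact this.symm
  have eall : ∀ {i j : Fin n} (hij : i ≠ j) (t : F), F' i j hij t = G t := by
    intro i j hij t
    by_cases hi : a = i
    · subst hi; exact e2 hij t
    by_cases hj : a = j
    · subst hj; exact e3 hij t
    · rw [e1 hi hj hij, e2]
  have Gmul : ∀ s t, G (s * t) = G s * G t := by
    intro s t
    obtain ⟨c, hca, hcb⟩ := hthird a b
    have := F'comm (Ne.symm hca) (Ne.symm hb) (Ne.symm hcb) s t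
    rwa [eall, eall, eall] at this
  let σ₀ : F →+* F :=
    { toFun := G
      map_one' := F'one _
      map_mul' := Gmul
      map_zero' := by
        simp only [G, F']
        rw [show f a b (Ne.symm hb) 0 = 0 by simpa using fadd (Ne.symm hb) 0 0]
        simp
      map_add' := fun s t => by simp only [G, F', fadd]; ring }
  let σ : F ≃+* F := RingEquiv.ofBijective σ₀ ⟨σ₀.injective, Finite.injective_iff_surjective.mp σ₀.injective⟩
  refine ⟨g⁻¹, σ, ?_⟩
  have key : diagAut g * β = fieldAut σ := by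
    apply aut_ext
    intro i j hij c
    show (diagAut g * β) (rootPSL hij c) = _
    rw [hF', eall, fieldAut_mk]
    refine congrArg QuotientGroup.mk (Subtype.ext ?_)
    show (SpecialLinearGroup.transvection hij (G c)).1 = _
    rw [fieldSL_coe, SpecialLinearGroup.transvection_coe, SpecialLinearGroup.transvection_coe,
      Matrix.map_add σ (map_add σ), Matrix.map_one σ (map_zero σ) (map_one σ), Matrix.map_single]
    rfl
  rw [← key, map_inv, inv_mul_cancel_left]

/-- The automorphisms of `PSL_n(F)`, `n ≥ 3`. -/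
theorem aut_eq_high [Fintype F] (hn : 3 ≤ n) (β : MulAut (PSLg n F)) :
    ∃ (g : GL (Fin n) F) (σ : F ≃+* F), β = diagAut g * fieldAut σ ∨ β = diagAut g * fieldAut σ * itAut := by
  obtain ⟨p, hp⟩ := CharP.exists F
  haveI : Fact p.Prime := ⟨CharP.char_is_prime F p⟩
  have hdata : ∀ i j : Fin n, ∃ u φ : Fin n → F, ∀ hij : i ≠ j, IsRootImage β hij u φ := by
    intro i j
    by_cases hij : i = j
    · exact ⟨0, 0, fun h => absurd hij h⟩
    · obtain ⟨u, φ, h⟩ := exists_isRootImage p β hij
      exact ⟨u, φ, fun _ => h⟩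
  choose u φ h using hdata
  rcases root_images_type p hn u φ h with ht | ht
  · obtain ⟨g, hg⟩ := exists_diag_fix p hn u φ h ht
    obtain ⟨g', σ, hσ⟩ := diag_field_of_fix hn hg
    refine ⟨g⁻¹ * g', σ, Or.inl ?_⟩
    rw [map_mul, mul_assoc, ← hσ, map_inv, inv_mul_cancel_left]
  · obtain ⟨g, hg⟩ := exists_diag_fix p hn φ u (fun i j hij => (h i j hij).it) ht
    obtain ⟨g', σ, hσ⟩ := diag_field_of_fix hn hg
    refine ⟨itGL (g⁻¹ * g'), σ, Or.inr ?_⟩
    have hit : itAut * β = diagAut (g⁻¹ * g') * fieldAut σ := by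
      rw [map_mul, mul_assoc, ← hσ, map_inv, inv_mul_cancel_left]
    calc β = itAut * (itAut * β) := by rw [← mul_assoc, itAut_mul_self, one_mul]
      _ = _ := by rw [hit, ← mul_assoc, itAut_diagAut, mul_assoc, itAut_fieldAut, ← mul_assoc]

end CfsgLib.AutPSL
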