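import Mathlib
import Cfsg.Agent.Lib.AutPSL.Data

/-!
Automorphisms of `PSL_2(F)`: every one is diagonal times field.
-/

namespace CfsgLib.AutPSL

open Matrix
open scoped MatrixGroups commutatorElement

variable {F : Type*} [Field F]

theorem tr01_coe (s : F) :
    (SpecialLinearGroup.transvection (zero_ne_one (α := Fin 2)) s).1 = !![1, s; 0, 1] := by
  rw [SpecialLinearGroup.transvection_coe]
  ext i j
  fin_cases i <;> fin_cases j <;> simp

theorem tr10_coe (s : F) :
    (SpecialLinearGroup.transvection (one_ne_zero (α := Fin 2)) s).1 = !![1, 0; s, 1] := by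
  rw [SpecialLinearGroup.transvection_coe]
  ext i j
  fin_cases i <;> fin_cases j <;> simp

theorem rankOne_coe (s : F) (u φ : Fin 2 → F) :
    1 + s • Matrix.vecMulVec u φ =
      !![1 + s * (u 0 * φ 0), s * (u 0 * φ 1); s * (u 1 * φ 0), 1 + s * (u 1 * φ 1)] := by
  ext i j
  fin_cases i <;> fin_cases j <;> simp [Matrix.vecMulVec_apply]

/-- The Weyl element `x(a) y(b) x(a)`. -/
def wElt (a b : F) : SLg 2 F :=
  SpecialLinearGroup.transvection zero_ne_one a * SpecialLinearGroup.transvection one_ne_zero b *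
    SpecialLinearGroup.transvection zero_ne_one a

theorem wElt_coe (a b : F) :
    (wElt a b).1 = !![1 + a * b, a * (2 + a * b); b, 1 + a * b] := by
  show (SpecialLinearGroup.transvection (zero_ne_one (α := Fin 2)) a).1 *
    (SpecialLinearGroup.transvection (one_ne_zero (α := Fin 2)) b).1 *
    (SpecialLinearGroup.transvection (zero_ne_one (α := Fin 2)) a).1 = _
  rw [tr01_coe, tr10_coe]
  ext i j
  fin_cases i <;> fin_cases j <;> simp [Matrix.mul_apply, Fin.sum_univ_two] <;> ring

theorem wElt_mul_tr01 {a b : F} (hab : 1 + a * b = 0) (t : F) :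
    wElt a b * SpecialLinearGroup.transvection zero_ne_one t =
      SpecialLinearGroup.transvection one_ne_zero (-(b ^ 2) * t) * wElt a b := by
  apply Subtype.ext
  show (wElt a b).1 * (SpecialLinearGroup.transvection (zero_ne_one (α := Fin 2)) t).1 =
    (SpecialLinearGroup.transvection (one_ne_zero (α := Fin 2)) (-(b ^ 2) * t)).1 * (wElt a b).1
  rw [wElt_coe, tr01_coe, tr10_coe]
  ext i j
  fin_cases i <;> fin_cases j <;> simp [Matrix.mul_apply, Fin.sum_univ_two, hab]
  linear_combination (b * t * (1 + a * b)) * hab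

/-- An automorphism of `PSL_2` fixing both root groups is diagonal times field. -/
theorem diag_field_of_fix_two [Fintype F] (p : ℕ) [Fact p.Prime] [CharP F p] {β : MulAut (PSLg 2 F)}
    (hx : ∀ t : F, ∃ s, β (rootPSL (zero_ne_one (α := Fin 2)) t) = rootPSL zero_ne_one s)
    (hy : ∀ t : F, ∃ s, β (rootPSL (one_ne_zero (α := Fin 2)) t) = rootPSL one_ne_zero s) :
    ∃ (g : GL (Fin 2) F) (σ : F ≃+* F), β = diagAut g * fieldAut σ := by
  choose f hf using hx
  choose k hk using hy
  have fadd : ∀ s t, f (s + t) = f s + f t := fun s t => by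
    apply rootPSL_injective (zero_ne_one (α := Fin 2))
    rw [← hf, rootPSL_add, rootPSL_add, map_mul, hf, hf]
  have finj : Function.Injective f := fun s t h => by
    apply rootPSL_injective (zero_ne_one (α := Fin 2)); apply β.injective; rw [hf, hf, h]
  have kinj : Function.Injective k := fun s t h => by
    apply rootPSL_injective (one_ne_zero (α := Fin 2)); apply β.injective; rw [hk, hk, h]
  have f0 : f 0 = 0 := by simpa using fadd 0 0
  have fne : ∀ {a}, a ≠ 0 → f a ≠ 0 := fun ha h => ha (finj (h.trans f0.symm))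
  -- the Weyl element goes to a Weyl element
  have hw : ∀ a : F, a ≠ 0 → 1 + f a * k (-a⁻¹) = 0 ∧
      ∀ t : F, k (-(a⁻¹ ^ 2) * t) = -(k (-a⁻¹) ^ 2) * f t := by
    intro a ha
    have hab : 1 + a * (-a⁻¹) = 0 := by rw [mul_neg, mul_inv_cancel₀ ha]; ring
    have himg : ∀ a b : F, β (QuotientGroup.mk (wElt a b)) = QuotientGroup.mk (wElt (f a) (k b)) := by
      intro a b
      simp only [wElt, QuotientGroup.mk_mul, map_mul]
      show β (rootPSL _ a) * β (rootPSL _ b) * β (rootPSL _ a) = _
      rw [hf, hk]; rfl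
    have heq : ∀ t : F, (QuotientGroup.mk (wElt (f a) (k (-a⁻¹)) * SpecialLinearGroup.transvection zero_ne_one (f t)) : PSLg 2 F) =
        QuotientGroup.mk (SpecialLinearGroup.transvection one_ne_zero (k (-(a⁻¹ ^ 2) * t)) * wElt (f a) (k (-a⁻¹))) := by
      intro t
      rw [QuotientGroup.mk_mul, QuotientGroup.mk_mul, ← himg]
      show _ * rootPSL _ (f t) = rootPSL _ _ * _
      rw [← hf, ← hk, ← map_mul, ← map_mul]
      congr 1
      show QuotientGroup.mk _ * QuotientGroup.mk _ = (QuotientGroup.mk _ * QuotientGroup.mk _ : PSLg 2 F)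
      rw [← QuotientGroup.mk_mul, ← QuotientGroup.mk_mul, wElt_mul_tr01 hab, neg_sq]
    set M := wElt (f a) (k (-a⁻¹)) with hM
    have hconj : ∀ t, M * SpecialLinearGroup.transvection zero_ne_one (f t) =
        SpecialLinearGroup.transvection one_ne_zero (k (-(a⁻¹ ^ 2) * t)) * M := by
      intro t
      have h1 := eq_of_mk_eq p (k := 1)
        (A := M * SpecialLinearGroup.transvection zero_ne_one (f t) * M⁻¹)
        (B := SpecialLinearGroup.transvection one_ne_zero (k (-(a⁻¹ ^ 2) * t)))
        (by rw [pow_one, conj_pow, transvection_pow_eq_one p, mul_one, mul_inv_cancel])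
        (by rw [pow_one]; exact transvection_pow_eq_one p one_ne_zero _)
        (by rw [QuotientGroup.mk_mul, heq t, ← QuotientGroup.mk_mul, mul_inv_cancel_right])
      exact (mul_inv_eq_iff_eq_mul (G := SLg 2 F)).mp h1
    have h00 : 1 + f a * k (-a⁻¹) = 0 := by
      have h1 := congrArg (fun X : SLg 2 F => X.1 0 1) (hconj 1)
      change (M.1 * (SpecialLinearGroup.transvection (zero_ne_one (α := Fin 2)) (f 1)).1) 0 1 =
        ((SpecialLinearGroup.transvection (one_ne_zero (α := Fin 2)) (k (-(a⁻¹ ^ 2) * 1))).1 * M.1) 0 1 at h1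
      rw [hM, wElt_coe, tr01_coe, tr10_coe] at h1
      simp [Matrix.mul_apply, Fin.sum_univ_two] at h1
      exact (h1.resolve_right (fne one_ne_zero))
    refine ⟨h00, fun t => ?_⟩
    have h1 := hconj t
    rw [hM, wElt_mul_tr01 h00, mul_left_inj] at h1
    have h2 : rootPSL (one_ne_zero (α := Fin 2)) (-(k (-a⁻¹) ^ 2) * f t) = rootPSL one_ne_zero (k (-(a⁻¹ ^ 2) * t)) :=
      congrArg QuotientGroup.mk h1
    exact (rootPSL_injective _ h2).symm
  have f1 := fne (one_ne_zero (α := F))
  let G : F → F := fun t => f t / f 1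
  have kneg : ∀ s, k (-s) = - f s / (f 1) ^ 2 := by
    intro s
    obtain ⟨h1, h2⟩ := hw 1 one_ne_zero
    have h3 := h2 s
    rw [inv_one] at h1 h3
    rw [show -(1 : F) ^ 2 * s = -s by ring] at h3
    rw [h3, eq_div_iff (pow_ne_zero 2 f1)]
    linear_combination (f s) * (1 - f 1 * k (-1)) * h1
  have ksq : ∀ a t : F, f (a ^ 2 * t) * f 1 ^ 2 = f a ^ 2 * f t := by
    intro a t
    by_cases ha : a = 0
    · subst ha; simp [f0]
    obtain ⟨h1, h2⟩ := hw a ha
    have h3 := h2 (a ^ 2 * t)
    rw [show -(a⁻¹ ^ 2) * (a ^ 2 * t) = -t by field_simp, kneg] at h3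
    have h4 : k (-a⁻¹) = -1 / f a := by rw [eq_div_iff (fne ha)]; linear_combination h1
    rw [h4] at h3
    field_simp [fne ha, f1] at h3
    linear_combination h3
  have G1 : G 1 = 1 := div_self f1
  have Gadd : ∀ s t, G (s + t) = G s + G t := fun s t => by simp only [G, fadd, add_div]
  have Gsq : ∀ a t, G (a ^ 2 * t) = G a ^ 2 * G t := by
    intro a t
    simp only [G]
    field_simp
    linear_combination ksq a t
  have Gmul : ∀ s t, G (s * t) = G s * G t := by
    intro s t
    by_cases h2 : (2 : F) = 0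
    · haveI : CharP F 2 := (CharP.charP_iff_prime_eq_zero Nat.prime_two).mpr (by exact_mod_cast h2)
      obtain ⟨a, rfl⟩ := FiniteField.isSquare_of_char_two (F := F) (ringChar.eq F 2) s
      have e1 := Gsq a t
      have e2 := Gsq a 1
      rw [mul_one, G1, mul_one] at e2
      rw [← sq, e1, e2]
    · have e1 := Gsq (s + 1) t
      rw [show (s + 1) ^ 2 * t = s ^ 2 * t + (s * t + s * t) + t by ring] at e1
      rw [Gadd, Gadd, Gadd, Gsq, Gadd, G1] at e1
      apply mul_left_cancel₀ h2
      linear_combination e1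
  let σ₀ : F →+* F :=
    { toFun := G
      map_one' := G1
      map_mul' := Gmul
      map_zero' := by simp [G, f0]
      map_add' := Gadd }
  let σ : F ≃+* F := RingEquiv.ofBijective σ₀ ⟨σ₀.injective, Finite.injective_iff_surjective.mp σ₀.injective⟩
  have hσ : ∀ t, σ t = G t := fun t => rfl
  let g : GL (Fin 2) F := ⟨Matrix.diagonal ![f 1, 1], Matrix.diagonal ![(f 1)⁻¹, 1],
    by rw [Matrix.diagonal_mul_diagonal, ← Matrix.diagonal_one]; congr 1; funext i; fin_cases i <;> simp [f1],
    by rw [Matrix.diagonal_mul_diagonal, ← Matrix.diagonal_one]; congr 1; funext i; fin_cases i <;> simp [f1]⟩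
  refine ⟨g, σ, aut_ext fun i j hij c => ?_⟩
  have h01 : ∀ c, β (rootPSL (zero_ne_one (α := Fin 2)) c) = diagAut g (fieldAut σ (rootPSL zero_ne_one c)) := by
    intro c
    rw [hf, rootPSL, rootPSL, fieldAut_mk, diagAut_mk]
    refine congrArg QuotientGroup.mk (Subtype.ext ?_)
    rw [conjSL_coe, fieldSL_coe, tr01_coe, tr01_coe]
    ext i j
    fin_cases i <;> fin_cases j <;>
      simp [g, Matrix.mul_apply, Fin.sum_univ_two, Matrix.diagonal_apply, hσ, G, f1, f0] <;> field_simp
  have h10 : ∀ c, β (rootPSL (one_ne_zero (α := Fin 2)) c) = diagAut g (fieldAut σ (rootPSL one_ne_zero c)) := by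
    intro c
    rw [hk, rootPSL, rootPSL, fieldAut_mk, diagAut_mk]
    refine congrArg QuotientGroup.mk (Subtype.ext ?_)
    rw [conjSL_coe, fieldSL_coe, tr10_coe, tr10_coe]
    have hc : k c = f c / f 1 ^ 2 := by
      have := kneg (-c)
      rw [neg_neg] at this
      have hfn : f (-c) = - f c := by
        have h0 := fadd c (-c)
        rw [add_neg_cancel, f0] at h0
        linear_combination -h0
      rw [this, hfn, neg_neg]
    ext i j
    fin_cases i <;> fin_cases j <;>
      simp [g, Matrix.mul_apply, Fin.sum_univ_two, Matrix.diagonal_apply, hσ, G, f1, f0, hc] <;> field_simp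
  match i, j with
  | 0, 0 => exact absurd rfl hij
  | 1, 1 => exact absurd rfl hij
  | 0, 1 => exact h01 c
  | 1, 0 => exact h10 c

/-- The automorphisms of `PSL_2(F)`. -/
theorem aut_eq_two [Fintype F] (β : MulAut (PSLg 2 F)) :
    ∃ (g : GL (Fin 2) F) (σ : F ≃+* F), β = diagAut g * fieldAut σ := by
  obtain ⟨p, hp⟩ := CharP.exists F
  haveI : Fact p.Prime := ⟨CharP.char_is_prime F p⟩
  obtain ⟨g, hg⟩ := exists_map_rootSub p β (a := (0 : Fin 2)) (b := 1) (by decide) (by decide) (by decide)
  let β' : MulAut (PSLg 2 F) := diagAut g⁻¹ * β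
  have hβ' : ∀ x, β' x ∈ rootSub (F := F) (zero_ne_one (α := Fin 2)) ↔ x ∈ rootSub (F := F) zero_ne_one := by
    intro x
    rw [← hg x, Subgroup.map_equiv_eq_comap_symm', Subgroup.mem_comap]
    show diagAut g⁻¹ (β x) ∈ _ ↔ _
    rw [map_inv]
    rfl
  obtain ⟨u, φ, h⟩ := exists_isRootImage p β' (one_ne_zero (α := Fin 2))
  have hu1 : u 1 ≠ 0 := by
    intro h0
    have hd := h.dot_eq
    simp [dotProduct, Fin.sum_univ_two, h0] at hd
    have hu0 : u 0 ≠ 0 := fun h' => h.fst_ne (by funext i; fin_cases i <;> assumption)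
    have hφ0 : φ 0 = 0 := hd.resolve_right hu0
    obtain ⟨A, s, hA, hβA⟩ := h.fwd 1
    have hmem : (QuotientGroup.mk A : PSLg 2 F) ∈ rootSub (F := F) (zero_ne_one (α := Fin 2)) := by
      refine ⟨s * (u 0 * φ 1), congrArg QuotientGroup.mk (Subtype.ext ?_)⟩
      rw [tr01_coe, hA, rankOne_coe]
      ext i j
      fin_cases i <;> fin_cases j <;> simp [h0, hφ0]
    rw [← hβA, hβ'] at hmem
    obtain ⟨t, ht⟩ := hmem
    have hm := eq_of_mk_eq p (k := 1) (by rw [pow_one]; exact transvection_pow_eq_one p zero_ne_one t)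
      (by rw [pow_one]; exact transvection_pow_eq_one p one_ne_zero 1) ht
    have := congrArg (fun X : SLg 2 F => X.1 1 0) hm
    rw [tr01_coe, tr10_coe] at this
    simp at this
  let c : F := -(u 0 / u 1)
  let γ : GL (Fin 2) F := SpecialLinearGroup.toGL (SpecialLinearGroup.transvection (zero_ne_one (α := Fin 2)) c)
  obtain ⟨g', σ, hσ⟩ := diag_field_of_fix_two p (β := diagAut γ * β')
    (fun t => by
      obtain ⟨s, hs⟩ := (hβ' (rootPSL zero_ne_one t)).mpr ⟨t, rfl⟩
      refine ⟨s, ?_⟩
      rw [MulAut.mul_apply, ← hs, diagAut_toGL, MulAut.conj_apply]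
      show rootPSL zero_ne_one c * rootPSL zero_ne_one s * (rootPSL zero_ne_one c)⁻¹ = _
      rw [← rootPSL_add, add_comm c s, rootPSL_add, mul_inv_cancel_right])
    (fun t => by
      obtain ⟨A, s, hA, hβA⟩ := h.fwd t
      have hd := h.dot_eq
      simp [dotProduct, Fin.sum_univ_two] at hd
      refine ⟨s * (u 1 * φ 0), ?_⟩
      rw [MulAut.mul_apply, hβA, diagAut_mk]
      refine congrArg QuotientGroup.mk (Subtype.ext ?_)
      show (SpecialLinearGroup.transvection (zero_ne_one (α := Fin 2)) c).1 * A.1 *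
        ((γ⁻¹ : GL (Fin 2) F) : Matrix (Fin 2) (Fin 2) F) = _
      rw [toGL_inv_coe, SpecialLinearGroup.transvection_inv, tr01_coe, tr01_coe, tr10_coe, hA, rankOne_coe]
      have hc : c * u 1 = -u 0 := by simp only [c]; field_simp
      ext i j
      fin_cases i <;> fin_cases j <;> simp [Matrix.mul_apply, Fin.sum_univ_two]
      · linear_combination (s * φ 0) * hc
      · linear_combination (s * φ 1 - c * s * φ 0) * hc
      · linear_combination s * hd - (s * φ 0) * hc)
  refine ⟨g * γ⁻¹ * g', σ, ?_⟩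
  rw [map_mul, map_mul, mul_assoc, ← hσ]
  simp only [β', map_inv, mul_assoc, mul_inv_cancel_left, inv_mul_cancel_left]

end CfsgLib.AutPSL
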