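import Mathlib
import Cfsg.Agent.Lib.AutPSL.MainHigh
import Cfsg.Agent.Lib.AutPSL.MainTwo

/-!
`Aut(PSL_n(F))` over a finite field: diagonal × field × graph, and uniqueness of the decomposition.
-/

namespace CfsgLib.AutPSL

open Matrix
open scoped MatrixGroups

variable {n : ℕ} {F : Type*} [Field F]

/-- Every automorphism of `PSL_n(F)`, `F` finite, `n ≥ 2`, is diagonal times field, times inverse-transpose possibly
when `n ≥ 3`. -/
theorem aut_decomposition [Fintype F] (hn : 2 ≤ n) (β : MulAut (PSLg n F)) :
    ∃ (g : GL (Fin n) F) (σ : F ≃+* F),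
      β = diagAut g * fieldAut σ ∨ (3 ≤ n ∧ β = diagAut g * fieldAut σ * itAut) := by
  rcases hn.eq_or_lt with h | h
  · subst h
    obtain ⟨g, σ, hσ⟩ := aut_eq_two β
    exact ⟨g, σ, Or.inl hσ⟩
  · obtain ⟨g, σ, hσ | hσ⟩ := aut_eq_high h β
    · exact ⟨g, σ, Or.inl hσ⟩
    · exact ⟨g, σ, Or.inr ⟨h, hσ⟩⟩

theorem semilinear_apply_root (g : GL (Fin n) F) (σ : F ≃+* F) {i j : Fin n} (hij : i ≠ j) :
    (diagAut g * fieldAut σ : MulAut (PSLg n F)) (rootPSL hij 1) = diagAut g (rootPSL hij 1) := by
  rw [MulAut.mul_apply]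
  congr 1
  rw [rootPSL, fieldAut_mk]
  refine congrArg QuotientGroup.mk (Subtype.ext ?_)
  rw [fieldSL_coe, SpecialLinearGroup.transvection_coe, Matrix.map_add σ (map_add σ),
    Matrix.map_one σ (map_zero σ) (map_one σ), Matrix.map_single, map_one]

/-- If `diag g * field σ` is trivial then `g` is scalar and `σ` trivial. -/
theorem semilinear_eq_one [Fintype F] (hn : 2 ≤ n) {g : GL (Fin n) F} {σ : F ≃+* F}
    (h : (diagAut g * fieldAut σ : MulAut (PSLg n F)) = 1) :
    (∃ c : Fˣ, g.1 = (c : F) • (1 : Matrix (Fin n) (Fin n) F)) ∧ σ = RingEquiv.refl F := by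
  obtain ⟨p, hp⟩ := CharP.exists F
  haveI : Fact p.Prime := ⟨CharP.char_is_prime F p⟩
  have hfix : ∀ {i j : Fin n} (hij : i ≠ j) (t : F),
      g.1 * Matrix.single i j (σ t) = Matrix.single i j t * g.1 := by
    intro i j hij t
    have h1 : (QuotientGroup.mk (conjSL g (SpecialLinearGroup.transvection hij (σ t))) : PSLg n F) =
        QuotientGroup.mk (SpecialLinearGroup.transvection hij t) := by
      have h0 := DFunLike.congr_fun h (rootPSL hij t)
      rw [MulAut.mul_apply, MulAut.one_apply, rootPSL, fieldAut_mk, diagAut_mk] at h0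
      rw [← h0]
      refine congrArg QuotientGroup.mk (congrArg _ (Subtype.ext ?_))
      rw [fieldSL_coe, SpecialLinearGroup.transvection_coe, SpecialLinearGroup.transvection_coe,
        Matrix.map_add σ (map_add σ), Matrix.map_one σ (map_zero σ) (map_one σ), Matrix.map_single]
    have h2 := eq_of_mk_eq p (k := 1) (by rw [pow_one]; exact conjSL_transvection_pow_eq_one p g hij _)
      (by rw [pow_one]; exact transvection_pow_eq_one p hij t) h1
    have h3 : g.1 * (1 + Matrix.single i j (σ t)) * (g⁻¹).1 = 1 + Matrix.single i j t := congrArg Subtype.val h2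
    have h4 := congrArg (· * g.1) h3
    simp only [Matrix.mul_assoc, Units.inv_mul, Matrix.mul_one, Matrix.mul_add, Matrix.add_mul,
      Matrix.one_mul] at h4
    exact add_left_cancel h4
  haveI : Nontrivial (Fin n) := Fin.nontrivial_iff_two_le.mpr hn
  have hoff : ∀ a b : Fin n, a ≠ b → g.1 a b = 0 := by
    intro a b hab
    have := congrFun (congrFun (hfix (Ne.symm hab) 1) a) a
    rw [map_one, Matrix.mul_single_apply_same, Matrix.single_mul_apply_of_ne (h := hab), mul_one] at this
    exact this
  have hdiag : ∀ a b : Fin n, a ≠ b → ∀ t, g.1 a a * σ t = t * g.1 b b := by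
    intro a b hab t
    have := congrFun (congrFun (hfix hab t) a) b
    rwa [Matrix.mul_single_apply_same, Matrix.single_mul_apply_same] at this
  let a : Fin n := ⟨0, by omega⟩
  obtain ⟨b, hb⟩ := exists_ne a
  have hconst : ∀ k, g.1 k k = g.1 a a := by
    intro k
    by_cases hk : a = k
    · rw [← hk]
    · have := hdiag a k hk 1
      rw [map_one, mul_one, one_mul] at this
      exact this.symm
  have hne : g.1 a a ≠ 0 := by
    intro h0
    have := congrFun (congrFun g.mul_inv a) a
    rw [Matrix.mul_apply, Finset.sum_eq_zero (fun k _ => by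
      by_cases hk : a = k
      · subst hk; rw [h0, zero_mul]
      · rw [hoff a k hk, zero_mul]), Matrix.one_apply_eq] at this
    exact zero_ne_one this
  refine ⟨⟨Units.mk0 _ hne, ?_⟩, ?_⟩
  · ext i j
    by_cases hij : i = j
    · subst hij; simp [hconst]
    · simp [hij, hoff i j hij]
  · ext t
    have := hdiag a b (Ne.symm hb) t
    rw [hconst b, mul_comm t] at this
    exact mul_left_cancel₀ hne this

/-- For `n ≥ 3` inverse-transpose is not semilinear. -/
theorem itAut_ne_semilinear [Fintype F] (hn : 3 ≤ n) (g : GL (Fin n) F) (σ : F ≃+* F) :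
    (itAut : MulAut (PSLg n F)) ≠ diagAut g * fieldAut σ := by
  obtain ⟨p, hp⟩ := CharP.exists F
  haveI : Fact p.Prime := ⟨CharP.char_is_prime F p⟩
  intro h
  have hv : ∀ {i j : Fin n} (hij : i ≠ j), g.1 * Matrix.single i j 1 = Matrix.single j i (-1) * g.1 := by
    intro i j hij
    have h0 := DFunLike.congr_fun h (rootPSL (F := F) hij 1)
    rw [semilinear_apply_root, rootPSL, itAut_mk, diagAut_mk] at h0
    have h2 := eq_of_mk_eq p (k := 1)
      (by rw [pow_one, ← map_pow, transvection_pow_eq_one p, map_one])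
      (by rw [pow_one]; exact conjSL_transvection_pow_eq_one p g hij 1) h0
    have h3 : (1 + Matrix.single i j (-1 : F)).transpose = g.1 * (1 + Matrix.single i j 1) * (g⁻¹).1 := by
      have h4 := congrArg Subtype.val h2
      rw [itSL_coe, SpecialLinearGroup.transvection_inv] at h4
      exact h4
    have h4 := congrArg (· * g.1) h3
    simp only [Matrix.mul_assoc, Units.inv_mul, Matrix.mul_one, Matrix.mul_add, Matrix.add_mul,
      Matrix.one_mul, Matrix.transpose_add, Matrix.transpose_one, Matrix.transpose_single] at h4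
    exact (add_left_cancel h4).symm
  let a : Fin n := ⟨0, by omega⟩
  let b : Fin n := ⟨1, by omega⟩
  let c : Fin n := ⟨2, by omega⟩
  have hab : a ≠ b := by simp [a, b, Fin.ext_iff]
  have hac : a ≠ c := by simp [a, c, Fin.ext_iff]
  have hbc : b ≠ c := by simp [b, c, Fin.ext_iff]
  -- column `a` of `g` vanishes
  have hz : ∀ x, g.1 x a = 0 := by
    intro x
    by_cases hx : x = b
    · have := congrFun (congrFun (hv hac) x) c
      rw [Matrix.mul_single_apply_same, Matrix.single_mul_apply_of_ne (h := by rw [hx]; exact hbc), mul_one] at this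
      exact this
    · have := congrFun (congrFun (hv hab) x) b
      rw [Matrix.mul_single_apply_same, Matrix.single_mul_apply_of_ne (h := hx), mul_one] at this
      exact this
  have := congrFun (congrFun g.inv_mul a) a
  rw [Matrix.mul_apply, Finset.sum_eq_zero (fun k _ => by rw [hz k, mul_zero]), Matrix.one_apply_eq] at this
  exact zero_ne_one this

end CfsgLib.AutPSL
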