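import Mathlib
import Cfsg.Agent.Lib.AutPSL.Main
import Cfsg.Agent.Lib.AutPSL.FieldAut

/-!
The kernel of `GL_n → Aut(PSL_n)`, `Inndiag(PSL_n) ≅ PGL_n`, and the order of `Aut(PSL_n)`.
-/

namespace CfsgLib.AutPSL

open Matrix
open scoped MatrixGroups

variable {n : ℕ} {F : Type*} [Field F] [Fintype F]

theorem fieldAut_injective (hn : 2 ≤ n) :
    Function.Injective (fieldAut : (F ≃+* F) →* MulAut (PSLg n F)) := by
  refine (injective_iff_map_eq_one _).mpr fun σ hσ => ?_
  exact (semilinear_eq_one hn (g := 1) (σ := σ) (by rw [map_one, one_mul, hσ])).2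

omit [Fintype F] in
theorem conjSL_scalar (u : Fˣ) :
    conjSL (Matrix.GeneralLinearGroup.scalar (Fin n) u) = (1 : MulAut (SLg n F)) := by
  refine MulEquiv.ext fun s => Subtype.ext ?_
  rw [conjSL_coe]
  show Matrix.scalar (Fin n) (u : F) * s.1 * Matrix.scalar (Fin n) ((u⁻¹ : Fˣ) : F) = s.1
  rw [(Matrix.scalar_commute (u : F) (fun r => Commute.all _ _) s.1).eq, Matrix.mul_assoc, ← map_mul,
    ← Units.val_mul, mul_inv_cancel, Units.val_one, map_one, Matrix.mul_one]

theorem ker_diagAut (hn : 2 ≤ n) :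
    (diagAut (n := n) (F := F)).ker = Subgroup.center (GL (Fin n) F) := by
  ext g
  rw [MonoidHom.mem_ker, Matrix.GeneralLinearGroup.center_eq_range_scalar, MonoidHom.mem_range]
  constructor
  · intro h
    obtain ⟨⟨c, hc⟩, -⟩ := semilinear_eq_one hn (g := g) (σ := 1) (by rw [map_one, mul_one, h])
    refine ⟨c, Units.ext ?_⟩
    rw [hc, Matrix.smul_one_eq_diagonal]
    rfl
  · rintro ⟨u, rfl⟩
    show descend (conjSL _) = 1
    rw [conjSL_scalar, map_one]

/-- `Inndiag(PSL_n(F))` is `PGL_n(F)`. -/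
noncomputable def pglEquivInndiag (hn : 2 ≤ n) :
    Matrix.ProjGenLinGroup (Fin n) F ≃* ↥(diagAut (n := n) (F := F)).range :=
  (QuotientGroup.quotientMulEquivOfEq (ker_diagAut hn).symm).trans
    (QuotientGroup.quotientKerEquivRange (diagAut (n := n) (F := F)))

theorem semilinear_inj (hn : 2 ≤ n) {g g' : GL (Fin n) F} {σ σ' : F ≃+* F}
    (h : (diagAut g * fieldAut σ : MulAut (PSLg n F)) = diagAut g' * fieldAut σ') :
    (diagAut g : MulAut (PSLg n F)) = diagAut g' ∧ σ = σ' := by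
  have h1 : (diagAut (g'⁻¹ * g) * fieldAut (σ * σ'⁻¹) : MulAut (PSLg n F)) = 1 := by
    rw [map_mul, map_mul, map_inv, map_inv, mul_assoc, ← mul_assoc (diagAut g), h, mul_assoc,
      mul_inv_cancel, mul_one, inv_mul_cancel]
  have h2 : σ * σ'⁻¹ = 1 := (semilinear_eq_one hn h1).2
  have h3 : σ = σ' := mul_inv_eq_one.mp h2
  refine ⟨?_, h3⟩
  rw [h3] at h
  exact mul_right_cancel h

theorem card_aut (p f : ℕ) [Fact p.Prime] (hF : Fintype.card F = p ^ f) (hn : 2 ≤ n) :
    Nat.card (MulAut (PSLg n F)) =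
      (if n = 2 then 1 else 2) * f * Nat.card (Matrix.ProjGenLinGroup (Fin n) F) := by
  classical
  let R := (diagAut (n := n) (F := F)).range
  by_cases h2 : n = 2
  · rw [if_pos h2, one_mul]
    let Φ : ↥R × (F ≃+* F) → MulAut (PSLg n F) := fun x => x.1.1 * fieldAut x.2
    have hΦ : Function.Bijective Φ := by
      constructor
      · rintro ⟨⟨a, g, rfl⟩, σ⟩ ⟨⟨b, g', rfl⟩, σ'⟩ h
        obtain ⟨h1, h3⟩ := semilinear_inj hn h
        exact Prod.ext (Subtype.ext h1) h3
      · intro β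
        obtain ⟨g, σ, h | ⟨h3, h⟩⟩ := aut_decomposition hn β
        · exact ⟨⟨⟨_, g, rfl⟩, σ⟩, h.symm⟩
        · omega
    rw [← Nat.card_congr (Equiv.ofBijective Φ hΦ), Nat.card_prod, card_ringAut hF,
      ← Nat.card_congr (pglEquivInndiag (n := n) (F := F) hn).toEquiv, mul_comm]
  · rw [if_neg h2]
    have h3 : 3 ≤ n := by omega
    let Φ : (↥R × (F ≃+* F)) × Bool → MulAut (PSLg n F) := fun x =>
      x.1.1.1 * fieldAut x.1.2 * (if x.2 then itAut else 1)
    have hne : ∀ (g g' : GL (Fin n) F) (σ σ' : F ≃+* F),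
        (diagAut g * fieldAut σ * itAut : MulAut (PSLg n F)) ≠ diagAut g' * fieldAut σ' := by
      intro g g' σ σ' h
      refine itAut_ne_semilinear h3 (Matrix.GeneralLinearGroup.map (σ⁻¹ : F ≃+* F).toRingHom (g⁻¹ * g')) (σ⁻¹ * σ') ?_
      calc (itAut : MulAut (PSLg n F)) = (diagAut g * fieldAut σ)⁻¹ * (diagAut g' * fieldAut σ') := by
            rw [← h]; group
        _ = fieldAut σ⁻¹ * diagAut (g⁻¹ * g') * fieldAut σ' := by rw [map_inv, map_mul, map_inv]; group
        _ = _ := by rw [fieldAut_diagAut, mul_assoc, ← map_mul fieldAut]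
    have hΦ : Function.Bijective Φ := by
      constructor
      · rintro ⟨⟨⟨a, g, rfl⟩, σ⟩, e⟩ ⟨⟨⟨b, g', rfl⟩, σ'⟩, e'⟩ h
        simp only [Φ] at h
        cases e <;> cases e' <;>
          simp only [Bool.false_eq_true, if_false, if_true, mul_one] at h
        · obtain ⟨h1, h4⟩ := semilinear_inj hn h
          exact Prod.ext (Prod.ext (Subtype.ext h1) h4) rfl
        · exact absurd h.symm (hne g' g σ' σ)
        · exact absurd h (hne g g' σ σ')
        · obtain ⟨h1, h4⟩ := semilinear_inj hn (mul_right_cancel h)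
          exact Prod.ext (Prod.ext (Subtype.ext h1) h4) rfl
      · intro β
        obtain ⟨g, σ, h | ⟨_, h⟩⟩ := aut_decomposition hn β
        · exact ⟨⟨⟨⟨_, g, rfl⟩, σ⟩, false⟩, by simp [Φ, h]⟩
        · exact ⟨⟨⟨⟨_, g, rfl⟩, σ⟩, true⟩, by simp [Φ, h]⟩
    rw [← Nat.card_congr (Equiv.ofBijective Φ hΦ), Nat.card_prod, Nat.card_prod, card_ringAut hF,
      ← Nat.card_congr (pglEquivInndiag (n := n) (F := F) hn).toEquiv]
    simp only [Nat.card_eq_fintype_card, Fintype.card_bool]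
    ring

end CfsgLib.AutPSL
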