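import Mathlib
import Cfsg.Agent.Lib.AutPSL.FieldAut

/-!
Over a finite field with an involutive automorphism `σ`, an invertible `σ`-Hermitian matrix is congruent to `1`.
-/

namespace CfsgLib.AutPSL

open Matrix

variable {F : Type*} [Field F] [Fintype F] {n : ℕ}

theorem exists_hermitian_congr (σ : F ≃+* F) (hord : orderOf σ = 2) (M : Matrix (Fin n) (Fin n) F)
    (hherm : (M.map σ)ᵀ = M) (hdet : M.det ≠ 0) :
    ∃ h : GL (Fin n) F, M = h.1 * (h.1.map σ)ᵀ := by
  classical
  have hσne : ∃ a, σ a ≠ a := by
    by_contra hc
    simp only [not_exists, not_not] at hc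
    have : σ = 1 := RingEquiv.ext hc
    rw [this, orderOf_one] at hord
    omega
  have hσ2 : ∀ a, σ (σ a) = a := by
    intro a
    have := pow_orderOf_eq_one σ
    rw [hord, pow_two] at this
    exact DFunLike.congr_fun this a
  let b : (Fin n → F) → (Fin n → F) → F := fun x y => x ⬝ᵥ (M *ᵥ fun i => σ (y i))
  have hsum : ∀ x y, b x y = ∑ i, ∑ j, x i * M i j * σ (y j) := by
    intro x y
    simp only [b, dotProduct, Matrix.mulVec, Finset.mul_sum, mul_assoc]
  have hsym : ∀ x y, σ (b x y) = b y x := by
    intro x y
    rw [hsum, hsum, Finset.sum_comm, map_sum]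
    refine Finset.sum_congr rfl fun i _ => ?_
    rw [map_sum]
    refine Finset.sum_congr rfl fun j _ => ?_
    rw [map_mul, map_mul, hσ2]
    have : σ (M j i) = M i j := congrFun (congrFun hherm i) j
    rw [this]; ring
  have hsub : ∀ x x' y, b (x - x') y = b x y - b x' y := fun x x' y => sub_dotProduct _ _ _
  have hadd : ∀ x x' y, b (x + x') y = b x y + b x' y := fun x x' y => add_dotProduct _ _ _
  have hsmul : ∀ (c : F) x y, b (c • x) y = c * b x y := fun c x y => smul_dotProduct _ _ _
  have hsumL : ∀ {k : ℕ} (e : Fin k → Fin n → F) (c : Fin k → F) y,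
      b (∑ i, c i • e i) y = ∑ i, c i * b (e i) y := by
    intro k e c y
    simp only [b, sum_dotProduct, smul_dotProduct, smul_eq_mul]
  have hnd : ∀ x, (∀ y, b x y = 0) → x = 0 := by
    intro x hx
    have hMu : IsUnit M := (Matrix.isUnit_iff_isUnit_det M).mpr (isUnit_iff_ne_zero.mpr hdet)
    have h0 : x ᵥ* M = 0 := by
      funext j
      have := hx (Pi.single j 1)
      simp only [b] at this
      have hs : (fun i => σ ((Pi.single j (1 : F) : Fin n → F) i)) = Pi.single j 1 := by
        funext i; by_cases h : i = j
        · subst h; simp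
        · simp [h]
      rw [hs, dotProduct_mulVec, dotProduct_single, mul_one] at this
      exact this
    exact (Matrix.vecMul_injective_iff_isUnit.mpr hMu) (h0.trans (Matrix.zero_vecMul M).symm)
  have hON : ∀ k, k ≤ n → ∃ e : Fin k → Fin n → F, ∀ i j, b (e i) (e j) = if i = j then 1 else 0 := by
    intro k
    induction k with
    | zero => exact fun _ => ⟨Fin.elim0, fun i => i.elim0⟩
    | succ k ih =>
      intro hk
      obtain ⟨e, he⟩ := ih (by omega)
      let P : (Fin n → F) → (Fin n → F) := fun x => x - ∑ i, b x (e i) • e i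
      have hP : ∀ x j, b (P x) (e j) = 0 := by
        intro x j
        simp only [P, hsub, hsumL, he, mul_ite, mul_one, mul_zero]
        rw [Finset.sum_ite_eq', if_pos (Finset.mem_univ _), sub_self]
      have hex : ∃ w, (∀ j, b w (e j) = 0) ∧ b w w ≠ 0 := by
        by_contra hc
        simp only [not_exists, not_and, not_not] at hc
        have hW : ∀ x y, (∀ j, b x (e j) = 0) → (∀ j, b y (e j) = 0) → b x y = 0 := by
          intro x y hx hy
          have hanti : ∀ x y, (∀ j, b x (e j) = 0) → (∀ j, b y (e j) = 0) → b x y + σ (b x y) = 0 := by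
            intro x y hx hy
            have h0 := hc (x + y) (fun j => by rw [hadd, hx, hy, add_zero])
            have e1 := hc x hx
            have e2 := hc y hy
            have hr : ∀ u v v', b u (v + v') = b u v + b u v' := by
              intro u v v'
              rw [← hsym (v + v') u, hadd, map_add, hsym, hsym]
            rw [hadd, hr, hr, e1, e2] at h0
            rw [hsym]
            linear_combination h0
          obtain ⟨a, ha⟩ := hσne
          have h1 := hanti (a • x) y (fun j => by rw [hsmul, hx, mul_zero]) hy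
          have h2 := hanti x y hx hy
          rw [hsmul, map_mul] at h1
          have : (a - σ a) * b x y = 0 := by linear_combination h1 - σ a * h2
          exact (mul_eq_zero.mp this).resolve_left (sub_ne_zero.mpr (Ne.symm ha))
        have hspan : ∀ x, x ∈ Submodule.span F (Set.range e) := by
          intro x
          have hz : P x = 0 := by
            refine hnd _ fun y => ?_
            have hy : y = P y + ∑ i, b y (e i) • e i := by simp [P]
            rw [← hsym, hy, hadd, hsumL, ← hsym (P x) (P y), hW _ _ (hP x) (hP y)]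
            rw [map_zero, zero_add]
            rw [Finset.sum_eq_zero, map_zero]
            intro i _
            rw [← hsym (P x) (e i), hP, map_zero, mul_zero]
          have : x = ∑ i, b x (e i) • e i := sub_eq_zero.mp hz
          rw [this]
          exact Submodule.sum_mem _ fun i _ => Submodule.smul_mem _ _ (Submodule.subset_span ⟨i, rfl⟩)
        have htop : Submodule.span F (Set.range e) = ⊤ := eq_top_iff.mpr fun x _ => hspan x
        have := finrank_range_le_card (R := F) e
        rw [Set.finrank, htop, finrank_top, Module.finrank_fin_fun, Fintype.card_fin] at this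
        omega
      obtain ⟨w, hw, hww⟩ := hex
      obtain ⟨x, hx⟩ := exists_norm_eq σ hord (hsym w w)
      rw [Finset.prod_range_succ, Finset.prod_range_one, pow_zero, pow_one] at hx
      change x * σ x = b w w at hx
      have hx0 : x ≠ 0 := fun h => hww (by rw [← hx, h, zero_mul])
      refine ⟨Fin.snoc e (x⁻¹ • w), fun i j => ?_⟩
      have hcross : ∀ i, b (x⁻¹ • w) (e i) = 0 := fun i => by rw [hsmul, hw, mul_zero]
      induction i using Fin.lastCases with
      | last =>
        induction j using Fin.lastCases with
        | last =>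
          rw [Fin.snoc_last, hsmul, ← hsym (x⁻¹ • w) w, hsmul, map_mul, map_inv₀, hsym, if_pos rfl, ← hx]
          have : σ x ≠ 0 := (map_ne_zero σ).mpr hx0
          field_simp
        | cast j =>
          rw [Fin.snoc_last, Fin.snoc_castSucc, hcross, if_neg]
          exact (Fin.castSucc_lt_last j).ne'
      | cast i =>
        induction j using Fin.lastCases with
        | last =>
          rw [Fin.snoc_last, Fin.snoc_castSucc, ← hsym (x⁻¹ • w) (e i), hcross, map_zero, if_neg]
          exact (Fin.castSucc_lt_last i).ne
        | cast j =>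
          rw [Fin.snoc_castSucc, Fin.snoc_castSucc, he]
          simp only [Fin.castSucc_inj]
  obtain ⟨e, he⟩ := hON n le_rfl
  let P : Matrix (Fin n) (Fin n) F := Matrix.of e
  have hPM : P * M * (P.map σ)ᵀ = 1 := by
    ext i j
    rw [Matrix.one_apply, ← he i j, hsum, Matrix.mul_apply, Finset.sum_comm]
    refine Finset.sum_congr rfl fun k _ => ?_
    rw [Matrix.mul_apply, Finset.sum_mul]
    rfl
  have hPdet : IsUnit P.det := by
    refine isUnit_iff_ne_zero.mpr fun h0 => ?_
    have := congrArg Matrix.det hPM
    rw [Matrix.det_mul, Matrix.det_mul, h0, zero_mul, zero_mul, Matrix.det_one] at this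
    exact zero_ne_one this
  let g : GL (Fin n) F := P.nonsingInvUnit hPdet
  refine ⟨g⁻¹, ?_⟩
  have h2 : (g.1.map σ)ᵀ * ((g⁻¹).1.map σ)ᵀ = 1 := by
    rw [← Matrix.transpose_mul]
    have : (g⁻¹).1.map σ.toRingHom * g.1.map σ.toRingHom = 1 := by
      rw [← Matrix.map_mul, Units.inv_mul, Matrix.map_one _ (map_zero _) (map_one _)]
    have h3 : (g⁻¹).1.map σ * g.1.map σ = 1 := this
    rw [h3, Matrix.transpose_one]
  calc M = (g⁻¹).1 * (g.1 * M * (g.1.map σ)ᵀ) * ((g⁻¹).1.map σ)ᵀ := by
        rw [Matrix.mul_assoc g.1, ← Matrix.mul_assoc (g⁻¹).1 g.1, Units.inv_mul, Matrix.one_mul,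
          Matrix.mul_assoc, h2, Matrix.mul_one]
    _ = _ := by
        show (g⁻¹).1 * (P * M * (P.map σ)ᵀ) * ((g⁻¹).1.map σ)ᵀ = _
        rw [hPM, Matrix.mul_one]

end CfsgLib.AutPSL
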