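import Mathlib
import Cfsg.Agent.Lib.AutPSL.Count
import Cfsg.Agent.Lib.AutPSL.HermCongr

/-!
Field and graph-field automorphisms of prime order of `PSL_n`: normal forms and conjugacy in their cosets.
-/

namespace CfsgLib.AutPSL

open Matrix
open scoped MatrixGroups

variable {n : ℕ} {F : Type*} [Field F] [Fintype F]

omit [Fintype F] in
theorem mem_inndiag_iff {β : MulAut (PSLg n F)} :
    β ∈ Cfsg.inndiagPSL n F ↔ ∃ g, diagAut g = β := by
  rw [inndiagPSL_eq]; rfl

theorem isConjUnder_orderOf {X : Type*} [Group X] {H : Subgroup X} {x y : X} (h : Cfsg.IsConjUnder H x y) :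
    orderOf y = orderOf x := by
  obtain ⟨a, _, rfl⟩ := h
  exact MulEquiv.orderOf_eq (MulAut.conj a) x

/-- An automorphism conjugate in `Aut` to `fieldAut σ` is conjugate to it by a diagonal automorphism. -/
theorem field_normal_form (hn : 2 ≤ n) {x α : MulAut (PSLg n F)} {σ : F ≃+* F}
    (h : α * x * α⁻¹ = fieldAut σ) :
    ∃ h' : GL (Fin n) F, x = diagAut h' * fieldAut σ * (diagAut h')⁻¹ := by
  have hx : x = α⁻¹ * fieldAut σ * α := by rw [← h]; group
  obtain ⟨g, τ, hd⟩ := aut_decomposition hn α⁻¹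
  refine ⟨g, ?_⟩
  have hα : α = (α⁻¹)⁻¹ := (inv_inv α).symm
  have hx' : x = α⁻¹ * fieldAut σ * (α⁻¹)⁻¹ := by rw [← hα]; exact hx
  rw [hx']
  rcases hd with hd | ⟨-, hd⟩ <;> rw [hd]
  · rw [_root_.mul_inv_rev, mul_assoc (diagAut g), ← map_mul fieldAut, ringAut_comm τ σ, map_mul]
    group
  · rw [_root_.mul_inv_rev, _root_.mul_inv_rev, mul_assoc _ itAut (fieldAut σ), itAut_fieldAut]
    rw [show (diagAut g * fieldAut τ * (fieldAut σ * itAut) * (itAut⁻¹ * ((fieldAut τ)⁻¹ * (diagAut g)⁻¹)) :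
        MulAut (PSLg n F)) = diagAut g * (fieldAut τ * fieldAut σ) * (fieldAut τ)⁻¹ * (diagAut g)⁻¹ by group,
      ← map_mul fieldAut, ringAut_comm τ σ, map_mul]
    group

/-- An automorphism conjugate in `Aut` to `fieldAut σ * it` is conjugate to it by a diagonal automorphism. -/
theorem graphField_normal_form (hn : 2 ≤ n) {x α : MulAut (PSLg n F)} {σ : F ≃+* F}
    (h : α * x * α⁻¹ = fieldAut σ * itAut) :
    ∃ h' : GL (Fin n) F, x = diagAut h' * (fieldAut σ * itAut) * (diagAut h')⁻¹ := by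
  have hx : x = α⁻¹ * (fieldAut σ * itAut) * α := by rw [← h]; group
  obtain ⟨g, τ, hd⟩ := aut_decomposition hn α⁻¹
  refine ⟨g, ?_⟩
  have hc : Commute (fieldAut τ : MulAut (PSLg n F)) (fieldAut σ * itAut) := by
    show _ = _
    rw [← mul_assoc, ← map_mul, ringAut_comm τ σ, map_mul, mul_assoc, ← itAut_fieldAut, ← mul_assoc]
  have hc' : Commute (itAut : MulAut (PSLg n F)) (fieldAut σ * itAut) := by
    show _ = _
    rw [← mul_assoc, itAut_fieldAut]
  have hα : α = (α⁻¹)⁻¹ := (inv_inv α).symm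
  have hx' : x = α⁻¹ * (fieldAut σ * itAut) * (α⁻¹)⁻¹ := by rw [← hα]; exact hx
  rw [hx']
  rcases hd with hd | ⟨-, hd⟩ <;> rw [hd]
  · rw [_root_.mul_inv_rev, mul_assoc (diagAut g), hc.eq]
    group
  · rw [_root_.mul_inv_rev, _root_.mul_inv_rev, mul_assoc _ itAut (fieldAut σ * itAut), hc'.eq]
    rw [show (diagAut g * fieldAut τ * (fieldAut σ * itAut * itAut) * (itAut⁻¹ * ((fieldAut τ)⁻¹ * (diagAut g)⁻¹)) :
        MulAut (PSLg n F)) = diagAut g * (fieldAut τ * (fieldAut σ * itAut)) * (fieldAut τ)⁻¹ * (diagAut g)⁻¹ by group,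
      hc.eq]
    group

theorem orderOf_fieldAut (hn : 2 ≤ n) (σ : F ≃+* F) :
    orderOf (fieldAut σ : MulAut (PSLg n F)) = orderOf σ :=
  orderOf_injective _ (fieldAut_injective hn) σ

theorem orderOf_conj_eq {X : Type*} [Group X] (a x : X) : orderOf (a * x * a⁻¹) = orderOf x :=
  MulEquiv.orderOf_eq (MulAut.conj a) x

/-- A graph-field automorphism of prime order has order two, as has its field part. -/
theorem graphField_order (hn : 3 ≤ n) {σ : F ≃+* F} (hσ : σ ≠ RingEquiv.refl F) {r : ℕ} (hr : r.Prime)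
    (h : orderOf (fieldAut σ * itAut : MulAut (PSLg n F)) = r) : r = 2 ∧ orderOf σ = 2 := by
  have hn2 : 2 ≤ n := by omega
  have hc : Commute (fieldAut σ : MulAut (PSLg n F)) itAut := (itAut_fieldAut σ).symm
  have hpow : (fieldAut (σ ^ r) * itAut ^ r : MulAut (PSLg n F)) = 1 := by
    rw [map_pow, ← hc.mul_pow, ← h, pow_orderOf_eq_one]
  have hit2 : (itAut : MulAut (PSLg n F)) ^ 2 = 1 := by rw [pow_two, itAut_mul_self]
  rcases hr.eq_two_or_odd' with h2 | hodd
  · subst h2
    refine ⟨rfl, ?_⟩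
    rw [hit2, mul_one] at hpow
    have h1 : σ ^ 2 = 1 := fieldAut_injective hn2 (hpow.trans (map_one _).symm)
    exact orderOf_eq_prime h1 hσ
  · exfalso
    obtain ⟨k, rfl⟩ := hodd
    rw [pow_succ (itAut : MulAut (PSLg n F)), pow_mul, hit2, one_pow, one_mul] at hpow
    refine itAut_ne_semilinear hn 1 (σ ^ (2 * k + 1))⁻¹ ?_
    rw [map_one, one_mul, map_inv]
    exact eq_inv_of_mul_eq_one_right hpow

/-! ### The semilinear map of `(g, σ)` -/

/-- The semilinear map `v ↦ g σ(v)`. -/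
def semiMap (g : GL (Fin n) F) (σ : F ≃+* F) (v : Fin n → F) : Fin n → F := g.1 *ᵥ fun i => σ (v i)

omit [Fintype F] in
theorem semiMap_smul (g : GL (Fin n) F) (σ : F ≃+* F) (c : F) (v : Fin n → F) :
    semiMap g σ (c • v) = σ c • semiMap g σ v := by
  rw [semiMap, semiMap, ← Matrix.mulVec_smul]
  congr 1; funext i; simp

omit [Fintype F] in
theorem semiMap_mulVec (g h : GL (Fin n) F) (σ : F ≃+* F) (v : Fin n → F) :
    semiMap g σ (h.1 *ᵥ v) =
      (g * Matrix.GeneralLinearGroup.map σ.toRingHom h).1 *ᵥ fun i => σ (v i) := by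
  rw [semiMap, Units.val_mul, ← Matrix.mulVec_mulVec]
  congr 1
  funext i
  show σ.toRingHom ((h.1 *ᵥ v) i) = (h.1.map σ.toRingHom *ᵥ fun i => σ.toRingHom (v i)) i
  rw [RingHom.map_mulVec]
  rfl

omit [Fintype F] in
theorem pow_semilinear (g : GL (Fin n) F) (σ : F ≃+* F) (r : ℕ) :
    ∃ P : GL (Fin n) F, (diagAut g * fieldAut σ : MulAut (PSLg n F)) ^ r = diagAut P * fieldAut (σ ^ r) ∧
      ∀ v, (semiMap g σ)^[r] v = P.1 *ᵥ fun i => (σ ^ r) (v i) := by
  induction r with
  | zero =>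
    refine ⟨1, by simp, fun v => ?_⟩
    simp only [Function.iterate_zero, id, Units.val_one, Matrix.one_mulVec, pow_zero]
    rfl
  | succ r ih =>
    obtain ⟨P, hP, hit⟩ := ih
    refine ⟨g * Matrix.GeneralLinearGroup.map σ.toRingHom P, ?_, fun v => ?_⟩
    · rw [pow_succ', hP, pow_succ', map_mul fieldAut, map_mul diagAut,
        show (diagAut g * fieldAut σ * (diagAut P * fieldAut (σ ^ r)) : MulAut (PSLg n F)) =
          diagAut g * (fieldAut σ * diagAut P) * fieldAut (σ ^ r) by group, fieldAut_diagAut]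
      group
    · rw [Function.iterate_succ_apply', hit, semiMap_mulVec, pow_succ']
      rfl

/-- Elements of order `r = orderOf σ` of the coset of `fieldAut σ` are diagonal conjugates of it. -/
theorem field_coset_conj (hn : 2 ≤ n) {σ : F ≃+* F} {r : ℕ} (hr : orderOf σ = r) {g : GL (Fin n) F}
    (hy : (diagAut g * fieldAut σ : MulAut (PSLg n F)) ^ r = 1) :
    ∃ h : GL (Fin n) F, (diagAut g * fieldAut σ : MulAut (PSLg n F)) = diagAut h * fieldAut σ * (diagAut h)⁻¹ := by
  have hσr : σ ^ r = 1 := by rw [← hr]; exact pow_orderOf_eq_one σ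
  obtain ⟨P, hP, hit⟩ := pow_semilinear g σ r
  rw [hP, hσr, map_one, mul_one] at hy
  obtain ⟨⟨c, hc⟩, -⟩ := semilinear_eq_one hn (g := P) (σ := 1) (by rw [map_one, mul_one, hy])
  have hiter : ∀ v, (semiMap g σ)^[r] v = (c : F) • v := by
    intro v
    rw [hit, hc, hσr, Matrix.smul_mulVec, Matrix.one_mulVec]
    rfl
  let a : Fin n := ⟨0, by omega⟩
  have hinj : ∀ v, semiMap g σ v = 0 → v = 0 := by
    intro v hv
    have h0 := congrArg ((g⁻¹).1 *ᵥ ·) hv
    simp only [semiMap, Matrix.mulVec_mulVec, Units.inv_mul, Matrix.one_mulVec, Matrix.mulVec_zero] at h0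
    funext i
    exact σ.injective ((congrFun h0 i).trans (map_zero σ).symm)
  have hσc : σ (c : F) = c := by
    have h1 : (semiMap g σ)^[r] (semiMap g σ (Pi.single a 1)) = semiMap g σ ((semiMap g σ)^[r] (Pi.single a 1)) := by
      rw [← Function.iterate_succ_apply, Function.iterate_succ_apply']
    rw [hiter, hiter, semiMap_smul] at h1
    have h2 : ((c : F) - σ c) • semiMap g σ (Pi.single a 1) = 0 := by rw [sub_smul, h1, sub_self]
    rcases smul_eq_zero.mp h2 with h3 | h3
    · exact (sub_eq_zero.mp h3).symm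
    · have := congrFun (hinj _ h3) a
      simp at this
  obtain ⟨x, hx⟩ := exists_norm_eq σ hr (c := (c : F)⁻¹) (by rw [map_inv₀, hσc])
  let φ : (Fin n → F) → Fin n → F := fun v => x • semiMap g σ v
  have hφsmul : ∀ (b : F) v, φ (b • v) = σ b • φ v := fun b v => by
    simp only [φ, semiMap_smul]; rw [smul_comm]
  have hφit : ∀ m v, φ^[m] v = (∏ i ∈ Finset.range m, (σ ^ i) x) • (semiMap g σ)^[m] v := by
    intro m v
    induction m with
    | zero => simp
    | succ m ih =>
      rw [Function.iterate_succ_apply', ih, hφsmul]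
      simp only [φ]
      rw [← Function.iterate_succ_apply' (semiMap g σ), smul_smul]
      congr 1
      rw [Finset.prod_range_succ', map_prod, pow_zero]
      congr 1
      exact Finset.prod_congr rfl fun i _ => by rw [pow_succ']; rfl
  have hspan := semilinear_fixed_span σ φ
    (fun u v => by
      simp only [φ, semiMap, ← smul_add, ← Matrix.mulVec_add]
      congr 2; funext i; simp)
    hφsmul
    (fun v => by rw [hr, hφit, hx, hiter, smul_smul, inv_mul_cancel₀ c.ne_zero, one_smul])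
  obtain ⟨b, hbS, hbspan, hbli⟩ := exists_linearIndependent F {v | φ v = v}
  let B := Module.Basis.mk hbli (by rw [Subtype.range_coe, hbspan, hspan])
  haveI : Fintype b := FiniteDimensional.fintypeBasisIndex B
  have hbn : Fintype.card b = n := by
    rw [← Module.finrank_eq_card_basis B, Module.finrank_fin_fun]
  let e : Fin n ≃ b := (Fintype.equivFinOfCardEq hbn).symm
  let H : Matrix (Fin n) (Fin n) F := Matrix.of fun i j => (e j).1 i
  have hH : IsUnit H.det := by
    rw [← Matrix.isUnit_iff_isUnit_det, ← Matrix.linearIndependent_cols_iff_isUnit]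
    exact hbli.comp e e.injective
  let h : GL (Fin n) F := H.nonsingInvUnit hH
  have hfix : x • (g.1 * H.map σ) = H := by
    ext i j
    have h1 := congrFun (hbS (e j).2 : φ (e j).1 = (e j).1) i
    show x • ((g.1 * H.map σ) i j) = (e j).1 i
    rw [← h1]
    rfl
  have hx0 : x ≠ 0 := by
    rintro rfl
    rw [zero_smul] at hfix
    exact hH.ne_zero (by rw [← hfix]; haveI : Nonempty (Fin n) := ⟨a⟩; exact Matrix.det_zero)
  refine ⟨h, ?_⟩
  have hu : Matrix.GeneralLinearGroup.scalar (Fin n) (Units.mk0 x hx0) * g *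
      Matrix.GeneralLinearGroup.map σ.toRingHom h = h := by
    apply Units.ext
    show Matrix.scalar (Fin n) x * g.1 * H.map σ = H
    conv_rhs => rw [← hfix]
    rw [Matrix.mul_assoc, Matrix.scalar_apply, ← Matrix.smul_one_eq_diagonal, Matrix.smul_mul, Matrix.one_mul]
  have hd : (diagAut g : MulAut (PSLg n F)) =
      diagAut h * (diagAut (Matrix.GeneralLinearGroup.map σ.toRingHom h))⁻¹ := by
    have h1 : (diagAut (Matrix.GeneralLinearGroup.scalar (Fin n) (Units.mk0 x hx0) * g *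
        Matrix.GeneralLinearGroup.map σ.toRingHom h) : MulAut (PSLg n F)) = diagAut h := by rw [hu]
    rw [map_mul, map_mul] at h1
    have hs : (diagAut (Matrix.GeneralLinearGroup.scalar (Fin n) (Units.mk0 x hx0)) : MulAut (PSLg n F)) = 1 := by
      show descend (conjSL _) = 1
      rw [conjSL_scalar, map_one]
    rw [hs, one_mul] at h1
    rw [← h1, mul_inv_cancel_right]
  rw [hd, ← map_inv, ← map_inv diagAut h, ← map_inv (Matrix.GeneralLinearGroup.map σ.toRingHom),
    mul_assoc, ← fieldAut_diagAut, ← mul_assoc]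

omit [Fintype F] in
theorem graphField_diag_comm (σ : F ≃+* F) (g : GL (Fin n) F) :
    (fieldAut σ * itAut * diagAut g : MulAut (PSLg n F)) =
      diagAut (Matrix.GeneralLinearGroup.map σ.toRingHom (itGL g)) * (fieldAut σ * itAut) := by
  rw [mul_assoc, itAut_diagAut, ← mul_assoc, fieldAut_diagAut, mul_assoc]

/-- Involutions of the coset of `fieldAut σ * it`, `σ` involutive, are diagonal conjugates of it. -/
theorem graphField_coset_conj (hn : 2 ≤ n) {σ : F ≃+* F} (hr : orderOf σ = 2) {g : GL (Fin n) F}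
    (hy : (diagAut g * (fieldAut σ * itAut) : MulAut (PSLg n F)) ^ 2 = 1) :
    ∃ h : GL (Fin n) F, (diagAut g * (fieldAut σ * itAut) : MulAut (PSLg n F)) =
      diagAut h * (fieldAut σ * itAut) * (diagAut h)⁻¹ := by
  have hσ2 : σ * σ = 1 := by rw [← pow_two, ← hr]; exact pow_orderOf_eq_one σ
  have hsq : (fieldAut σ * itAut * (fieldAut σ * itAut) : MulAut (PSLg n F)) = 1 := by
    rw [mul_assoc, ← mul_assoc itAut, itAut_fieldAut, mul_assoc (fieldAut σ) itAut itAut, itAut_mul_self, mul_one,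
      ← map_mul, hσ2, map_one]
  have h1 : (diagAut (g * Matrix.GeneralLinearGroup.map σ.toRingHom (itGL g)) : MulAut (PSLg n F)) = 1 := by
    rw [pow_two, show (diagAut g * (fieldAut σ * itAut) * (diagAut g * (fieldAut σ * itAut)) : MulAut (PSLg n F)) =
      diagAut g * (fieldAut σ * itAut * diagAut g) * (fieldAut σ * itAut) by group, graphField_diag_comm,
      mul_assoc, mul_assoc, hsq, mul_one, ← map_mul] at hy
    exact hy
  obtain ⟨⟨c, hc⟩, -⟩ := semilinear_eq_one hn (σ := 1) (by rw [h1, map_one, mul_one])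
  -- `g = c σ(g)ᵀ`
  have hg : g.1 = (c : F) • (g.1.map σ)ᵀ := by
    have h2 : (Matrix.GeneralLinearGroup.map σ.toRingHom (itGL g)).1 * (g.1.map σ)ᵀ = 1 := by
      show (itGL g).1.map σ.toRingHom * (g.1.map σ.toRingHom)ᵀ = 1
      rw [← Matrix.transpose_map, ← Matrix.map_mul, itGL_coe, ← Matrix.transpose_mul, Units.mul_inv,
        Matrix.transpose_one, Matrix.map_one _ (map_zero _) (map_one _)]
    calc g.1 = g.1 * ((Matrix.GeneralLinearGroup.map σ.toRingHom (itGL g)).1 * (g.1.map σ)ᵀ) := by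
          rw [h2, Matrix.mul_one]
      _ = (g * Matrix.GeneralLinearGroup.map σ.toRingHom (itGL g)).1 * (g.1.map σ)ᵀ := by
          rw [Units.val_mul, Matrix.mul_assoc]
      _ = _ := by rw [hc, Matrix.smul_mul, Matrix.one_mul]
  have hσσ : ∀ a, σ (σ a) = a := fun a => DFunLike.congr_fun hσ2 a
  have hent : ∀ i j, g.1 i j = (c : F) * σ (g.1 j i) := fun i j => congrFun (congrFun hg i) j
  have hcc : (c : F) * σ c = 1 := by
    obtain ⟨i, j, hij⟩ : ∃ i j, g.1 i j ≠ 0 := by
      by_contra hcon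
      simp only [not_exists, not_not] at hcon
      have := congrFun (congrFun g.inv_mul ⟨0, by omega⟩) ⟨0, by omega⟩
      simp [Matrix.mul_apply, hcon] at this
    have := hent i j
    rw [hent j i, map_mul, hσσ] at this
    have h0 : ((c : F) * σ c - 1) * g.1 i j = 0 := by linear_combination -this
    exact sub_eq_zero.mp ((mul_eq_zero.mp h0).resolve_right hij)
  obtain ⟨μ, hμ0, hμ⟩ : ∃ μ : F, μ ≠ 0 ∧ (c : F) * σ μ = μ := by
    by_contra hcon
    simp only [not_exists, not_and'] at hcon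
    have hz : ∀ l : F, l + (c : F) * σ l = 0 := by
      intro l
      by_contra h0
      exact hcon _ (by rw [map_add, map_mul, hσσ]; linear_combination l * hcc) h0
    have hcm : (c : F) = -1 := by
      have := hz 1; rw [map_one, mul_one] at this; linear_combination this
    have : σ = 1 := by
      ext l
      have := hz l
      rw [hcm] at this
      show σ l = l
      linear_combination -this
    rw [this, orderOf_one] at hr
    omega
  let M : Matrix (Fin n) (Fin n) F := μ⁻¹ • g.1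
  have hM : (M.map σ)ᵀ = M := by
    ext i j
    show σ (μ⁻¹ * g.1 j i) = μ⁻¹ * g.1 i j
    rw [map_mul, map_inv₀, hent i j]
    have : σ μ ≠ 0 := (map_ne_zero σ).mpr hμ0
    field_simp
    linear_combination -(σ (g.1 j i)) * hμ
  have hgdet : g.1.det ≠ 0 := g.det.ne_zero
  have hMdet : M.det ≠ 0 := by
    rw [Matrix.det_smul]
    exact mul_ne_zero (pow_ne_zero _ (inv_ne_zero hμ0)) hgdet
  obtain ⟨h, hh⟩ := exists_hermitian_congr σ hr M hM hMdet
  refine ⟨h, ?_⟩
  have hu : g = Matrix.GeneralLinearGroup.scalar (Fin n) (Units.mk0 μ hμ0) *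
      (h * Matrix.GeneralLinearGroup.map σ.toRingHom (itGL h)⁻¹) := by
    apply Units.ext
    show g.1 = Matrix.scalar (Fin n) μ * (h.1 * (h.1.transpose.map σ))
    rw [Matrix.transpose_map, ← hh, Matrix.scalar_apply, ← Matrix.smul_one_eq_diagonal, Matrix.smul_mul,
      Matrix.one_mul, smul_smul, mul_inv_cancel₀ hμ0, one_smul]
  have hd : (diagAut g : MulAut (PSLg n F)) =
      diagAut h * diagAut (Matrix.GeneralLinearGroup.map σ.toRingHom (itGL h⁻¹)) := by
    rw [hu, map_mul, map_mul]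
    have hs : (diagAut (Matrix.GeneralLinearGroup.scalar (Fin n) (Units.mk0 μ hμ0)) : MulAut (PSLg n F)) = 1 := by
      show descend (conjSL _) = 1
      rw [conjSL_scalar, map_one]
    rw [hs, one_mul, map_inv itGL]
  rw [hd, ← map_inv diagAut h, mul_assoc _ _ (diagAut h⁻¹), graphField_diag_comm, mul_assoc]

/-- S2697. -/
theorem orderOf_coset_iff (hn : 2 ≤ n) {x δ : MulAut (PSLg n F)}
    (hx : Cfsg.IsFieldAutClassPSL x ∨ Cfsg.IsGraphFieldAutClassPSL x) {r : ℕ} (hr : r.Prime)
    (hxr : orderOf x = r) (hδ : δ ∈ Cfsg.inndiagPSL n F) :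
    orderOf (δ * x) = r ↔ Cfsg.IsConjUnder (Cfsg.inndiagPSL n F) x (δ * x) := by
  refine ⟨fun hy => ?_, fun h => (isConjUnder_orderOf h).trans hxr⟩
  obtain ⟨d, rfl⟩ := mem_inndiag_iff.mp hδ
  obtain ⟨h₀, z, hx0, hcoset⟩ : ∃ (h₀ : GL (Fin n) F) (z : MulAut (PSLg n F)),
      x = diagAut h₀ * z * (diagAut h₀)⁻¹ ∧
      ∀ g, (diagAut g * z) ^ r = 1 → ∃ h, diagAut g * z = diagAut h * z * (diagAut h)⁻¹ := by
    rcases hx with ⟨α, σ, -, hstd⟩ | ⟨hn3, α, φ, γ, σ, hσ, hφ, hγ, heq⟩
    · rw [isStdFieldAutPSL_iff] at hstd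
      obtain ⟨h', hh'⟩ := field_normal_form hn hstd
      refine ⟨h', fieldAut σ, hh', fun g hg => field_coset_conj hn ?_ hg⟩
      rw [← hxr, hh', orderOf_conj_eq, orderOf_fieldAut hn]
    · rw [isStdFieldAutPSL_iff] at hφ
      rw [isInverseTransposeAutPSL_iff] at hγ
      subst hφ hγ
      obtain ⟨h', hh'⟩ := graphField_normal_form hn heq
      obtain ⟨hr2, hσ2⟩ := graphField_order hn3 hσ hr (by rw [← hxr, hh', orderOf_conj_eq])
      subst hr2
      exact ⟨h', _, hh', fun g hg => graphField_coset_conj hn hσ2 hg⟩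
  obtain ⟨h₁, hh₁⟩ := hcoset (h₀⁻¹ * d * h₀) (by
    rw [map_mul, map_mul, map_inv]
    have hyr : (diagAut d * x) ^ r = 1 := by rw [← hy]; exact pow_orderOf_eq_one _
    have he : ((diagAut h₀)⁻¹ * diagAut d * diagAut h₀ * z : MulAut (PSLg n F)) =
        (diagAut h₀)⁻¹ * (diagAut d * x) * (diagAut h₀)⁻¹⁻¹ := by rw [hx0]; group
    rw [he, conj_pow, hyr]; group)
  refine ⟨diagAut h₀ * diagAut h₁ * (diagAut h₀)⁻¹, ?_, ?_⟩
  · rw [← map_inv, ← map_mul, ← map_mul, mem_inndiag_iff]; exact ⟨_, rfl⟩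
  · rw [map_mul, map_mul, map_inv] at hh₁
    calc diagAut d * x = diagAut h₀ * ((diagAut h₀)⁻¹ * diagAut d * diagAut h₀ * z) * (diagAut h₀)⁻¹ := by
          rw [hx0]; group
      _ = _ := by rw [hh₁, hx0]; group

end CfsgLib.AutPSL
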