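import Mathlib
import Cfsg.Prelude.Def_LieTypeDatum

/-!
Splitting of a class of a group `H` into classes of a normal subgroup `K`, and indices of sums in cyclic groups.
-/

namespace CfsgLib.AutPSL

open Cfsg

variable {X : Type*} [Group X]

theorem isConjUnder_iff_centralizer {H : Subgroup X} {x y : X} :
    IsConjUnder H x y ↔ ∃ h, h ∈ H ∧ h * x * h⁻¹ = y := by
  simp only [IsConjUnder, eq_comm]

theorem isConjUnder_trans {H : Subgroup X} {x y z : X} (h₁ : IsConjUnder H x y) (h₂ : IsConjUnder H y z) :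
    IsConjUnder H x z := by
  obtain ⟨a, ha, rfl⟩ := h₁
  obtain ⟨b, hb, rfl⟩ := h₂
  exact ⟨b * a, mul_mem hb ha, by group⟩

theorem isConjUnder_symm {H : Subgroup X} {x y : X} (h₁ : IsConjUnder H x y) : IsConjUnder H y x := by
  obtain ⟨a, ha, rfl⟩ := h₁
  exact ⟨a⁻¹, inv_mem ha, by group⟩

/-- The count depends only on the `H`-class. -/
theorem splitClassCount_congr (H K : Subgroup X) {x x' : X} (h : IsConjUnder H x x') :
    splitClassCount H K x = splitClassCount H K x' := by
  have e : IsConjUnder H x = IsConjUnder H x' := by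
    funext y
    exact propext ⟨fun h1 => isConjUnder_trans (isConjUnder_symm h) h1, fun h1 => isConjUnder_trans h h1⟩
  unfold splitClassCount
  rw [e]

/-- The number of `K`-classes in an `H`-class is the index in `H` of `C_H(x) K`. -/
theorem splitClassCount_eq_relIndex (H K : Subgroup X) (hK : K ≤ H)
    (hN : ∀ h ∈ H, ∀ k ∈ K, h * k * h⁻¹ ∈ K) (x : X) :
    splitClassCount H K x = ((H ⊓ Subgroup.centralizer {x}) ⊔ K).relIndex H := by
  set S := (H ⊓ Subgroup.centralizer {x}) ⊔ K with hS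
  have hmem : ∀ s, s ∈ S → ∃ c k, c ∈ H ∧ c * x = x * c ∧ k ∈ K ∧ s = k * c := by
    intro s hs
    rw [hS] at hs
    have hle : (H ⊓ Subgroup.centralizer {x}) ⊔ K ≤
        { carrier := {s | ∃ c k, c ∈ H ∧ c * x = x * c ∧ k ∈ K ∧ s = k * c}
          one_mem' := ⟨1, 1, one_mem H, by simp, one_mem K, by simp⟩
          mul_mem' := by
            rintro _ _ ⟨c, k, hc, hcx, hk, rfl⟩ ⟨c', k', hc', hcx', hk', rfl⟩
            refine ⟨c * c', k * (c * k' * c⁻¹), mul_mem hc hc', ?_, mul_mem hk (hN c hc k' hk'), by group⟩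
            rw [mul_assoc, hcx', ← mul_assoc, hcx, mul_assoc]
          inv_mem' := by
            rintro _ ⟨c, k, hc, hcx, hk, rfl⟩
            refine ⟨c⁻¹, c⁻¹ * k⁻¹ * c, inv_mem hc, ?_, ?_, by group⟩
            · exact (Commute.inv_left (show Commute c x from hcx)).eq
            · simpa using hN c⁻¹ (inv_mem hc) k⁻¹ (inv_mem hk) } := by
      refine sup_le ?_ ?_
      · rintro c ⟨hc, hcx⟩
        exact ⟨c, 1, hc, (Subgroup.mem_centralizer_singleton_iff.mp hcx : c * x = x * c), one_mem K,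
          (one_mul c).symm⟩
      · intro k hk
        exact ⟨1, k, one_mem H, by simp, hk, (mul_one k).symm⟩
    exact hle hs
  let r : {y : X // IsConjUnder H x y} → {y : X // IsConjUnder H x y} → Prop :=
    fun y z => IsConjUnder K y.1 z.1
  show Nat.card (Quot r) = Nat.card (↥H ⧸ S.subgroupOf H)
  refine (Nat.card_congr (Equiv.ofBijective
    (Quotient.lift (fun h : ↥H => Quot.mk r ⟨(h : X) * x * (h : X)⁻¹, h, h.2, rfl⟩) ?_) ⟨?_, ?_⟩)).symm
  · intro a b hab
    have hab' : (a : X)⁻¹ * b ∈ S :=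
      Subgroup.mem_subgroupOf.mp ((QuotientGroup.leftRel_apply (s := S.subgroupOf H)).mp hab)
    obtain ⟨c, k, hc, hcx, hk, heq⟩ := hmem _ hab'
    apply Quot.sound
    refine ⟨(a : X) * k * (a : X)⁻¹, hN _ a.2 _ hk, ?_⟩
    have hb : (b : X) = a * (k * c) := by rw [← heq]; group
    show (b : X) * x * (b : X)⁻¹ = _
    rw [hb]
    have hcx2 : c * x * c⁻¹ = x := by rw [hcx]; group
    calc (a : X) * (k * c) * x * ((a : X) * (k * c))⁻¹
        = (a : X) * k * (c * x * c⁻¹) * k⁻¹ * (a : X)⁻¹ := by group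
      _ = _ := by rw [hcx2]; group
  · intro a b
    induction a using Quotient.inductionOn with
    | h a =>
    induction b using Quotient.inductionOn with
    | h b =>
    intro hab
    have hequiv : Equivalence r :=
      ⟨fun y => ⟨1, one_mem K, by simp⟩, isConjUnder_symm, isConjUnder_trans⟩
    obtain ⟨k, hk, hkeq⟩ := (hequiv.eqvGen_iff).mp (Quot.eqvGen_exact hab)
    apply Quotient.sound
    refine (QuotientGroup.leftRel_apply (s := S.subgroupOf H)).mpr ?_
    rw [Subgroup.mem_subgroupOf]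
    show (a : X)⁻¹ * b ∈ S
    have hx : Commute (((k : X) * a)⁻¹ * b) x := by
      show _ = _
      have h1 : (b : X) * x * (b : X)⁻¹ = k * ((a : X) * x * (a : X)⁻¹) * k⁻¹ := hkeq
      calc ((k : X) * a)⁻¹ * b * x = (a : X)⁻¹ * k⁻¹ * ((b : X) * x * (b : X)⁻¹) * b := by group
        _ = _ := by rw [h1]; group
    have hb : (a : X)⁻¹ * b = ((a : X)⁻¹ * k * a) * (((k : X) * a)⁻¹ * b) := by group
    rw [hb, hS]
    refine mul_mem (Subgroup.mem_sup_right ?_) (Subgroup.mem_sup_left ⟨?_, ?_⟩)
    · simpa using hN _ (inv_mem a.2) k hk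
    · exact H.mul_mem (H.inv_mem (H.mul_mem (hK hk) a.2)) b.2
    · exact Subgroup.mem_centralizer_singleton_iff.mpr hx.eq
  · intro q
    induction q using Quot.ind with
    | _ y =>
      obtain ⟨y, h, hh, rfl⟩ := y
      exact ⟨Quotient.mk _ ⟨h, hh⟩, rfl⟩

/-- Centralisers of `H`-conjugate elements are isomorphic. -/
theorem centralizer_equiv_of_conj (H : Subgroup X) {x a z : X} (ha : a ∈ H) (hx : x = a * z * a⁻¹) :
    Nonempty (↥(H ⊓ Subgroup.centralizer {x}) ≃* ↥(H ⊓ Subgroup.centralizer {z})) := by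
  have key : H ⊓ Subgroup.centralizer {x} = (H ⊓ Subgroup.centralizer {z}).map (MulAut.conj a).toMonoidHom := by
    ext y
    rw [Subgroup.map_equiv_eq_comap_symm', Subgroup.mem_comap]
    show _ ↔ a⁻¹ * y * a ∈ _
    constructor
    · rintro ⟨h1, h2⟩
      refine ⟨H.mul_mem (H.mul_mem (H.inv_mem ha) h1) ha, Subgroup.mem_centralizer_singleton_iff.mpr ?_⟩
      have h3 : y * x = x * y := Subgroup.mem_centralizer_singleton_iff.mp h2
      rw [hx] at h3
      calc a⁻¹ * y * a * z = a⁻¹ * (y * (a * z * a⁻¹)) * a := by group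
        _ = _ := by rw [h3]; group
    · rintro ⟨h1, h2⟩
      have h1' : y ∈ H := by simpa [mul_assoc] using mul_mem (mul_mem ha h1) (inv_mem ha)
      refine ⟨h1', Subgroup.mem_centralizer_singleton_iff.mpr ?_⟩
      have h3 : a⁻¹ * y * a * z = z * (a⁻¹ * y * a) := Subgroup.mem_centralizer_singleton_iff.mp h2
      rw [hx]
      calc y * (a * z * a⁻¹) = a * (a⁻¹ * y * a * z) * a⁻¹ := by group
        _ = _ := by rw [h3]; group
  exact ⟨(MulEquiv.subgroupCongr key).trans
    ((H ⊓ Subgroup.centralizer {z}).equivMapOfInjective _ (MulAut.conj a).injective).symm⟩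

/-! ### Cyclic groups -/

variable {A : Type*} [CommGroup A] [IsCyclic A] [Finite A]

theorem eq_powMonoidHom_range_of_index (H : Subgroup A) :
    H = (powMonoidHom H.index : A →* A).range := by
  refine (Subgroup.eq_of_le_of_card_ge ?_ ?_).symm
  · rintro _ ⟨a, rfl⟩
    exact H.pow_index_mem a
  · have h1 := Subgroup.card_mul_index (powMonoidHom H.index : A →* A).range
    rw [IsCyclic.index_powMonoidHom_range, ← H.card_mul_index,
      Nat.gcd_eq_right (dvd_mul_left _ _)] at h1
    exact (Nat.eq_of_mul_eq_mul_right (Nat.pos_of_ne_zero H.index_ne_zero_of_finite) h1).ge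

theorem index_sup_cyclic (H K : Subgroup A) : (H ⊔ K).index = Nat.gcd H.index K.index := by
  apply Nat.dvd_antisymm
  · exact Nat.dvd_gcd (Subgroup.index_dvd_of_le le_sup_left) (Subgroup.index_dvd_of_le le_sup_right)
  · have hle : (powMonoidHom (Nat.gcd H.index K.index) : A →* A).range ≤ H ⊔ K := by
      rintro _ ⟨a, rfl⟩
      show a ^ Nat.gcd H.index K.index ∈ _
      rw [← zpow_natCast, Nat.gcd_eq_gcd_ab, zpow_add, zpow_mul, zpow_mul, zpow_natCast, zpow_natCast]
      exact mul_mem (zpow_mem (Subgroup.mem_sup_left (H.pow_index_mem a)) _)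
        (zpow_mem (Subgroup.mem_sup_right (K.pow_index_mem a)) _)
    have := Subgroup.index_dvd_of_le hle
    rw [IsCyclic.index_powMonoidHom_range] at this
    have hd : (H ⊔ K).index ∣ Nat.gcd H.index K.index := this.trans (Nat.gcd_dvd_right _ _)
    have h2 : (powMonoidHom (Nat.gcd H.index K.index) : A →* A).range = H ⊔ K := by
      refine le_antisymm hle (sup_le ?_ ?_)
      · intro a ha
        rw [eq_powMonoidHom_range_of_index H] at ha
        obtain ⟨b, rfl⟩ := ha
        obtain ⟨c, hc⟩ := Nat.gcd_dvd_left H.index K.index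
        exact ⟨b ^ c, by
          show (b ^ c) ^ Nat.gcd H.index K.index = b ^ H.index
          rw [← pow_mul, mul_comm c, ← hc]⟩
      · intro a ha
        rw [eq_powMonoidHom_range_of_index K] at ha
        obtain ⟨b, rfl⟩ := ha
        obtain ⟨c, hc⟩ := Nat.gcd_dvd_right H.index K.index
        exact ⟨b ^ c, by
          show (b ^ c) ^ Nat.gcd H.index K.index = b ^ K.index
          rw [← pow_mul, mul_comm c, ← hc]⟩
    rw [← h2, IsCyclic.index_powMonoidHom_range]
    exact Nat.dvd_gcd ((Nat.gcd_dvd_left _ _).trans (Subgroup.index_dvd_card H)) dvd_rfl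

end CfsgLib.AutPSL
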