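import Mathlib
import Cfsg.Agent.Lib.AutPSL.Coset
import Cfsg.Agent.Lib.AutPSL.Split

/-!
Splitting counts in `Inndiag(PSL_n)` computed through determinants.
-/

namespace CfsgLib.AutPSL

open Matrix
open scoped MatrixGroups

variable {n : ℕ} {F : Type*} [Field F] [Fintype F]

/-- The invertible matrices whose diagonal automorphism commutes with `x`. -/
def projCentralizer (x : MulAut (PSLg n F)) : Subgroup (GL (Fin n) F) :=
  (Subgroup.centralizer {x}).comap diagAut

omit [Fintype F] in
theorem mem_projCentralizer {x : MulAut (PSLg n F)} {g : GL (Fin n) F} :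
    g ∈ projCentralizer x ↔ diagAut g * x = x * diagAut g :=
  Subgroup.mem_centralizer_singleton_iff

omit [Fintype F] in
theorem inndiag_inf_centralizer (x : MulAut (PSLg n F)) :
    Cfsg.inndiagPSL n F ⊓ Subgroup.centralizer {x} = (projCentralizer x).map diagAut := by
  rw [inndiagPSL_eq, projCentralizer, Subgroup.map_comap_eq]

omit [Fintype F] in
theorem inn_eq : Cfsg.Inn (PSLg n F) = (Matrix.SpecialLinearGroup.toGL (n := Fin n) (R := F)).range.map diagAut := by
  rw [MonoidHom.map_range]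
  ext β
  constructor
  · rintro ⟨x, rfl⟩
    obtain ⟨s, rfl⟩ := QuotientGroup.mk_surjective x
    exact ⟨s, diagAut_toGL s⟩
  · rintro ⟨s, rfl⟩
    exact ⟨QuotientGroup.mk s, (diagAut_toGL s).symm⟩

/-- Invertible diagonal matrices. -/
def diagGL (d : Fin n → Fˣ) : GL (Fin n) F :=
  Units.map (Matrix.diagonalRingHom (Fin n) F).toMonoidHom
    (MulEquiv.piUnits (M := fun _ : Fin n => F) |>.symm d)

omit [Fintype F] in
theorem det_surjective (hn : 0 < n) (u : Fˣ) : ∃ g : GL (Fin n) F, Matrix.GeneralLinearGroup.det g = u := by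
  refine ⟨diagGL (Function.update (fun _ => 1) ⟨0, hn⟩ u), ?_⟩
  apply Units.ext
  rw [Matrix.GeneralLinearGroup.val_det_apply]
  show Matrix.det (Matrix.diagonal _) = _
  rw [Matrix.det_diagonal, Finset.prod_eq_single ⟨0, hn⟩]
  · simp
  · intro b _ hb; simp [hb]
  · simp

omit [Fintype F] in
theorem splitClassCount_eq_det_index (hn : 2 ≤ n) (x : MulAut (PSLg n F)) :
    Cfsg.splitClassCount (Cfsg.inndiagPSL n F) (Cfsg.Inn (PSLg n F)) x =
      ((projCentralizer x).map Matrix.GeneralLinearGroup.det).index := by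
  have hK : Cfsg.Inn (PSLg n F) ≤ Cfsg.inndiagPSL n F := by
    rw [inn_eq, inndiagPSL_eq]; exact Subgroup.map_le_range _ _
  have hN : ∀ h ∈ Cfsg.inndiagPSL n F, ∀ k ∈ Cfsg.Inn (PSLg n F), h * k * h⁻¹ ∈ Cfsg.Inn (PSLg n F) := by
    rintro h - _ ⟨y, rfl⟩
    exact ⟨h y, by ext z; simp⟩
  rw [splitClassCount_eq_relIndex _ _ hK hN, inndiag_inf_centralizer, inn_eq, ← Subgroup.map_sup, inndiagPSL_eq,
    ← Subgroup.index_comap, Subgroup.comap_map_eq]
  have hker : (diagAut (n := n) (F := F)).ker ≤ projCentralizer x := by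
    intro g hg
    rw [mem_projCentralizer, MonoidHom.mem_ker.mp hg, one_mul, mul_one]
  rw [sup_eq_left.mpr (hker.trans le_sup_left)]
  have hSL : (Matrix.GeneralLinearGroup.det : GL (Fin n) F →* Fˣ).ker =
      (Matrix.SpecialLinearGroup.toGL (n := Fin n) (R := F)).range :=
    (CfsgLib.Linear.range_toGL_eq_ker_det).symm
  rw [← hSL]
  have hsurj : Function.Surjective (Matrix.GeneralLinearGroup.det : GL (Fin n) F →* Fˣ) :=
    det_surjective (by omega)
  rw [← Subgroup.index_comap_of_surjective _ hsurj, Subgroup.comap_map_eq]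

omit [Fintype F] in
theorem scalar_mem_projCentralizer (x : MulAut (PSLg n F)) (u : Fˣ) :
    Matrix.GeneralLinearGroup.scalar (Fin n) u ∈ projCentralizer x := by
  rw [mem_projCentralizer]
  show descend (conjSL _) * x = x * descend (conjSL _)
  rw [conjSL_scalar, map_one, one_mul, mul_one]

omit [Fintype F] in
theorem det_scalar_pow (u : Fˣ) :
    Matrix.GeneralLinearGroup.det (Matrix.GeneralLinearGroup.scalar (Fin n) u) = u ^ n := by
  apply Units.ext
  rw [Matrix.GeneralLinearGroup.val_det_apply, Units.val_pow_eq_pow_val]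
  show (Matrix.scalar (Fin n) (u : F)).det = _
  rw [Matrix.scalar_apply, Matrix.det_diagonal, Finset.prod_const, Finset.card_univ, Fintype.card_fin]

/-- Index bookkeeping: `det C̃ = (Fˣ)^n D` gives `gcd(n, [Fˣ : D])` classes. -/
theorem index_pow_sup (n : ℕ) (D : Subgroup Fˣ) :
    ((powMonoidHom n : Fˣ →* Fˣ).range ⊔ D).index = Nat.gcd n D.index := by
  rw [index_sup_cyclic, IsCyclic.index_powMonoidHom_range, Nat.gcd_comm (Nat.card Fˣ) n, Nat.gcd_assoc,
    Nat.gcd_eq_right (Subgroup.index_dvd_card D)]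

end CfsgLib.AutPSL
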