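import Mathlib
import Cfsg.Agent.Lib.AutPSL.SplitDet

/-!
Centraliser and class splitting of field automorphisms of prime order of `PSL_n`.
-/

namespace CfsgLib.AutPSL

open Matrix
open scoped MatrixGroups

variable {n : ℕ} {F : Type*} [Field F] [Fintype F]

theorem diagAut_eq_iff (hn : 2 ≤ n) {g h : GL (Fin n) F} :
    (diagAut g : MulAut (PSLg n F)) = diagAut h ↔
      ∃ u : Fˣ, g = Matrix.GeneralLinearGroup.scalar (Fin n) u * h := by
  constructor
  · intro e
    have : g * h⁻¹ ∈ (diagAut (n := n) (F := F)).ker := by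
      rw [MonoidHom.mem_ker, map_mul, map_inv, e, mul_inv_cancel]
    rw [ker_diagAut hn, Matrix.GeneralLinearGroup.center_eq_range_scalar] at this
    obtain ⟨u, hu⟩ := this
    exact ⟨u, by rw [hu, inv_mul_cancel_right]⟩
  · rintro ⟨u, rfl⟩
    show diagAut _ = _
    rw [map_mul]
    show descend (conjSL _) * _ = _
    rw [conjSL_scalar, map_one, one_mul]

theorem diag_commute_field_iff (hn : 2 ≤ n) (σ : F ≃+* F) {g : GL (Fin n) F} :
    g ∈ projCentralizer (fieldAut σ) ↔
      ∃ u : Fˣ, Matrix.GeneralLinearGroup.map σ.toRingHom g =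
        Matrix.GeneralLinearGroup.scalar (Fin n) u * g := by
  rw [mem_projCentralizer, fieldAut_diagAut, mul_left_inj, eq_comm, diagAut_eq_iff hn]

/-- A matrix fixed by `σ` up to a scalar is a scalar times a fixed matrix. -/
theorem exists_scalar_fixed (hn : 0 < n) (σ : F ≃+* F) {g : GL (Fin n) F} {u : Fˣ}
    (h : Matrix.GeneralLinearGroup.map σ.toRingHom g = Matrix.GeneralLinearGroup.scalar (Fin n) u * g) :
    ∃ e : Fˣ, ∀ i j, σ (((e : F)⁻¹) * g.1 i j) = (e : F)⁻¹ * g.1 i j := by
  have hent : ∀ i j, σ (g.1 i j) = (u : F) * g.1 i j := by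
    intro i j
    have h1 : g.1.map σ.toRingHom = Matrix.scalar (Fin n) (u : F) * g.1 := congrArg Units.val h
    have h2 := congrFun (congrFun h1 i) j
    rw [Matrix.scalar_apply, Matrix.diagonal_mul, Matrix.map_apply] at h2
    exact h2
  obtain ⟨i₀, j₀, h0⟩ : ∃ i j, g.1 i j ≠ 0 := by
    by_contra hcon
    simp only [not_exists, not_not] at hcon
    have := congrFun (congrFun g.inv_mul ⟨0, hn⟩) ⟨0, hn⟩
    simp [Matrix.mul_apply, hcon] at this
  refine ⟨Units.mk0 _ h0, fun i j => ?_⟩
  show σ ((g.1 i₀ j₀)⁻¹ * g.1 i j) = (g.1 i₀ j₀)⁻¹ * g.1 i j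
  rw [map_mul, map_inv₀, hent, hent]
  field_simp

variable {F₀ : Type*} [Field F₀] [Fintype F₀]

/-- Embedding of `GL_n` of a subfield. -/
def baseGL (ι : F₀ →+* F) : GL (Fin n) F₀ →* GL (Fin n) F := Matrix.GeneralLinearGroup.map ι

omit [Fintype F] [Fintype F₀] in
theorem baseGL_injective (ι : F₀ →+* F) : Function.Injective (baseGL (n := n) ι) := by
  intro a b h
  refine Units.ext (Matrix.ext fun i j => ι.injective ?_)
  have h1 : a.1.map ι = b.1.map ι := congrArg Units.val h
  exact congrFun (congrFun h1 i) j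

omit [Fintype F₀] in
theorem projCentralizer_field_eq (hn : 2 ≤ n) (σ : F ≃+* F) (ι : F₀ →+* F)
    (hι : ∀ a, σ (ι a) = ι a) (hι' : ∀ x, σ x = x → ∃ a, ι a = x) :
    projCentralizer (fieldAut σ) =
      (Matrix.GeneralLinearGroup.scalar (R := F) (Fin n)).range ⊔ (baseGL ι).range := by
  apply le_antisymm
  · intro g hg
    obtain ⟨u, hu⟩ := (diag_commute_field_iff hn σ).mp hg
    obtain ⟨e, he⟩ := exists_scalar_fixed (by omega) σ hu
    choose a ha using fun i j => hι' _ (he i j)
    have hgA : g.1 = Matrix.scalar (Fin n) (e : F) * (Matrix.of a).map ι := by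
      ext i j
      rw [Matrix.scalar_apply, Matrix.diagonal_mul, Matrix.map_apply, Matrix.of_apply, ha,
        mul_inv_cancel_left₀ e.ne_zero]
    have hdet : IsUnit (Matrix.of a).det := by
      refine isUnit_iff_ne_zero.mpr fun h0 => ?_
      have h1 := congrArg Matrix.det hgA
      rw [Matrix.det_mul, show (Matrix.of a).map ι = ι.mapMatrix (Matrix.of a) from rfl, ← RingHom.map_det, h0,
        map_zero, mul_zero] at h1
      exact g.det.ne_zero h1
    let A : GL (Fin n) F₀ := (Matrix.of a).nonsingInvUnit hdet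
    have : g = Matrix.GeneralLinearGroup.scalar (Fin n) e * baseGL ι A := Units.ext hgA
    rw [this]
    exact mul_mem (Subgroup.mem_sup_left ⟨e, rfl⟩) (Subgroup.mem_sup_right ⟨A, rfl⟩)
  · refine sup_le ?_ ?_
    · rintro _ ⟨u, rfl⟩
      exact scalar_mem_projCentralizer _ u
    · rintro _ ⟨A, rfl⟩
      refine (diag_commute_field_iff hn σ).mpr ⟨1, ?_⟩
      rw [map_one, one_mul]
      refine Units.ext (Matrix.ext fun i j => ?_)
      exact hι _

theorem centralizer_field_equiv (hn : 2 ≤ n) (σ : F ≃+* F) (ι : F₀ →+* F)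
    (hι : ∀ a, σ (ι a) = ι a) (hι' : ∀ x, σ x = x → ∃ a, ι a = x) :
    Nonempty (↥(Cfsg.inndiagPSL n F ⊓ Subgroup.centralizer {(fieldAut σ : MulAut (PSLg n F))}) ≃*
      Matrix.ProjGenLinGroup (Fin n) F₀) := by
  let ψ : GL (Fin n) F₀ →* MulAut (PSLg n F) := diagAut.comp (baseGL ι)
  have hrange : ψ.range = Cfsg.inndiagPSL n F ⊓ Subgroup.centralizer {fieldAut σ} := by
    rw [inndiag_inf_centralizer, projCentralizer_field_eq hn σ ι hι hι', Subgroup.map_sup,
      MonoidHom.map_range, MonoidHom.map_range]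
    refine (sup_eq_right.mpr ?_).symm
    rintro _ ⟨u, rfl⟩
    show descend (conjSL _) ∈ _
    rw [conjSL_scalar, map_one]
    exact one_mem _
  have hker : ψ.ker = Subgroup.center (GL (Fin n) F₀) := by
    ext A
    rw [MonoidHom.mem_ker, Matrix.GeneralLinearGroup.center_eq_range_scalar]
    constructor
    · intro h
      have h1 : baseGL ι A ∈ (diagAut (n := n) (F := F)).ker := h
      rw [ker_diagAut hn, Matrix.GeneralLinearGroup.center_eq_range_scalar] at h1
      obtain ⟨u, hu⟩ := h1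
      have h2 : Matrix.diagonal (fun _ => (u : F)) = A.1.map ι := congrArg Units.val hu
      let a₀ : Fin n := ⟨0, by omega⟩
      have h3 : ι (A.1 a₀ a₀) = u := by
        have := congrFun (congrFun h2 a₀) a₀
        rw [Matrix.diagonal_apply_eq, Matrix.map_apply] at this
        exact this.symm
      have h4 : A.1 a₀ a₀ ≠ 0 := by
        intro h0
        rw [h0, map_zero] at h3
        exact u.ne_zero h3.symm
      refine ⟨Units.mk0 _ h4, Units.ext (Matrix.ext fun i j => ι.injective ?_)⟩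
      show ι (Matrix.diagonal (fun _ => A.1 a₀ a₀) i j) = _
      have h5 := congrFun (congrFun h2 i) j
      rw [Matrix.map_apply] at h5
      rw [← h5]
      by_cases hij : i = j
      · subst hij; rw [Matrix.diagonal_apply_eq, Matrix.diagonal_apply_eq, h3]
      · rw [Matrix.diagonal_apply_ne _ hij, Matrix.diagonal_apply_ne _ hij, map_zero]
    · rintro ⟨u, rfl⟩
      have : baseGL ι (Matrix.GeneralLinearGroup.scalar (Fin n) u) =
          Matrix.GeneralLinearGroup.scalar (Fin n) (Units.map ι.toMonoidHom u) := by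
        refine Units.ext (Matrix.ext fun i j => ?_)
        show ι (Matrix.diagonal (fun _ => (u : F₀)) i j) = Matrix.diagonal (fun _ => ι (u : F₀)) i j
        by_cases hij : i = j
        · subst hij; simp
        · simp [hij]
      show diagAut (baseGL ι _) = 1
      rw [this]
      show descend (conjSL _) = 1
      rw [conjSL_scalar, map_one]
  exact ⟨((QuotientGroup.quotientMulEquivOfEq hker.symm).trans
    ((QuotientGroup.quotientKerEquivRange ψ).trans (MulEquiv.subgroupCongr hrange))).symm⟩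

omit [Fintype F₀] in
theorem det_projCentralizer_field (hn : 2 ≤ n) (σ : F ≃+* F) (ι : F₀ →+* F)
    (hι : ∀ a, σ (ι a) = ι a) (hι' : ∀ x, σ x = x → ∃ a, ι a = x) :
    (projCentralizer (fieldAut σ : MulAut (PSLg n F))).map Matrix.GeneralLinearGroup.det =
      (powMonoidHom n : Fˣ →* Fˣ).range ⊔ (Units.map ι.toMonoidHom).range := by
  rw [projCentralizer_field_eq hn σ ι hι hι', Subgroup.map_sup, MonoidHom.map_range, MonoidHom.map_range]
  have hdet : ∀ A : GL (Fin n) F₀, Matrix.GeneralLinearGroup.det (baseGL ι A) =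
      Units.map ι.toMonoidHom (Matrix.GeneralLinearGroup.det A) := by
    intro A
    apply Units.ext
    show (A.1.map ι).det = ι A.1.det
    rw [RingHom.map_det]; rfl
  congr 1
  · ext u
    constructor
    · rintro ⟨v, rfl⟩; exact ⟨v, (det_scalar_pow v).symm⟩
    · rintro ⟨v, rfl⟩; exact ⟨v, det_scalar_pow v⟩
  · ext u
    constructor
    · rintro ⟨A, rfl⟩; exact ⟨_, (hdet A).symm⟩
    · rintro ⟨v, rfl⟩
      obtain ⟨A, rfl⟩ := det_surjective (F := F₀) (n := n) (by omega) v
      exact ⟨A, hdet A⟩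

theorem index_baseUnits (ι : F₀ →+* F) :
    (Units.map ι.toMonoidHom).range.index = (Fintype.card F - 1) / (Fintype.card F₀ - 1) := by
  have h1 := Subgroup.card_mul_index (Units.map ι.toMonoidHom).range
  have hinj : Function.Injective (Units.map ι.toMonoidHom) := Units.map_injective ι.injective
  have h2 : Nat.card ↥(Units.map ι.toMonoidHom).range = Fintype.card F₀ - 1 := by
    rw [← Nat.card_congr (MonoidHom.ofInjective hinj).toEquiv, Nat.card_units, Nat.card_eq_fintype_card]
  rw [h2, Nat.card_units, Nat.card_eq_fintype_card] at h1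
  have : 0 < Fintype.card F₀ - 1 := by
    have := Fintype.one_lt_card (α := F₀); omega
  rw [← h1, Nat.mul_div_cancel_left _ this]

/-- S2698. -/
theorem field_automorphism_facts {p f : ℕ} [Fact p.Prime] (hF : Fintype.card F = p ^ f) (hn : 2 ≤ n)
    {x : MulAut (PSLg n F)} (hx : Cfsg.IsFieldAutClassPSL x) {r : ℕ} (hxr : orderOf x = r)
    (hF₀ : Fintype.card F₀ = p ^ (f / r)) :
    r ∣ f ∧ Nonempty (↥(Cfsg.inndiagPSL n F ⊓ Subgroup.centralizer {x}) ≃* Matrix.ProjGenLinGroup (Fin n) F₀) ∧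
      Cfsg.splitClassCount (Cfsg.inndiagPSL n F) (Cfsg.Inn (PSLg n F)) x =
        Nat.gcd n ((p ^ f - 1) / (p ^ (f / r) - 1)) := by
  obtain ⟨α, σ, -, hstd⟩ := hx
  rw [isStdFieldAutPSL_iff] at hstd
  obtain ⟨h', hh'⟩ := field_normal_form hn hstd
  have hσr : orderOf σ = r := by rw [← hxr, hh', orderOf_conj_eq, orderOf_fieldAut hn]
  obtain ⟨e⟩ := exists_equiv_fixedField σ hF hσr hF₀
  let ι : F₀ →+* F := (fixedField σ).subtype.comp e.toRingHom
  have hι : ∀ a, σ (ι a) = ι a := fun a => (mem_fixedField σ).mp (e a).2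
  have hι' : ∀ y, σ y = y → ∃ a, ι a = y := fun y hy => ⟨e.symm ⟨y, hy⟩, by simp [ι]⟩
  have hmem : diagAut h' ∈ Cfsg.inndiagPSL n F := mem_inndiag_iff.mpr ⟨h', rfl⟩
  refine ⟨(fixedField_card σ hF hσr).1, ?_, ?_⟩
  · obtain ⟨e₁⟩ := centralizer_equiv_of_conj _ hmem hh'
    obtain ⟨e₂⟩ := centralizer_field_equiv hn σ ι hι hι'
    exact ⟨e₁.trans e₂⟩
  · rw [splitClassCount_congr _ _ (x' := fieldAut σ) (isConjUnder_symm ⟨_, hmem, hh'⟩),
      splitClassCount_eq_det_index hn, det_projCentralizer_field hn σ ι hι hι', index_pow_sup,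
      index_baseUnits, hF, hF₀]

end CfsgLib.AutPSL
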