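import Mathlib
import Cfsg.Prelude.Def_LieTypeDatum
import Cfsg.Agent.Lib.AutPSL.Congr

/-!
Similarity groups of matrices `{h | hᵀ M h ∈ Fˣ M}` and the standard models.
-/

set_option autoImplicit false

namespace CfsgLib.AutPSL

open Matrix
open scoped MatrixGroups

variable {F : Type*} [Field F]
variable {ι κ : Type} [Fintype ι] [DecidableEq ι] [Fintype κ] [DecidableEq κ]

/-- The similarity group of the bilinear form with matrix `M`. -/
def simGroup (M : Matrix ι ι F) : Subgroup (GL ι F) where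
  carrier := {g | ∃ c : Fˣ, (g : Matrix ι ι F)ᵀ * M * g = (c : F) • M}
  one_mem' := ⟨1, by simp⟩
  mul_mem' {a b} ha hb := by
    obtain ⟨c, hc⟩ := ha
    obtain ⟨d, hd⟩ := hb
    refine ⟨c * d, ?_⟩
    calc ((a * b : GL ι F) : Matrix ι ι F)ᵀ * M * (a * b : GL ι F)
        = (b : Matrix ι ι F)ᵀ * ((a : Matrix ι ι F)ᵀ * M * a) * b := by
          simp only [Units.val_mul, Matrix.transpose_mul, Matrix.mul_assoc]
      _ = _ := by rw [hc, Matrix.mul_smul, Matrix.smul_mul, hd, smul_smul, Units.val_mul]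
  inv_mem' {a} ha := by
    obtain ⟨c, hc⟩ := ha
    refine ⟨c⁻¹, ?_⟩
    have h1 : ((a⁻¹ : GL ι F) : Matrix ι ι F)ᵀ * ((a : Matrix ι ι F)ᵀ * M * a) * (a⁻¹ : GL ι F) = M := by
      calc ((a⁻¹ : GL ι F) : Matrix ι ι F)ᵀ * ((a : Matrix ι ι F)ᵀ * M * a) * (a⁻¹ : GL ι F)
          = (((a⁻¹ : GL ι F) : Matrix ι ι F)ᵀ * (a : Matrix ι ι F)ᵀ) * M *
              ((a : Matrix ι ι F) * (a⁻¹ : GL ι F)) := by simp only [Matrix.mul_assoc]
        _ = M := by rw [← Matrix.transpose_mul, Units.mul_inv, Matrix.transpose_one, Matrix.one_mul,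
              Matrix.mul_one]
    rw [hc, Matrix.mul_smul, Matrix.smul_mul] at h1
    calc _ = ((c⁻¹ : Fˣ) : F) • ((c : F) •
          (((a⁻¹ : GL ι F) : Matrix ι ι F)ᵀ * M * (a⁻¹ : GL ι F))) := by
            rw [smul_smul, Units.inv_mul, one_smul]
      _ = _ := by rw [h1]

theorem mem_simGroup {M : Matrix ι ι F} {g : GL ι F} :
    g ∈ simGroup M ↔ ∃ c : Fˣ, (g : Matrix ι ι F)ᵀ * M * g = (c : F) • M := Iff.rfl

theorem scalar_mem_simGroup (M : Matrix ι ι F) {g : GL ι F} (hg : g ∈ Cfsg.Geo.scalars ι F) : g ∈ simGroup M := by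
  obtain ⟨c, hc⟩ := (Cfsg.Geo.mem_scalars_iff g).mp hg
  refine ⟨c * c, ?_⟩
  rw [hc, Matrix.transpose_smul, Matrix.transpose_one, Matrix.smul_mul, Matrix.one_mul, Matrix.smul_mul,
    Matrix.mul_smul, Matrix.mul_one, smul_smul, Units.val_mul]

theorem simGroup_smul (M : Matrix ι ι F) {c : F} (hc : c ≠ 0) : simGroup (c • M) = simGroup M := by
  ext g
  simp only [mem_simGroup, Matrix.mul_smul, Matrix.smul_mul]
  refine exists_congr fun d => ?_
  rw [smul_comm (d : F) c M]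
  exact ⟨fun h => smul_right_injective _ hc h, fun h => by rw [h]⟩

theorem det_sq_of_mem {M : Matrix ι ι F} (hM : M.det ≠ 0) {g : GL ι F} {c : Fˣ}
    (hc : (g : Matrix ι ι F)ᵀ * M * g = (c : F) • M) :
    Matrix.GeneralLinearGroup.det g ^ 2 = c ^ Fintype.card ι := by
  have h := congrArg Matrix.det hc
  rw [Matrix.det_mul, Matrix.det_mul, Matrix.det_transpose, Matrix.det_smul] at h
  refine Units.ext (mul_right_cancel₀ hM ?_)
  rw [Units.val_pow_eq_pow_val, Units.val_pow_eq_pow_val, Matrix.GeneralLinearGroup.val_det_apply, ← h]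
  ring

/-- Conjugation of invertible matrices by a rectangular two-sided inverse pair. -/
def conjEquiv (H : Matrix ι κ F) (H' : Matrix κ ι F) (h : H * H' = 1) (h' : H' * H = 1) : GL ι F ≃* GL κ F :=
  Units.mapEquiv
    { toFun := fun A => H' * A * H
      invFun := fun A => H * A * H'
      left_inv := fun A => by
        show H * (H' * A * H) * H' = A
        calc H * (H' * A * H) * H' = (H * H') * A * (H * H') := by simp only [Matrix.mul_assoc]
          _ = A := by rw [h, Matrix.one_mul, Matrix.mul_one]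
      right_inv := fun A => by
        show H' * (H * A * H') * H = A
        calc H' * (H * A * H') * H = (H' * H) * A * (H' * H) := by simp only [Matrix.mul_assoc]
          _ = A := by rw [h', Matrix.one_mul, Matrix.mul_one]
      map_mul' := fun A B => by
        show H' * (A * B) * H = (H' * A * H) * (H' * B * H)
        calc H' * (A * B) * H = H' * A * ((H * H') * B) * H := by rw [h, Matrix.one_mul]; simp only [Matrix.mul_assoc]
          _ = _ := by simp only [Matrix.mul_assoc] }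

theorem conjEquiv_coe (H : Matrix ι κ F) (H' : Matrix κ ι F) (h : H * H' = 1) (h' : H' * H = 1) (g : GL ι F) :
    (conjEquiv H H' h h' g : Matrix κ κ F) = H' * (g : Matrix ι ι F) * H := rfl

theorem conjEquiv_det (H : Matrix ι κ F) (H' : Matrix κ ι F) (h : H * H' = 1) (h' : H' * H = 1) (g : GL ι F)
    (e : κ ≃ ι) :
    Matrix.GeneralLinearGroup.det (conjEquiv H H' h h' g) = Matrix.GeneralLinearGroup.det g := by
  apply Units.ext
  rw [Matrix.GeneralLinearGroup.val_det_apply, Matrix.GeneralLinearGroup.val_det_apply, conjEquiv_coe]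
  have h3 : H' * (g : Matrix ι ι F) * H =
      H'.submatrix id e * (g : Matrix ι ι F).submatrix e e * H.submatrix e id := by
    rw [Matrix.submatrix_mul_equiv, Matrix.submatrix_mul_equiv, Matrix.submatrix_id_id]
  have h4 : (H'.submatrix id e).det * (H.submatrix e id).det = 1 := by
    rw [← Matrix.det_mul, Matrix.submatrix_mul_equiv, h', Matrix.submatrix_id_id, Matrix.det_one]
  rw [h3, Matrix.det_mul, Matrix.det_mul, Matrix.det_submatrix_equiv_self]
  linear_combination (g : Matrix ι ι F).det * h4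

theorem map_scalars (H : Matrix ι κ F) (H' : Matrix κ ι F) (h : H * H' = 1) (h' : H' * H = 1) :
    (Cfsg.Geo.scalars ι F).map (conjEquiv H H' h h').toMonoidHom = Cfsg.Geo.scalars κ F := by
  ext g
  simp only [Subgroup.mem_map, Cfsg.Geo.mem_scalars_iff]
  constructor
  · rintro ⟨x, ⟨c, hc⟩, rfl⟩
    refine ⟨c, ?_⟩
    show H' * (x : Matrix ι ι F) * H = _
    rw [hc, Matrix.mul_smul, Matrix.mul_one, Matrix.smul_mul, h']
  · rintro ⟨c, hc⟩
    refine ⟨(conjEquiv H H' h h').symm g, ⟨c, ?_⟩, (conjEquiv H H' h h').apply_symm_apply g⟩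
    show H * (g : Matrix κ κ F) * H' = _
    rw [hc, Matrix.mul_smul, Matrix.mul_one, Matrix.smul_mul, h]

theorem map_simGroup {M : Matrix ι ι F} {N : Matrix κ κ F} (H : Matrix ι κ F) (H' : Matrix κ ι F)
    (h : H * H' = 1) (h' : H' * H = 1) (hN : Hᵀ * M * H = N) :
    (simGroup M).map (conjEquiv H H' h h').toMonoidHom = simGroup N := by
  have hM : H'ᵀ * N * H' = M := by
    rw [← hN]
    calc H'ᵀ * (Hᵀ * M * H) * H' = (H'ᵀ * Hᵀ) * M * (H * H') := by simp only [Matrix.mul_assoc]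
      _ = M := by rw [← Matrix.transpose_mul, h, Matrix.transpose_one, Matrix.one_mul, Matrix.mul_one]
  ext g
  simp only [Subgroup.mem_map, mem_simGroup]
  constructor
  · rintro ⟨x, ⟨c, hc⟩, rfl⟩
    refine ⟨c, ?_⟩
    show (H' * (x : Matrix ι ι F) * H)ᵀ * N * (H' * (x : Matrix ι ι F) * H) = _
    calc (H' * (x : Matrix ι ι F) * H)ᵀ * N * (H' * (x : Matrix ι ι F) * H)
        = Hᵀ * ((x : Matrix ι ι F)ᵀ * (H'ᵀ * N * H') * (x : Matrix ι ι F)) * H := by
          simp only [Matrix.transpose_mul, Matrix.mul_assoc]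
      _ = _ := by rw [hM, hc, Matrix.mul_smul, Matrix.smul_mul, hN]
  · rintro ⟨c, hc⟩
    refine ⟨(conjEquiv H H' h h').symm g, ⟨c, ?_⟩, (conjEquiv H H' h h').apply_symm_apply g⟩
    show (H * (g : Matrix κ κ F) * H')ᵀ * M * (H * (g : Matrix κ κ F) * H') = _
    calc (H * (g : Matrix κ κ F) * H')ᵀ * M * (H * (g : Matrix κ κ F) * H')
        = H'ᵀ * ((g : Matrix κ κ F)ᵀ * (Hᵀ * M * H) * (g : Matrix κ κ F)) * H' := by
          simp only [Matrix.transpose_mul, Matrix.mul_assoc]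
      _ = _ := by rw [hN, hc, Matrix.mul_smul, Matrix.smul_mul, hM]

theorem simGroup_congr {M : Matrix ι ι F} {N : Matrix κ κ F} (h : Congr M N) :
    Nonempty (Cfsg.projQuot (simGroup M) ≃* Cfsg.projQuot (simGroup N)) := by
  obtain ⟨H, H', h1, h2, h3⟩ := h
  let φ := conjEquiv H H' h1 h2
  let ψ : ↥(simGroup M) ≃* ↥(simGroup N) :=
    (φ.subgroupMap (simGroup M)).trans (MulEquiv.subgroupCongr (map_simGroup H H' h1 h2 h3))
  refine ⟨QuotientGroup.congr _ _ ψ ?_⟩
  ext x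
  simp only [Subgroup.mem_map, Subgroup.mem_subgroupOf]
  rw [← map_scalars H H' h1 h2, Subgroup.mem_map]
  constructor
  · rintro ⟨y, hy, rfl⟩; exact ⟨y.1, hy, rfl⟩
  · rintro ⟨y, hy, hyx⟩
    exact ⟨⟨y, scalar_mem_simGroup M hy⟩, hy, Subtype.ext hyx⟩

theorem simGroup_det_congr {M : Matrix ι ι F} {N : Matrix κ κ F} (h : Congr M N) (e : κ ≃ ι) :
    (simGroup M).map Matrix.GeneralLinearGroup.det = (simGroup N).map Matrix.GeneralLinearGroup.det := by
  obtain ⟨H, H', h1, h2, h3⟩ := h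
  rw [← map_simGroup H H' h1 h2 h3, Subgroup.map_map]
  congr 1
  ext g : 1
  exact (conjEquiv_det H H' h1 h2 g e).symm

/-- A subgroup `K` that is scalars times an injective image of `S` meeting the scalars trivially. -/
theorem projQuot_equiv_of_hom {S : Type*} [Group S] (K : Subgroup (GL ι F)) (φ : S →* GL ι F)
    (hmem : ∀ s, φ s ∈ K) (hsurj : ∀ g ∈ K, ∃ s, ∃ z ∈ Cfsg.Geo.scalars ι F, g = φ s * z)
    (hinj : ∀ s, φ s ∈ Cfsg.Geo.scalars ι F → s = 1) : Nonempty (Cfsg.projQuot K ≃* S) := by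
  let ψ : S →* Cfsg.projQuot K := (QuotientGroup.mk' _).comp (φ.codRestrict K hmem)
  refine ⟨(MulEquiv.ofBijective ψ ⟨?_, ?_⟩).symm⟩
  · rw [injective_iff_map_eq_one]
    intro s hs
    exact hinj s (Subgroup.mem_subgroupOf.mp ((QuotientGroup.eq_one_iff _).mp hs))
  · intro x
    induction x using QuotientGroup.induction_on with
    | _ g =>
      obtain ⟨s, z, hz, hg⟩ := hsurj g.1 g.2
      refine ⟨s, QuotientGroup.eq.mpr (Subgroup.mem_subgroupOf.mpr ?_)⟩
      show (φ s)⁻¹ * g.1 ∈ _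
      rw [hg, inv_mul_cancel_left]; exact hz

/-- Every similarity is, after scaling, one with multiplier one, when all multipliers are squares. -/
theorem exists_scale {M : Matrix ι ι F} {g : GL ι F} (hg : g ∈ simGroup M)
    (hsq : ∀ c : Fˣ, (g : Matrix ι ι F)ᵀ * M * g = (c : F) • M → IsSquare c) :
    ∃ g₀ : GL ι F, ∃ z ∈ Cfsg.Geo.scalars ι F,
      (g₀ : Matrix ι ι F)ᵀ * M * g₀ = M ∧ g = g₀ * z := by
  obtain ⟨c, hc⟩ := hg
  obtain ⟨s, rfl⟩ := hsq c hc
  let z : GL ι F := Units.map (Matrix.scalar ι : F →+* Matrix ι ι F).toMonoidHom s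
  refine ⟨g * z⁻¹, z, ⟨s, rfl⟩, ?_, by group⟩
  have hz : ((z⁻¹ : GL ι F) : Matrix ι ι F) = ((s⁻¹ : Fˣ) : F) • (1 : Matrix ι ι F) := by
    show Matrix.scalar ι ((s⁻¹ : Fˣ) : F) = _
    rw [Matrix.scalar_apply, Matrix.smul_one_eq_diagonal]
  rw [Units.val_mul, hz, Matrix.mul_smul, Matrix.mul_one, Matrix.transpose_smul, Matrix.smul_mul, Matrix.smul_mul,
    Matrix.mul_smul, hc, smul_smul, smul_smul, Units.val_mul]
  rw [show ((s⁻¹ : Fˣ) : F) * ((s⁻¹ : Fˣ) : F) * ((s : F) * (s : F)) = 1 by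
    rw [mul_mul_mul_comm, Units.inv_mul, one_mul]]
  exact one_smul _ _

/-! ### Models -/

/-- Gram matrix of the polar form of `Σ xᵢ yᵢ`. -/
def hypMat (m : ℕ) (F : Type*) [Field F] : Matrix (Fin m ⊕ Fin m) (Fin m ⊕ Fin m) F :=
  Matrix.fromBlocks 0 1 1 0

/-- Gram matrix of the polar form of `quadFormOdd`. -/
def oddMat (m : ℕ) (F : Type*) [Field F] : Matrix (Unit ⊕ (Fin m ⊕ Fin m)) (Unit ⊕ (Fin m ⊕ Fin m)) F :=
  Matrix.fromBlocks ((2 : F) • 1) 0 0 (hypMat m F)

/-- Gram matrix of the polar form of `quadFormMinus m F 0 b`. -/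
def minusMat (m : ℕ) (F : Type*) [Field F] (b : F) :
    Matrix ((Fin m ⊕ Fin m) ⊕ Fin 2) ((Fin m ⊕ Fin m) ⊕ Fin 2) F :=
  Matrix.fromBlocks (hypMat m F) 0 0 (Matrix.diagonal ![2, 2 * b])

theorem det_J (m : ℕ) : (Matrix.J (Fin m) F).det = 1 := by
  refine SymplecticGroup.det_eq_one (SymplecticGroup.mem_iff'.mpr ?_)
  rw [Matrix.J_transpose, Matrix.neg_mul, Matrix.J_squared, neg_neg, Matrix.one_mul]

theorem hypMat_transpose (m : ℕ) : (hypMat m F)ᵀ = hypMat m F := by
  simp [hypMat, Matrix.fromBlocks_transpose]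

theorem hypMat_det (m : ℕ) : (hypMat m F).det = (-1) ^ m := by
  have h : hypMat m F = Matrix.J (Fin m) F * Matrix.fromBlocks 1 0 0 (-1) := by
    simp [hypMat, Matrix.J, Matrix.fromBlocks_multiply]
  rw [h, Matrix.det_mul, det_J, Matrix.det_fromBlocks_zero₂₁, Matrix.det_one, Matrix.det_neg, Matrix.det_one,
    Fintype.card_fin]
  ring

theorem oddMat_transpose (m : ℕ) : (oddMat m F)ᵀ = oddMat m F := by
  simp [oddMat, Matrix.fromBlocks_transpose, hypMat_transpose]

theorem oddMat_det (m : ℕ) : (oddMat m F).det = 2 * (-1) ^ m := by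
  rw [oddMat, Matrix.det_fromBlocks_zero₂₁, hypMat_det, Matrix.det_smul]
  simp

theorem minusMat_transpose (m : ℕ) (b : F) : (minusMat m F b)ᵀ = minusMat m F b := by
  simp [minusMat, Matrix.fromBlocks_transpose, hypMat_transpose]

theorem minusMat_det (m : ℕ) (b : F) : (minusMat m F b).det = (-1) ^ m * (2 * (2 * b)) := by
  rw [minusMat, Matrix.det_fromBlocks_zero₂₁, hypMat_det, Matrix.det_diagonal, Fin.prod_univ_two]
  rfl

theorem GSp_eq (m : ℕ) : Cfsg.GSp m F = simGroup (Matrix.J (Fin m) F) := by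
  ext g
  rw [mem_simGroup]
  refine exists_congr fun c => ?_
  have h : ∀ u v, Cfsg.sympForm m F ((g : Matrix _ _ F) *ᵥ u) ((g : Matrix _ _ F) *ᵥ v) =
      u ⬝ᵥ (((g : Matrix _ _ F)ᵀ * Matrix.J (Fin m) F * (g : Matrix _ _ F)) *ᵥ v) := fun u v => by
    rw [Cfsg.sympForm, ← Matrix.mulVec_mulVec, ← Matrix.mulVec_mulVec, Matrix.dotProduct_mulVec u,
      Matrix.vecMul_transpose]
  constructor
  · intro hc
    ext i j
    have h1 := hc (Pi.single i 1) (Pi.single j 1)
    rw [h, Cfsg.sympForm] at h1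
    simpa using h1
  · intro hc u v
    rw [h, hc, Cfsg.sympForm, Matrix.smul_mulVec, dotProduct_smul, smul_eq_mul]

/-- Similarities of a quadratic form are those of its polar matrix (odd characteristic). -/
theorem quadSimilarityGroup_eq (h2 : (2 : F) ≠ 0) {G : Matrix ι ι F} (hG : Gᵀ = G) {Q : (ι → F) → F}
    (hQ : ∀ v, v ⬝ᵥ (G *ᵥ v) = 2 * Q v) : Cfsg.Geo.quadSimilarityGroup Q = simGroup G := by
  ext g
  rw [mem_simGroup]
  refine exists_congr fun c => ?_
  have h : ∀ v, 2 * Q ((g : Matrix ι ι F) *ᵥ v) = v ⬝ᵥ (((g : Matrix ι ι F)ᵀ * G * (g : Matrix ι ι F)) *ᵥ v) := fun v => by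
    rw [← hQ, ← Matrix.mulVec_mulVec, ← Matrix.mulVec_mulVec, Matrix.dotProduct_mulVec v,
      Matrix.vecMul_transpose]
  constructor
  · intro hc
    have hsym : ((g : Matrix ι ι F)ᵀ * G * (g : Matrix ι ι F) - (c : F) • G)ᵀ = (g : Matrix ι ι F)ᵀ * G * (g : Matrix ι ι F) - (c : F) • G := by
      simp [Matrix.transpose_mul, hG, Matrix.mul_assoc]
    set D := (g : Matrix ι ι F)ᵀ * G * (g : Matrix ι ι F) - (c : F) • G with hD
    have h0 : ∀ v, v ⬝ᵥ (D *ᵥ v) = 0 := fun v => by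
      rw [hD, Matrix.sub_mulVec, dotProduct_sub, ← h, hc, Matrix.smul_mulVec, dotProduct_smul, hQ, smul_eq_mul]
      ring
    rw [← sub_eq_zero, ← hD]
    ext i j
    have h1 := h0 (Pi.single i 1 + Pi.single j 1)
    have hi := h0 (Pi.single i 1)
    have hj := h0 (Pi.single j 1)
    simp only [Matrix.mulVec_add, add_dotProduct, dotProduct_add] at h1
    simp only [Matrix.mulVec_single_one, single_one_dotProduct, Matrix.col_apply] at h1 hi hj
    have hji : D j i = D i j := congrFun (congrFun hsym i) j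
    rw [hi, hj, hji] at h1
    simp only [zero_add, add_zero, ← two_mul, mul_eq_zero] at h1
    simpa [h2] using h1
  · intro hc v
    apply mul_left_cancel₀ h2
    rw [h, hc, Matrix.smul_mulVec, dotProduct_smul, hQ, smul_eq_mul]
    ring

theorem hypMat_quad (m : ℕ) (v : Fin m ⊕ Fin m → F) :
    v ⬝ᵥ (hypMat m F *ᵥ v) = 2 * Cfsg.quadFormPlus m F v := by
  rw [hypMat, Matrix.fromBlocks_mulVec]
  simp [dotProduct, Fintype.sum_sum_type, Cfsg.quadFormPlus, two_mul, mul_comm]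

theorem oddMat_quad (m : ℕ) (v : Unit ⊕ (Fin m ⊕ Fin m) → F) :
    v ⬝ᵥ (oddMat m F *ᵥ v) = 2 * Cfsg.quadFormOdd m F v := by
  have h := hypMat_quad m (fun i => v (.inr i))
  simp only [dotProduct, oddMat, Matrix.fromBlocks_mulVec, Fintype.sum_sum_type, Sum.elim_inl, Sum.elim_inr] at h ⊢
  simp only [Matrix.zero_mulVec, add_zero, zero_add, Matrix.smul_mulVec, Matrix.one_mulVec, Pi.smul_apply,
    smul_eq_mul, Function.comp_apply, Finset.univ_unique, Finset.sum_singleton]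
  rw [Cfsg.quadFormOdd]
  simp only [Cfsg.quadFormPlus, Function.comp_def] at h ⊢
  linear_combination h

theorem minusMat_quad (m : ℕ) (b : F) (v : (Fin m ⊕ Fin m) ⊕ Fin 2 → F) :
    v ⬝ᵥ (minusMat m F b *ᵥ v) = 2 * Cfsg.quadFormMinus m F 0 b v := by
  have h := hypMat_quad m (fun i => v (.inl i))
  simp only [dotProduct, minusMat, Matrix.fromBlocks_mulVec, Fintype.sum_sum_type, Sum.elim_inl, Sum.elim_inr] at h ⊢
  simp only [Matrix.zero_mulVec, add_zero, zero_add, Matrix.mulVec_diagonal, Function.comp_apply,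
    Fin.sum_univ_two, Matrix.cons_val_zero, Matrix.cons_val_one]
  rw [Cfsg.quadFormMinus]
  simp only [Cfsg.quadFormPlus, Function.comp_def] at h ⊢
  linear_combination h

end CfsgLib.AutPSL
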