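import Mathlib
import Cfsg.Agent.Lib.AutPSL.SplitDet
import Cfsg.Agent.Lib.AutPSL.SimGroup

/-!
Involutory graph automorphisms `x ↦ B x^{-t} B⁻¹` of `PSL_n` and their centralisers.
-/

set_option autoImplicit false

namespace CfsgLib.AutPSL

open Matrix
open scoped MatrixGroups

variable {n : ℕ} {F : Type*} [Field F] [Fintype F]

/-- The graph automorphism attached to an invertible matrix. -/
def graphAut (B : GL (Fin n) F) : MulAut (PSLg n F) := diagAut B * itAut

omit [Fintype F] in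
theorem isGraphAutClassPSL_iff {γ : MulAut (PSLg n F)} :
    Cfsg.IsGraphAutClassPSL γ ↔ 3 ≤ n ∧ ∃ B, γ = graphAut B := by
  constructor
  · rintro ⟨h, δ, ι, hδ, hι, rfl⟩
    obtain ⟨g, rfl⟩ := isInnerDiagonalAutPSL_iff.mp hδ
    exact ⟨h, g, by rw [isInverseTransposeAutPSL_iff.mp hι]; rfl⟩
  · rintro ⟨h, g, rfl⟩
    exact ⟨h, diagAut g, itAut, isInnerDiagonalAutPSL_iff.mpr ⟨g, rfl⟩, isInverseTransposeAutPSL_iff.mpr rfl, rfl⟩

theorem diagAut_eq_iff_smul (hn : 2 ≤ n) {g h : GL (Fin n) F} :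
    diagAut g = diagAut h ↔ ∃ c : Fˣ, (h : Matrix (Fin n) (Fin n) F) = (c : F) • (g : Matrix (Fin n) (Fin n) F) := by
  have hker : ∀ x : GL (Fin n) F, diagAut x = 1 ↔ ∃ c : Fˣ, (x : Matrix (Fin n) (Fin n) F) = (c : F) • 1 := fun x => by
    rw [← MonoidHom.mem_ker, ker_diagAut hn, Matrix.GeneralLinearGroup.center_eq_range_scalar,
      ← Cfsg.Geo.mem_scalars_iff]
    rfl
  rw [show diagAut g = diagAut h ↔ diagAut (g⁻¹ * h) = 1 by rw [map_mul, map_inv, inv_mul_eq_one], hker]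
  refine exists_congr fun c => ⟨fun e => ?_, fun e => ?_⟩
  · calc (h : Matrix (Fin n) (Fin n) F) = (g : Matrix (Fin n) (Fin n) F) * ((g⁻¹ * h : GL (Fin n) F) : Matrix _ _ F) := by
          rw [Units.val_mul, ← Matrix.mul_assoc, Units.mul_inv, Matrix.one_mul]
      _ = _ := by rw [e, Matrix.mul_smul, Matrix.mul_one]
  · rw [Units.val_mul, e, Matrix.mul_smul, Units.inv_mul]

theorem graphAut_eq_iff (hn : 2 ≤ n) {B C : GL (Fin n) F} :
    graphAut B = graphAut C ↔ ∃ c : Fˣ, (C : Matrix (Fin n) (Fin n) F) = (c : F) • (B : Matrix (Fin n) (Fin n) F) := by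
  rw [graphAut, graphAut, mul_left_inj, diagAut_eq_iff_smul hn]

/-- The congruence action `h • B = h B hᵀ`. -/
def congAct (h B : GL (Fin n) F) : GL (Fin n) F := h * B * (itGL h)⁻¹

omit [Fintype F] in
theorem congAct_coe (h B : GL (Fin n) F) :
    (congAct h B : Matrix (Fin n) (Fin n) F) =
      (h : Matrix (Fin n) (Fin n) F) * B * (h : Matrix (Fin n) (Fin n) F)ᵀ := by
  rw [congAct, Units.val_mul, Units.val_mul, itGL_inv_coe]

omit [Fintype F] in
theorem graphAut_conj (h B : GL (Fin n) F) :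
    diagAut h * graphAut B * (diagAut h)⁻¹ = graphAut (congAct h B) := by
  rw [graphAut, graphAut, congAct, map_mul, map_mul, mul_assoc, mul_assoc, ← map_inv, itAut_diagAut, map_inv itGL]
  simp only [mul_assoc]

omit [Fintype F] in
theorem graphAut_sq (B : GL (Fin n) F) : graphAut B * graphAut B = diagAut (B * itGL B) := by
  rw [graphAut, show (diagAut B * itAut * (diagAut B * itAut) : MulAut (PSLg n F)) =
    diagAut B * (itAut * diagAut B) * itAut by group, itAut_diagAut, map_mul,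
    show (diagAut B * (diagAut (itGL B) * itAut) * itAut : MulAut (PSLg n F)) =
      diagAut B * diagAut (itGL B) * (itAut * itAut) by group, itAut_mul_self, mul_one]

theorem graphAut_ne_one (hn : 3 ≤ n) (B : GL (Fin n) F) : graphAut B ≠ 1 := by
  intro h
  refine itAut_ne_semilinear hn B⁻¹ 1 ?_
  rw [map_one, mul_one, map_inv]
  exact eq_inv_of_mul_eq_one_right h

theorem orderOf_graphAut (hn : 3 ≤ n) {B : GL (Fin n) F}
    (h : (B : Matrix (Fin n) (Fin n) F)ᵀ = (B : Matrix (Fin n) (Fin n) F) ∨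
      (B : Matrix (Fin n) (Fin n) F)ᵀ = -(B : Matrix (Fin n) (Fin n) F)) :
    orderOf (graphAut B) = 2 := by
  refine orderOf_eq_prime ?_ (graphAut_ne_one hn B)
  obtain ⟨c, hc⟩ : ∃ c : Fˣ, (B : Matrix (Fin n) (Fin n) F)ᵀ = (c : F) • (B : Matrix (Fin n) (Fin n) F) := by
    rcases h with h | h
    · exact ⟨1, by simp [h]⟩
    · exact ⟨-1, by simp [h]⟩
  rw [pow_two, graphAut_sq, map_mul, mul_eq_one_iff_eq_inv, ← map_inv, diagAut_eq_iff_smul (by omega)]
  exact ⟨c, by rw [itGL_inv_coe, hc]⟩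

theorem graphAut_normal_form (hn : 3 ≤ n) {γ : MulAut (PSLg n F)} (hγ : Cfsg.IsGraphAutClassPSL γ)
    (h2 : orderOf γ = 2) :
    ∃ B : GL (Fin n) F, γ = graphAut B ∧ ((B : Matrix (Fin n) (Fin n) F)ᵀ = (B : Matrix (Fin n) (Fin n) F) ∨
      (B : Matrix (Fin n) (Fin n) F)ᵀ = -(B : Matrix (Fin n) (Fin n) F)) := by
  obtain ⟨-, B, rfl⟩ := isGraphAutClassPSL_iff.mp hγ
  refine ⟨B, rfl, ?_⟩
  have h1 : graphAut B * graphAut B = 1 := by rw [← pow_two, ← h2, pow_orderOf_eq_one]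
  rw [graphAut_sq, map_mul, mul_eq_one_iff_eq_inv, ← map_inv, diagAut_eq_iff_smul (by omega)] at h1
  obtain ⟨c, hc⟩ := h1
  rw [itGL_inv_coe] at hc
  have hcc : (B : Matrix (Fin n) (Fin n) F) = ((c : F) * (c : F)) • (B : Matrix (Fin n) (Fin n) F) := by
    conv_lhs => rw [← Matrix.transpose_transpose (B : Matrix (Fin n) (Fin n) F), hc]
    rw [Matrix.transpose_smul, hc, smul_smul]
  have hne : (B : Matrix (Fin n) (Fin n) F) ≠ 0 := fun h0 => by
    have : Nonempty (Fin n) := ⟨⟨0, by omega⟩⟩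
    have h := Matrix.GeneralLinearGroup.det_ne_zero B
    rw [h0] at h
    exact h Matrix.det_zero
  have hc2 : (c : F) * (c : F) = 1 := by
    by_contra hc2
    refine hne ?_
    have : ((c : F) * (c : F) - 1) • (B : Matrix (Fin n) (Fin n) F) = 0 := by
      rw [sub_smul, ← hcc, one_smul, sub_self]
    exact (smul_eq_zero.mp this).resolve_left (sub_ne_zero.mpr hc2)
  rcases mul_self_eq_one_iff.mp hc2 with h | h
  · left; rw [hc, h, one_smul]
  · right; rw [hc, h, neg_smul, one_smul]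

theorem isConjUnder_graphAut (hn : 2 ≤ n) {B C : GL (Fin n) F} :
    Cfsg.IsConjUnder (Cfsg.inndiagPSL n F) (graphAut B) (graphAut C) ↔
      ∃ c : F, c ≠ 0 ∧ Congr (B : Matrix (Fin n) (Fin n) F) (c • (C : Matrix (Fin n) (Fin n) F)) := by
  constructor
  · rintro ⟨a, ha, h⟩
    obtain ⟨g, rfl⟩ := mem_inndiag_iff.mp ha
    rw [graphAut_conj, eq_comm, graphAut_eq_iff hn] at h
    obtain ⟨c, hc⟩ := h
    refine ⟨((c⁻¹ : Fˣ) : F), Units.ne_zero _,
      (g : Matrix (Fin n) (Fin n) F)ᵀ, ((g⁻¹ : GL (Fin n) F) : Matrix (Fin n) (Fin n) F)ᵀ, ?_, ?_, ?_⟩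
    · rw [← Matrix.transpose_mul, Units.inv_mul, Matrix.transpose_one]
    · rw [← Matrix.transpose_mul, Units.mul_inv, Matrix.transpose_one]
    · rw [Matrix.transpose_transpose, ← congAct_coe, hc, smul_smul, Units.inv_mul, one_smul]
  · rintro ⟨c, hc, H, H', h1, h2, h3⟩
    let g : GL (Fin n) F := ⟨Hᵀ, H'ᵀ, by rw [← Matrix.transpose_mul, h2, Matrix.transpose_one],
      by rw [← Matrix.transpose_mul, h1, Matrix.transpose_one]⟩
    refine ⟨diagAut g, mem_inndiag_iff.mpr ⟨g, rfl⟩, ?_⟩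
    rw [graphAut_conj, eq_comm, graphAut_eq_iff hn]
    refine ⟨(Units.mk0 c hc)⁻¹, ?_⟩
    rw [congAct_coe, show (g : Matrix (Fin n) (Fin n) F) = Hᵀ from rfl, Matrix.transpose_transpose, h3,
      Units.val_inv_eq_inv_val, Units.val_mk0, smul_smul, inv_mul_cancel₀ hc, one_smul]

theorem mem_projCentralizer_graphAut (hn : 2 ≤ n) {g B : GL (Fin n) F} :
    g ∈ projCentralizer (graphAut B) ↔ itGL g ∈ simGroup (B : Matrix (Fin n) (Fin n) F) := by
  rw [mem_projCentralizer, ← mul_inv_eq_iff_eq_mul, graphAut_conj, eq_comm, graphAut_eq_iff hn, mem_simGroup,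
    itGL_coe, Matrix.transpose_transpose, congAct_coe]
  have key : ∀ (d : F), ((g : Matrix (Fin n) (Fin n) F) * B * (g : Matrix (Fin n) (Fin n) F)ᵀ = d • (B : Matrix (Fin n) (Fin n) F)) ↔
      (B : Matrix (Fin n) (Fin n) F) =
        d • (((g⁻¹ : GL (Fin n) F) : Matrix (Fin n) (Fin n) F) * B *
          ((g⁻¹ : GL (Fin n) F) : Matrix (Fin n) (Fin n) F)ᵀ) := by
    intro d
    constructor
    · intro h
      rw [← Matrix.smul_mul, ← Matrix.mul_smul, ← h]
      calc (B : Matrix (Fin n) (Fin n) F) = (((g⁻¹ : GL (Fin n) F) : Matrix (Fin n) (Fin n) F) * g) * B *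
            ((g : Matrix (Fin n) (Fin n) F)ᵀ * ((g⁻¹ : GL (Fin n) F) : Matrix (Fin n) (Fin n) F)ᵀ) := by
              rw [Units.inv_mul, ← Matrix.transpose_mul, Units.inv_mul, Matrix.transpose_one, Matrix.one_mul,
                Matrix.mul_one]
        _ = _ := by simp only [Matrix.mul_assoc]
    · intro h
      conv_lhs => rw [h]
      rw [Matrix.mul_smul, Matrix.smul_mul]
      congr 1
      calc (g : Matrix (Fin n) (Fin n) F) * (((g⁻¹ : GL (Fin n) F) : Matrix (Fin n) (Fin n) F) * B *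
            ((g⁻¹ : GL (Fin n) F) : Matrix (Fin n) (Fin n) F)ᵀ) * (g : Matrix (Fin n) (Fin n) F)ᵀ =
          ((g : Matrix (Fin n) (Fin n) F) * ((g⁻¹ : GL (Fin n) F) : Matrix (Fin n) (Fin n) F)) * B *
            (((g⁻¹ : GL (Fin n) F) : Matrix (Fin n) (Fin n) F)ᵀ * (g : Matrix (Fin n) (Fin n) F)ᵀ) := by
              simp only [Matrix.mul_assoc]
        _ = _ := by rw [Units.mul_inv, ← Matrix.transpose_mul, Units.mul_inv, Matrix.transpose_one, Matrix.one_mul,
              Matrix.mul_one]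
  constructor
  · rintro ⟨c, hc⟩
    refine ⟨c⁻¹, ?_⟩
    conv_rhs => rw [(key _).mp hc, smul_smul, Units.inv_mul, one_smul]
  · rintro ⟨c, hc⟩
    refine ⟨c⁻¹, (key _).mpr ?_⟩
    rw [hc, smul_smul, Units.inv_mul, one_smul]

theorem centralizer_graphAut_equiv (hn : 2 ≤ n) (B : GL (Fin n) F) :
    Nonempty (↥(Cfsg.inndiagPSL n F ⊓ Subgroup.centralizer {graphAut B}) ≃*
      Cfsg.projQuot (simGroup (B : Matrix (Fin n) (Fin n) F))) := by
  let ψ : ↥(simGroup (B : Matrix (Fin n) (Fin n) F)) →* MulAut (PSLg n F) :=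
    (diagAut.comp itGL).comp (simGroup (B : Matrix (Fin n) (Fin n) F)).subtype
  have hrange : ψ.range = Cfsg.inndiagPSL n F ⊓ Subgroup.centralizer {graphAut B} := by
    rw [inndiag_inf_centralizer]
    ext β
    simp only [MonoidHom.mem_range, Subgroup.mem_map, ψ, MonoidHom.comp_apply, Subgroup.coe_subtype]
    constructor
    · rintro ⟨x, rfl⟩
      exact ⟨itGL x.1, (mem_projCentralizer_graphAut hn).mpr (by rw [itGL_itGL]; exact x.2), rfl⟩
    · rintro ⟨g, hg, rfl⟩
      exact ⟨⟨itGL g, (mem_projCentralizer_graphAut hn).mp hg⟩, by rw [itGL_itGL]⟩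
  have hker : ψ.ker = (Cfsg.Geo.scalars (Fin n) F).subgroupOf (simGroup (B : Matrix (Fin n) (Fin n) F)) := by
    ext x
    rw [MonoidHom.mem_ker, Subgroup.mem_subgroupOf]
    have h1 : Cfsg.Geo.scalars (Fin n) F = (diagAut (n := n) (F := F)).ker := by
      rw [ker_diagAut hn, Matrix.GeneralLinearGroup.center_eq_range_scalar]
      rfl
    rw [h1, MonoidHom.mem_ker]
    show diagAut (itGL x.1) = 1 ↔ _
    constructor
    · intro h
      have h' := congrArg (fun β => itAut * β * itAut) h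
      simp only [itAut_diagAut, itGL_itGL, mul_assoc, itAut_mul_self, mul_one] at h'
      exact h'
    · intro h
      have h' := congrArg (fun β => itAut * β * itAut) h
      simp only [itAut_diagAut, mul_assoc, itAut_mul_self, mul_one] at h'
      exact h'
  exact ⟨((QuotientGroup.quotientMulEquivOfEq hker.symm).trans
    ((QuotientGroup.quotientKerEquivRange ψ).trans (MulEquiv.subgroupCongr hrange))).symm⟩

theorem centralizer_graphAut_model (hn : 2 ≤ n) {ι : Type} [Fintype ι] [DecidableEq ι] {B : GL (Fin n) F}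
    {G : Matrix ι ι F} {c : F} (hc : c ≠ 0) (h : Congr (B : Matrix (Fin n) (Fin n) F) (c • G)) :
    Nonempty (↥(Cfsg.inndiagPSL n F ⊓ Subgroup.centralizer {graphAut B}) ≃* Cfsg.projQuot (simGroup G)) := by
  obtain ⟨e₁⟩ := centralizer_graphAut_equiv hn B
  obtain ⟨e₂⟩ := simGroup_congr h
  rw [simGroup_smul G hc] at e₂
  exact ⟨e₁.trans e₂⟩

theorem splitClassCount_graphAut (hn : 2 ≤ n) (B : GL (Fin n) F) :
    Cfsg.splitClassCount (Cfsg.inndiagPSL n F) (Cfsg.Inn (PSLg n F)) (graphAut B) =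
      ((simGroup (B : Matrix (Fin n) (Fin n) F)).map Matrix.GeneralLinearGroup.det).index := by
  rw [splitClassCount_eq_det_index hn]
  congr 1
  have hdet : ∀ g : GL (Fin n) F,
      Matrix.GeneralLinearGroup.det (itGL g) = (Matrix.GeneralLinearGroup.det g)⁻¹ := fun g => by
    rw [← map_inv]
    apply Units.ext
    rw [Matrix.GeneralLinearGroup.val_det_apply, Matrix.GeneralLinearGroup.val_det_apply, itGL_coe,
      Matrix.det_transpose]
  ext u
  constructor
  · rintro ⟨g, hg, rfl⟩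
    rw [← inv_mem_iff, ← hdet]
    exact ⟨_, (mem_projCentralizer_graphAut hn).mp hg, rfl⟩
  · rintro ⟨x, hx, rfl⟩
    rw [← inv_mem_iff]
    exact ⟨itGL x, (mem_projCentralizer_graphAut hn).mpr (by rw [itGL_itGL]; exact hx), hdet x⟩

end CfsgLib.AutPSL
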