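import Mathlib
import Cfsg.Agent.Lib.AutPSL.SimGroup
import Cfsg.Agent.Lib.Linear.Symplectic

/-!
Characteristic two: the similarity groups of the symmetric models.
-/

set_option autoImplicit false

namespace CfsgLib.AutPSL

open Matrix
open scoped MatrixGroups
open CfsgLib.Linear.Symp

variable {F : Type*} [Field F] {m : ℕ}

theorem smul_vec_eq (g : symplecticGroup (Fin m) F) (v : Fin m ⊕ Fin m → F) : g • v = g.1 *ᵥ v := rfl

/-- The symplectic group inside the general linear group. -/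
noncomputable def spToGL : symplecticGroup (Fin m) F →* GL (Fin m ⊕ Fin m) F :=
  (symplecticGroup (Fin m) F).subtype.toHomUnits

theorem spToGL_coe (A : symplecticGroup (Fin m) F) :
    (spToGL A : Matrix (Fin m ⊕ Fin m) (Fin m ⊕ Fin m) F) = A.1 := rfl

theorem eq_one_of_scalar [CharP F 2] [Nonempty (Fin m)] {A : symplecticGroup (Fin m) F} {c : F}
    (h : A.1 = c • (1 : Matrix _ _ F)) : A = 1 := by
  have h1 := SymplecticGroup.mem_iff'.mp A.2
  rw [h, Matrix.transpose_smul, Matrix.transpose_one, Matrix.smul_mul, Matrix.one_mul, Matrix.mul_smul,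
    Matrix.mul_one, smul_smul] at h1
  have i₀ := Classical.arbitrary (Fin m)
  have h2 := congrFun (congrFun h1 (Sum.inr i₀)) (Sum.inl i₀)
  simp [Matrix.J] at h2
  rw [← pow_two] at h2
  have : c = 1 := CharTwo.sq_inj.mp (by rw [h2, one_pow])
  exact Subtype.ext (by rw [h, this, one_smul]; rfl)

/-- The non-alternating symmetric model in even dimension. -/
def altExtra (m : ℕ) (F : Type*) [Field F] (i₀ : Fin m) : Matrix (Fin m ⊕ Fin m) (Fin m ⊕ Fin m) F :=
  Matrix.J (Fin m) F * Cfsg.sympTransvection m (Pi.single (Sum.inl i₀) 1) 1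

theorem J_mul_vec (i₀ : Fin m) :
    Matrix.J (Fin m) F *ᵥ Pi.single (Sum.inl i₀) 1 = Pi.single (Sum.inr i₀) 1 := by
  ext (i | i) <;> simp [Matrix.J, Matrix.one_apply, Pi.single_apply]

theorem altExtra_eq (i₀ : Fin m) :
    altExtra m F i₀ = Matrix.J (Fin m) F +
      Matrix.vecMulVec (Pi.single (Sum.inr i₀) 1) (Pi.single (Sum.inr i₀) 1) := by
  rw [altExtra, Cfsg.sympTransvection, one_smul, Matrix.mul_add, Matrix.mul_one, Matrix.mul_vecMulVec, J_mul_vec]

theorem J_transpose_char_two [CharP F 2] : (Matrix.J (Fin m) F)ᵀ = Matrix.J (Fin m) F := by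
  rw [Matrix.J_transpose]
  ext i j
  exact CharTwo.neg_eq _

theorem altExtra_transpose [CharP F 2] (i₀ : Fin m) : (altExtra m F i₀)ᵀ = altExtra m F i₀ := by
  rw [altExtra_eq, Matrix.transpose_add, J_transpose_char_two, Matrix.transpose_vecMulVec]

theorem altExtra_det (i₀ : Fin m) : (altExtra m F i₀).det = 1 := by
  rw [altExtra, Matrix.det_mul, det_J, SymplecticGroup.det_eq_one (transvection_mem _ _), mul_one]

theorem altExtra_nonalt (i₀ : Fin m) : altExtra m F i₀ (Sum.inr i₀) (Sum.inr i₀) ≠ 0 := by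
  rw [altExtra_eq]
  simp [Matrix.J, Matrix.vecMulVec_apply]

theorem form_self_zero (x : Fin m ⊕ Fin m → F) : x ⬝ᵥ (Matrix.J (Fin m) F *ᵥ x) = 0 := form_self x

theorem isTransvection_tv [Nonempty (Fin m)] {v : Fin m ⊕ Fin m → F} (hv : v ≠ 0) :
    Cfsg.IsTransvection (tv v 1).1 := by
  have h : (tv v 1).1 - 1 = Matrix.vecMulVec v (Matrix.J (Fin m) F *ᵥ v) := by
    show Cfsg.sympTransvection m v 1 - 1 = _
    rw [Cfsg.sympTransvection, one_smul, add_sub_cancel_left]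
  refine ⟨le_antisymm ?_ ?_, ?_⟩
  · rw [h]; exact Matrix.rank_vecMulVec_le _ _
  · rw [h, Matrix.rank, Submodule.one_le_finrank_iff]
    intro hbot
    obtain ⟨w, hw⟩ := exists_form_ne_zero hv
    have h1 : Matrix.vecMulVec v (Matrix.J (Fin m) F *ᵥ v) *ᵥ w = 0 :=
      (Submodule.eq_bot_iff _).mp hbot _ ⟨w, rfl⟩
    rw [Matrix.vecMulVec_mulVec, op_smul_eq_smul, dotProduct_comm, smul_eq_zero] at h1
    rcases h1 with h1 | h1
    · exact hw (by rw [form_swap]; rw [show Cfsg.sympForm m F w v = 0 from h1, neg_zero])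
    · exact hv h1
  · rw [h, Matrix.vecMulVec_mul_vecMulVec, dotProduct_comm, form_self_zero]
    simp

theorem centralizer_tv_iff [CharP F 2] {v : Fin m ⊕ Fin m → F} (hv : v ≠ 0) (g : symplecticGroup (Fin m) F) :
    g ∈ Subgroup.centralizer {tv v (1 : F)} ↔ g • v = v := by
  rw [Subgroup.mem_centralizer_singleton_iff]
  constructor
  · intro h
    have h1 : tv (g • v) (1 : F) = tv v 1 := by rw [← tv_conj, h, mul_inv_cancel_right]
    obtain ⟨w, hw⟩ := exists_form_ne_zero hv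
    have hw' : Cfsg.sympForm m F w v ≠ 0 := fun h0 => hw (by rw [form_swap, h0, neg_zero])
    have h2 := congrArg (fun t => t • w) h1
    simp only [tv_smul, one_mul, add_right_inj] at h2
    have hne : Cfsg.sympForm m F w (g • v) ≠ 0 := by
      intro h0; rw [h0, zero_smul, eq_comm, smul_eq_zero] at h2
      exact h2.elim hw' hv
    obtain ⟨k, hk⟩ : ∃ k : F, g • v = k • v :=
      ⟨(Cfsg.sympForm m F w (g • v))⁻¹ * Cfsg.sympForm m F w v,
        by rw [← smul_smul, ← h2, smul_smul, inv_mul_cancel₀ hne, one_smul]⟩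
    rw [hk, form_smul_right, smul_smul] at h2
    have h3 : (k * Cfsg.sympForm m F w v * k - Cfsg.sympForm m F w v) • v = 0 := by
      rw [sub_smul, h2, sub_self]
    have h4 : k ^ 2 = 1 := by
      have := (smul_eq_zero.mp h3).resolve_right hv
      exact mul_right_cancel₀ hw' (by linear_combination this)
    rw [hk, CharTwo.sq_inj.mp (h4.trans (one_pow 2).symm), one_smul]
  · intro h
    have h1 := tv_conj g v (1 : F)
    rw [h] at h1
    exact mul_inv_eq_iff_eq_mul.mp h1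

variable [Fintype F] [CharP F 2]

theorem isSquare_unit (c : Fˣ) : IsSquare c := by
  obtain ⟨s, hs⟩ := FiniteField.isSquare_of_char_two (ringChar.eq F 2) (c : F)
  have hs0 : s ≠ 0 := by rintro rfl; exact c.ne_zero (by simpa using hs)
  exact ⟨Units.mk0 s hs0, Units.ext (by simpa using hs)⟩

theorem simGroup_J_equiv (hm : 1 ≤ m) :
    Nonempty (Cfsg.projQuot (simGroup (Matrix.J (Fin m) F)) ≃* symplecticGroup (Fin m) F) := by
  have : Nonempty (Fin m) := ⟨⟨0, by omega⟩⟩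
  refine projQuot_equiv_of_hom _ spToGL (fun A => ⟨1, ?_⟩) (fun g hg => ?_) fun A hA => ?_
  · rw [spToGL_coe, SymplecticGroup.mem_iff'.mp A.2, Units.val_one, one_smul]
  · obtain ⟨g₀, z, hz, h0, rfl⟩ := exists_scale hg fun c _ => isSquare_unit c
    exact ⟨⟨g₀, SymplecticGroup.mem_iff'.mpr h0⟩, z, hz, by congr 1; exact Units.ext rfl⟩
  · obtain ⟨c, hc⟩ := (Cfsg.Geo.mem_scalars_iff _).mp hA
    exact eq_one_of_scalar hc

theorem simGroup_altExtra_equiv (i₀ : Fin m) :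
    Nonempty (Cfsg.projQuot (simGroup (altExtra m F i₀)) ≃*
      ↥(Subgroup.centralizer ({tv (Pi.single (Sum.inl i₀) (1 : F)) 1} : Set (symplecticGroup (Fin m) F)))) := by
  have : Nonempty (Fin m) := ⟨i₀⟩
  set v : Fin m ⊕ Fin m → F := Pi.single (Sum.inl i₀) 1 with hv_def
  set u : Fin m ⊕ Fin m → F := Pi.single (Sum.inr i₀) 1 with hu_def
  have hv : v ≠ 0 := by simp [hv_def]
  have hq : ∀ x, x ⬝ᵥ (altExtra m F i₀ *ᵥ x) = (u ⬝ᵥ x) ^ 2 := fun x => by
    rw [altExtra_eq, Matrix.add_mulVec, dotProduct_add, form_self_zero, zero_add, Matrix.vecMulVec_mulVec,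
      op_smul_eq_smul, dotProduct_smul, smul_eq_mul, dotProduct_comm x, ← hu_def]
    ring
  have hfix : ∀ A : symplecticGroup (Fin m) F, A • v = v ↔ A.1ᵀ *ᵥ u = u := by
    intro A
    have hJ : A.1ᵀ * Matrix.J (Fin m) F * A.1 = Matrix.J (Fin m) F := SymplecticGroup.mem_iff'.mp A.2
    constructor
    · intro h
      rw [hu_def, ← J_mul_vec, ← hv_def]
      conv_rhs => rw [← hJ, ← Matrix.mulVec_mulVec, ← Matrix.mulVec_mulVec, ← smul_vec_eq A v, h]
    · intro h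
      have h1 : (A.1ᵀ * Matrix.J (Fin m) F) *ᵥ (A • v) = (A.1ᵀ * Matrix.J (Fin m) F) *ᵥ v := by
        rw [smul_vec_eq, Matrix.mulVec_mulVec, hJ, ← Matrix.mulVec_mulVec, J_mul_vec, ← hu_def, h]
      refine Matrix.mulVec_injective_iff_isUnit.mpr ((Matrix.isUnit_iff_isUnit_det _).mpr ?_) h1
      rw [Matrix.det_mul, Matrix.det_transpose, det_J, SymplecticGroup.det_eq_one A.2, mul_one]
      exact isUnit_one
  have hpres : ∀ A : symplecticGroup (Fin m) F, A.1ᵀ *ᵥ u = u →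
      A.1ᵀ * altExtra m F i₀ * A.1 = altExtra m F i₀ := by
    intro A h
    rw [altExtra_eq, Matrix.mul_add, Matrix.add_mul, SymplecticGroup.mem_iff'.mp A.2, Matrix.mul_vecMulVec,
      Matrix.vecMulVec_mul, ← Matrix.mulVec_transpose, ← hu_def, h]
  refine projQuot_equiv_of_hom _ (spToGL.comp (Subgroup.centralizer {tv v (1 : F)}).subtype) (fun A => ⟨1, ?_⟩)
    (fun g hg => ?_) fun A hA => ?_
  · rw [Units.val_one, one_smul]
    exact hpres A.1 ((hfix A.1).mp ((centralizer_tv_iff hv A.1).mp A.2))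
  · obtain ⟨g₀, z, hz, h0, rfl⟩ := exists_scale hg fun c _ => isSquare_unit c
    have hu : (g₀ : Matrix _ _ F)ᵀ *ᵥ u = u := by
      funext i
      have h1 : u ⬝ᵥ ((g₀ : Matrix _ _ F) *ᵥ Pi.single i 1) = u ⬝ᵥ Pi.single i 1 := by
        refine CharTwo.sq_inj.mp ?_
        rw [← hq, ← hq, Matrix.mulVec_mulVec, ← Matrix.vecMul_transpose, ← Matrix.dotProduct_mulVec,
          Matrix.mulVec_mulVec, ← Matrix.mul_assoc, h0]
      rw [Matrix.dotProduct_mulVec, dotProduct_single_one, dotProduct_single_one] at h1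
      rw [← h1, Matrix.mulVec_transpose]
    have hsp : (g₀ : Matrix _ _ F) ∈ symplecticGroup (Fin m) F := by
      rw [SymplecticGroup.mem_iff']
      have h1 := h0
      rw [altExtra_eq, Matrix.mul_add, Matrix.add_mul, Matrix.mul_vecMulVec, Matrix.vecMulVec_mul,
        ← Matrix.mulVec_transpose, ← hu_def, hu] at h1
      exact add_right_cancel h1
    exact ⟨⟨⟨g₀, hsp⟩, (centralizer_tv_iff hv _).mpr ((hfix ⟨g₀, hsp⟩).mpr hu)⟩, z, hz, by congr 1; exact Units.ext rfl⟩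
  · obtain ⟨c, hc⟩ := (Cfsg.Geo.mem_scalars_iff _).mp hA
    exact Subtype.ext (eq_one_of_scalar hc)

/-! ### Odd dimension -/

/-- The symmetric model in odd dimension. -/
def oneJ (m : ℕ) (F : Type*) [Field F] : Matrix (Unit ⊕ (Fin m ⊕ Fin m)) (Unit ⊕ (Fin m ⊕ Fin m)) F :=
  Matrix.fromBlocks 1 0 0 (Matrix.J (Fin m) F)

/-- Block diagonal embedding of the symplectic group. -/
noncomputable def spBlock : symplecticGroup (Fin m) F →* GL (Unit ⊕ (Fin m ⊕ Fin m)) F :=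
  MonoidHom.toHomUnits
    { toFun := fun A => Matrix.fromBlocks 1 0 0 A.1
      map_one' := by simp [Matrix.fromBlocks_one]
      map_mul' := fun A B => by simp [Matrix.fromBlocks_multiply] }

theorem simGroup_oneJ_equiv :
    Nonempty (Cfsg.projQuot (simGroup (oneJ m F)) ≃* symplecticGroup (Fin m) F) := by
  refine projQuot_equiv_of_hom _ spBlock (fun A => ⟨1, ?_⟩) (fun g hg => ?_) fun A hA => ?_
  · show (Matrix.fromBlocks 1 0 0 A.1)ᵀ * oneJ m F * Matrix.fromBlocks 1 0 0 A.1 = _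
    simp [oneJ, Matrix.fromBlocks_transpose, Matrix.fromBlocks_multiply, SymplecticGroup.mem_iff'.mp A.2]
  · obtain ⟨g₀, z, hz, h0, rfl⟩ := exists_scale hg fun c _ => isSquare_unit c
    have hblk : (g₀ : Matrix (Unit ⊕ (Fin m ⊕ Fin m)) (Unit ⊕ (Fin m ⊕ Fin m)) F) =
        Matrix.fromBlocks (g₀ : Matrix (Unit ⊕ (Fin m ⊕ Fin m)) (Unit ⊕ (Fin m ⊕ Fin m)) F).toBlocks₁₁ (g₀ : Matrix (Unit ⊕ (Fin m ⊕ Fin m)) (Unit ⊕ (Fin m ⊕ Fin m)) F).toBlocks₁₂
          (g₀ : Matrix (Unit ⊕ (Fin m ⊕ Fin m)) (Unit ⊕ (Fin m ⊕ Fin m)) F).toBlocks₂₁ (g₀ : Matrix (Unit ⊕ (Fin m ⊕ Fin m)) (Unit ⊕ (Fin m ⊕ Fin m)) F).toBlocks₂₂ := (Matrix.fromBlocks_toBlocks _).symm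
    have hq : ∀ x : Unit ⊕ (Fin m ⊕ Fin m) → F, x ⬝ᵥ (oneJ m F *ᵥ x) = x (Sum.inl ()) ^ 2 := fun x => by
      have h := form_self_zero (fun i => x (Sum.inr i))
      simp only [dotProduct, oneJ, Matrix.fromBlocks_mulVec, Fintype.sum_sum_type, Sum.elim_inl,
        Sum.elim_inr] at h ⊢
      simp only [Matrix.zero_mulVec, add_zero, zero_add, Matrix.one_mulVec, Function.comp_def,
        Finset.univ_unique, Finset.sum_singleton]
      linear_combination h
    have hrow : ∀ i, (g₀ : Matrix (Unit ⊕ (Fin m ⊕ Fin m)) (Unit ⊕ (Fin m ⊕ Fin m)) F) (Sum.inl ()) i = (1 : Matrix (Unit ⊕ (Fin m ⊕ Fin m)) (Unit ⊕ (Fin m ⊕ Fin m)) F) (Sum.inl ()) i := by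
      intro i
      refine CharTwo.sq_inj.mp ?_
      have h1 := hq ((g₀ : Matrix (Unit ⊕ (Fin m ⊕ Fin m)) (Unit ⊕ (Fin m ⊕ Fin m)) F) *ᵥ Pi.single i 1)
      rw [Matrix.mulVec_mulVec, ← Matrix.vecMul_transpose, ← Matrix.dotProduct_mulVec, Matrix.mulVec_mulVec,
        ← Matrix.mul_assoc, h0, hq] at h1
      rw [Matrix.vecMul_transpose, Matrix.mulVec_single_one, Matrix.col_apply] at h1
      rw [← h1]
      simp [Matrix.one_apply, Pi.single_apply]
    set A := (g₀ : Matrix (Unit ⊕ (Fin m ⊕ Fin m)) (Unit ⊕ (Fin m ⊕ Fin m)) F).toBlocks₂₂ with hA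
    set c := (g₀ : Matrix (Unit ⊕ (Fin m ⊕ Fin m)) (Unit ⊕ (Fin m ⊕ Fin m)) F).toBlocks₂₁ with hc
    have h11 : (g₀ : Matrix (Unit ⊕ (Fin m ⊕ Fin m)) (Unit ⊕ (Fin m ⊕ Fin m)) F).toBlocks₁₁ = 1 := by
      ext i j
      rw [Matrix.toBlocks₁₁, Matrix.of_apply, hrow]
      simp
    have h12 : (g₀ : Matrix (Unit ⊕ (Fin m ⊕ Fin m)) (Unit ⊕ (Fin m ⊕ Fin m)) F).toBlocks₁₂ = 0 := by
      ext i j
      rw [Matrix.toBlocks₁₂, Matrix.of_apply, hrow]
      simp
    rw [h11, h12] at hblk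
    rw [hblk, oneJ, Matrix.fromBlocks_transpose, Matrix.fromBlocks_multiply, Matrix.fromBlocks_multiply,
      Matrix.fromBlocks_inj] at h0
    simp only [Matrix.transpose_one, Matrix.transpose_zero, Matrix.mul_one, Matrix.one_mul, Matrix.mul_zero,
      Matrix.zero_mul, add_zero, zero_add] at h0
    obtain ⟨-, -, h21, h22⟩ := h0
    have hsp : A ∈ symplecticGroup (Fin m) F := SymplecticGroup.mem_iff'.mpr h22
    have hc0 : c = 0 := by
      have hu : IsUnit (Aᵀ * Matrix.J (Fin m) F).det := by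
        rw [Matrix.det_mul, Matrix.det_transpose, det_J, SymplecticGroup.det_eq_one hsp, mul_one]
        exact isUnit_one
      calc c = (Aᵀ * Matrix.J (Fin m) F)⁻¹ * ((Aᵀ * Matrix.J (Fin m) F) * c) := by
            rw [← Matrix.mul_assoc, Matrix.nonsing_inv_mul _ hu, Matrix.one_mul]
        _ = 0 := by rw [h21, Matrix.mul_zero]
    refine ⟨⟨A, hsp⟩, z, hz, ?_⟩
    congr 1
    apply Units.ext
    rw [hblk, hc0]
    rfl
  · obtain ⟨c, hc⟩ := (Cfsg.Geo.mem_scalars_iff _).mp hA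
    have h1 : (Matrix.fromBlocks 1 0 0 A.1 : Matrix (Unit ⊕ (Fin m ⊕ Fin m)) (Unit ⊕ (Fin m ⊕ Fin m)) F) = (c : F) • 1 := hc
    have hc1 : (c : F) = 1 := by
      have := congrFun (congrFun h1 (Sum.inl ())) (Sum.inl ())
      simpa using this.symm
    rw [hc1, one_smul, ← Matrix.fromBlocks_one, Matrix.fromBlocks_inj] at h1
    exact Subtype.ext h1.2.2.2

/-! ### The quadratic form -/

theorem plus_polar (x y : Fin m ⊕ Fin m → F) :
    Cfsg.quadFormPlus m F (x + y) =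
      Cfsg.quadFormPlus m F x + Cfsg.quadFormPlus m F y + Cfsg.sympForm m F x y := by
  rw [sympForm_eq_sum]
  simp only [Cfsg.quadFormPlus, Pi.add_apply, ← Finset.sum_add_distrib]
  refine Finset.sum_congr rfl fun i _ => ?_
  rw [CharTwo.sub_eq_add]
  ring

theorem plus_smul (a : F) (x : Fin m ⊕ Fin m → F) :
    Cfsg.quadFormPlus m F (a • x) = a ^ 2 * Cfsg.quadFormPlus m F x := by
  simp only [Cfsg.quadFormPlus, Pi.smul_apply, smul_eq_mul, Finset.mul_sum]
  exact Finset.sum_congr rfl fun i _ => by ring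

/-- A square root in characteristic two. -/
noncomputable def sqrt2 (a : F) : F := (FiniteField.isSquare_of_char_two (ringChar.eq F 2) a).choose

theorem sqrt2_sq (a : F) : sqrt2 a ^ 2 = a := by
  rw [pow_two]; exact (FiniteField.isSquare_of_char_two (ringChar.eq F 2) a).choose_spec.symm

/-- The top row completing a symplectic matrix to an isometry. -/
noncomputable def topRow (A : symplecticGroup (Fin m) F) : Matrix Unit (Fin m ⊕ Fin m) F :=
  Matrix.of fun _ j => sqrt2 (Cfsg.quadFormPlus m F (A • Pi.single j 1))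

theorem topRow_spec (A : symplecticGroup (Fin m) F) (w : Fin m ⊕ Fin m → F) :
    (topRow A *ᵥ w) () ^ 2 = Cfsg.quadFormPlus m F w + Cfsg.quadFormPlus m F (A • w) := by
  let D : (Fin m ⊕ Fin m → F) →+ F :=
    AddMonoidHom.mk' (fun w => (topRow A *ᵥ w) () ^ 2 + (Cfsg.quadFormPlus m F w + Cfsg.quadFormPlus m F (A • w)))
      fun x y => by
        simp only [Matrix.mulVec_add, Pi.add_apply, CharTwo.add_sq, smul_add, plus_polar, form_smul_smul]
        linear_combination (CharTwo.add_self_eq_zero (Cfsg.sympForm m F x y))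
  have hD : ∀ (a : F) x, D (a • x) = a ^ 2 * D x := fun a x => by
    simp only [D, AddMonoidHom.mk'_apply, Matrix.mulVec_smul, Pi.smul_apply, smul_eq_mul, plus_smul,
      smul_vec_eq]
    ring
  have hbase : ∀ j, D (Pi.single j 1) = 0 := fun j => by
    simp only [D, AddMonoidHom.mk'_apply, Matrix.mulVec_single_one, Matrix.col_apply, topRow, Matrix.of_apply,
      sqrt2_sq]
    have h0 : Cfsg.quadFormPlus m F (Pi.single j 1) = 0 := by
      refine Finset.sum_eq_zero fun i _ => ?_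
      rcases j with j | j <;> simp [Pi.single_apply]
    rw [h0, zero_add, CharTwo.add_self_eq_zero]
  have h0 : D w = 0 := by
    rw [pi_eq_sum_univ' w, map_sum]
    exact Finset.sum_eq_zero fun j _ => by rw [hD, hbase, mul_zero]
  exact CharTwo.add_eq_zero.mp h0

theorem topRow_unique {A : symplecticGroup (Fin m) F} {l : Matrix Unit (Fin m ⊕ Fin m) F}
    (h : ∀ w, (l *ᵥ w) () ^ 2 = Cfsg.quadFormPlus m F w + Cfsg.quadFormPlus m F (A • w)) : l = topRow A := by
  ext u j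
  have h1 := (h (Pi.single j 1)).trans (topRow_spec A (Pi.single j 1)).symm
  simpa using CharTwo.sq_inj.mp h1

theorem topRow_mul (A B : symplecticGroup (Fin m) F) : topRow (A * B) = topRow B + topRow A * B.1 := by
  refine (topRow_unique fun w => ?_).symm
  rw [Matrix.add_mulVec, Pi.add_apply, CharTwo.add_sq, ← Matrix.mulVec_mulVec, ← smul_vec_eq, topRow_spec,
    topRow_spec, mul_smul]
  linear_combination (CharTwo.add_self_eq_zero (Cfsg.quadFormPlus m F (B • w)))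

/-- The isometries of `quadFormOdd` attached to symplectic matrices. -/
noncomputable def spQuad : symplecticGroup (Fin m) F →* GL (Unit ⊕ (Fin m ⊕ Fin m)) F :=
  MonoidHom.toHomUnits
    { toFun := fun A => Matrix.fromBlocks 1 (topRow A) 0 A.1
      map_one' := by
        rw [show topRow (1 : symplecticGroup (Fin m) F) = 0 from
          (topRow_unique fun w => by simp [CharTwo.add_self_eq_zero]).symm]
        simp [Matrix.fromBlocks_one]
      map_mul' := fun A B => by simp [Matrix.fromBlocks_multiply, topRow_mul] }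

theorem quadOdd_eq (x : Unit ⊕ (Fin m ⊕ Fin m) → F) :
    Cfsg.quadFormOdd m F x = x (Sum.inl ()) ^ 2 + Cfsg.quadFormPlus m F (fun i => x (Sum.inr i)) := rfl

theorem quadOdd_spQuad (A : symplecticGroup (Fin m) F) (v : Unit ⊕ (Fin m ⊕ Fin m) → F) :
    Cfsg.quadFormOdd m F ((spQuad A : Matrix _ _ F) *ᵥ v) = Cfsg.quadFormOdd m F v := by
  show Cfsg.quadFormOdd m F (Matrix.fromBlocks 1 (topRow A) 0 A.1 *ᵥ v) = _
  rw [Matrix.fromBlocks_mulVec, quadOdd_eq, quadOdd_eq]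
  simp only [Sum.elim_inl, Sum.elim_inr, Pi.add_apply, Matrix.one_mulVec, Matrix.zero_mulVec, zero_add,
    CharTwo.add_sq, Function.comp_def]
  rw [← smul_vec_eq, topRow_spec]
  linear_combination (CharTwo.add_self_eq_zero (Cfsg.quadFormPlus m F (A • fun i => v (Sum.inr i))))

theorem quadOdd_smul (a : F) (x : Unit ⊕ (Fin m ⊕ Fin m) → F) :
    Cfsg.quadFormOdd m F (a • x) = a ^ 2 * Cfsg.quadFormOdd m F x := by
  rw [quadOdd_eq, quadOdd_eq, show (fun i => (a • x) (Sum.inr i)) = a • fun i => x (Sum.inr i) from rfl, plus_smul,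
    Pi.smul_apply, smul_eq_mul]
  ring

theorem quadOdd_polar (x y : Unit ⊕ (Fin m ⊕ Fin m) → F) :
    Cfsg.quadFormOdd m F (x + y) = Cfsg.quadFormOdd m F x + Cfsg.quadFormOdd m F y +
      Cfsg.sympForm m F (fun i => x (Sum.inr i)) (fun i => y (Sum.inr i)) := by
  rw [quadOdd_eq, quadOdd_eq, quadOdd_eq,
    show (fun i => (x + y) (Sum.inr i)) = (fun i => x (Sum.inr i)) + fun i => y (Sum.inr i) from rfl, plus_polar,
    Pi.add_apply, CharTwo.add_sq]
  ring

theorem quadSim_odd_equiv :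
    Nonempty (Cfsg.PGO F (Cfsg.quadFormOdd m F) ≃* symplecticGroup (Fin m) F) := by
  refine projQuot_equiv_of_hom _ spQuad
    (fun A => ⟨1, fun v => by rw [quadOdd_spQuad, Units.val_one, one_mul]⟩) (fun g hg => ?_) fun A hA => ?_
  · obtain ⟨c, hc⟩ := hg
    obtain ⟨s, rfl⟩ := isSquare_unit c
    let z : GL (Unit ⊕ (Fin m ⊕ Fin m)) F :=
      Units.map (Matrix.scalar _ : F →+* Matrix (Unit ⊕ (Fin m ⊕ Fin m)) _ F).toMonoidHom s
    set g₀ := g * z⁻¹ with hg₀
    have h0 : ∀ v, Cfsg.quadFormOdd m F ((g₀ : Matrix (Unit ⊕ (Fin m ⊕ Fin m)) (Unit ⊕ (Fin m ⊕ Fin m)) F) *ᵥ v) = Cfsg.quadFormOdd m F v := by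
      intro v
      have hz : ((z⁻¹ : GL (Unit ⊕ (Fin m ⊕ Fin m)) F) : Matrix (Unit ⊕ (Fin m ⊕ Fin m)) (Unit ⊕ (Fin m ⊕ Fin m)) F) =
          ((s⁻¹ : Fˣ) : F) • (1 : Matrix _ _ F) := by
        show Matrix.scalar _ ((s⁻¹ : Fˣ) : F) = _
        rw [Matrix.scalar_apply, Matrix.smul_one_eq_diagonal]
      rw [hg₀, Units.val_mul, hz, Matrix.mul_smul, Matrix.mul_one, Matrix.smul_mulVec, quadOdd_smul, hc,
        ← mul_assoc, Units.val_mul]
      rw [show ((s⁻¹ : Fˣ) : F) ^ 2 * ((s : F) * (s : F)) = 1 by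
        rw [pow_two, mul_mul_mul_comm, Units.inv_mul, one_mul], one_mul]
    have hpol : ∀ x y, Cfsg.sympForm m F (fun i => ((g₀ : Matrix (Unit ⊕ (Fin m ⊕ Fin m)) (Unit ⊕ (Fin m ⊕ Fin m)) F) *ᵥ x) (Sum.inr i))
        (fun i => ((g₀ : Matrix (Unit ⊕ (Fin m ⊕ Fin m)) (Unit ⊕ (Fin m ⊕ Fin m)) F) *ᵥ y) (Sum.inr i)) =
        Cfsg.sympForm m F (fun i => x (Sum.inr i)) (fun i => y (Sum.inr i)) := by
      intro x y
      have h1 := h0 (x + y)
      rw [Matrix.mulVec_add, quadOdd_polar, quadOdd_polar, h0, h0] at h1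
      exact add_left_cancel h1
    let e0 : Unit ⊕ (Fin m ⊕ Fin m) → F := Pi.single (Sum.inl ()) 1
    have hrad : (fun i => ((g₀ : Matrix (Unit ⊕ (Fin m ⊕ Fin m)) (Unit ⊕ (Fin m ⊕ Fin m)) F) *ᵥ e0) (Sum.inr i)) = 0 := by
      refine eq_zero_of_forall_form fun w => ?_
      obtain ⟨y, hy⟩ : ∃ y, (g₀ : Matrix (Unit ⊕ (Fin m ⊕ Fin m)) (Unit ⊕ (Fin m ⊕ Fin m)) F) *ᵥ y = Sum.elim (fun _ => 0) w :=
        ⟨((g₀⁻¹ : GL (Unit ⊕ (Fin m ⊕ Fin m)) F) : Matrix (Unit ⊕ (Fin m ⊕ Fin m)) (Unit ⊕ (Fin m ⊕ Fin m)) F) *ᵥ Sum.elim (fun _ => 0) w,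
          by rw [Matrix.mulVec_mulVec, ← Units.val_mul, mul_inv_cancel, Units.val_one, Matrix.one_mulVec]⟩
      have h1 := hpol e0 y
      rw [hy] at h1
      rw [show (fun i => Sum.elim (fun _ : Unit => (0 : F)) w (Sum.inr i)) = w from rfl,
        show (fun i => e0 (Sum.inr i)) = 0 from funext fun i => by simp [e0], form_zero_left] at h1
      exact h1
    have h21 : (g₀ : Matrix (Unit ⊕ (Fin m ⊕ Fin m)) (Unit ⊕ (Fin m ⊕ Fin m)) F).toBlocks₂₁ = 0 := by
      ext i j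
      have h1 := congrFun hrad i
      simpa [e0, Matrix.toBlocks₂₁] using h1
    have h11 : (g₀ : Matrix (Unit ⊕ (Fin m ⊕ Fin m)) (Unit ⊕ (Fin m ⊕ Fin m)) F).toBlocks₁₁ = 1 := by
      ext i j
      have h1 := h0 e0
      rw [quadOdd_eq, quadOdd_eq, hrad, show (fun i => e0 (Sum.inr i)) = 0 from funext fun i => by simp [e0]] at h1
      simp only [add_left_inj] at h1
      have h2 := CharTwo.sq_inj.mp h1
      simpa [e0, Matrix.toBlocks₁₁] using h2
    have hblk : (g₀ : Matrix (Unit ⊕ (Fin m ⊕ Fin m)) (Unit ⊕ (Fin m ⊕ Fin m)) F) =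
        Matrix.fromBlocks 1 (g₀ : Matrix (Unit ⊕ (Fin m ⊕ Fin m)) (Unit ⊕ (Fin m ⊕ Fin m)) F).toBlocks₁₂ 0 (g₀ : Matrix (Unit ⊕ (Fin m ⊕ Fin m)) (Unit ⊕ (Fin m ⊕ Fin m)) F).toBlocks₂₂ := by
      conv_lhs => rw [← Matrix.fromBlocks_toBlocks (g₀ : Matrix (Unit ⊕ (Fin m ⊕ Fin m)) (Unit ⊕ (Fin m ⊕ Fin m)) F), h11, h21]
    set A := (g₀ : Matrix (Unit ⊕ (Fin m ⊕ Fin m)) (Unit ⊕ (Fin m ⊕ Fin m)) F).toBlocks₂₂ with hA
    set l := (g₀ : Matrix (Unit ⊕ (Fin m ⊕ Fin m)) (Unit ⊕ (Fin m ⊕ Fin m)) F).toBlocks₁₂ with hl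
    have hmul : ∀ w, (g₀ : Matrix (Unit ⊕ (Fin m ⊕ Fin m)) (Unit ⊕ (Fin m ⊕ Fin m)) F) *ᵥ Sum.elim (fun _ => 0) w = Sum.elim (l *ᵥ w) (A *ᵥ w) := by
      intro w
      rw [hblk, Matrix.fromBlocks_mulVec]
      simp [Function.comp_def]
      rw [show (fun _ : Unit => (0 : F)) = 0 from rfl, zero_add]
    have hsp : A ∈ symplecticGroup (Fin m) F := by
      refine mem_of_form_mulVec fun u v => ?_
      have h1 := hpol (Sum.elim (fun _ => 0) u) (Sum.elim (fun _ => 0) v)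
      rw [hmul, hmul] at h1
      exact h1
    refine ⟨⟨A, hsp⟩, z, ⟨s, rfl⟩, ?_⟩
    have hl' : l = topRow ⟨A, hsp⟩ := by
      refine topRow_unique fun w => ?_
      have h1 := h0 (Sum.elim (fun _ => 0) w)
      rw [hmul, quadOdd_eq, quadOdd_eq] at h1
      simp only [Sum.elim_inl, Sum.elim_inr] at h1
      rw [smul_vec_eq]
      simp only [ne_eq, OfNat.ofNat_ne_zero, not_false_eq_true, zero_pow, zero_add] at h1
      rw [← h1]
      linear_combination -(CharTwo.add_self_eq_zero (Cfsg.quadFormPlus m F (A *ᵥ w)))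
    rw [show g = g₀ * z by rw [hg₀, inv_mul_cancel_right]]
    congr 1
    apply Units.ext
    show (g₀ : Matrix (Unit ⊕ (Fin m ⊕ Fin m)) (Unit ⊕ (Fin m ⊕ Fin m)) F) = Matrix.fromBlocks 1 (topRow ⟨A, hsp⟩) 0 A
    rw [← hl']
    exact hblk
  · obtain ⟨c, hc⟩ := (Cfsg.Geo.mem_scalars_iff _).mp hA
    have h1 : (Matrix.fromBlocks 1 (topRow A) 0 A.1 : Matrix (Unit ⊕ (Fin m ⊕ Fin m)) (Unit ⊕ (Fin m ⊕ Fin m)) F) =
        (c : F) • 1 := hc
    have hc1 : (c : F) = 1 := by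
      have := congrFun (congrFun h1 (Sum.inl ())) (Sum.inl ())
      simpa using this.symm
    rw [hc1, one_smul, ← Matrix.fromBlocks_one, Matrix.fromBlocks_inj] at h1
    exact Subtype.ext h1.2.2.2

end CfsgLib.AutPSL
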