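import Mathlib
import Cfsg.Agent.Lib.AutPSL.Graph
import Cfsg.Agent.Lib.AutPSL.GraphCharTwo

/-!
Classes of involutory graph automorphisms of `PSL_n` and their centralisers.
-/

set_option autoImplicit false

namespace CfsgLib.AutPSL

open Matrix
open scoped MatrixGroups

variable {n : ℕ} {F : Type*} [Field F] [Fintype F]

omit [Fintype F] in
theorem det_smul_congr {ι : Type} [Fintype ι] [DecidableEq ι] (c : F) (G : Matrix ι ι F) :
    (c • G).det = c ^ Fintype.card ι * G.det := Matrix.det_smul G c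

omit [Fintype F] in
theorem diag_zero_of_skew (h2 : (2 : F) ≠ 0) {ι : Type} [Fintype ι] [DecidableEq ι] {M : Matrix ι ι F}
    (h : Mᵀ = -M) (i : ι) : M i i = 0 := by
  have h1 : M i i = -M i i := congrFun (congrFun h i) i
  exact (mul_eq_zero.mp (show (2 : F) * M i i = 0 by linear_combination h1)).resolve_left h2

omit [Fintype F] in
theorem not_skew_odd (h2 : (2 : F) ≠ 0) (hn : Odd n) {M : Matrix (Fin n) (Fin n) F} (hdet : M.det ≠ 0) :
    Mᵀ ≠ -M := by
  intro h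
  have h1 := congrArg Matrix.det h
  rw [Matrix.det_transpose, Matrix.det_neg, Fintype.card_fin, hn.neg_one_pow] at h1
  exact hdet ((mul_eq_zero.mp (show (2 : F) * M.det = 0 by linear_combination h1)).resolve_left h2)

omit [Fintype F] in
theorem two_eq_zero [CharP F 2] : (2 : F) = 0 := CharTwo.two_eq_zero

omit [Fintype F] in
theorem Congr.smul_left {ι κ : Type} [Fintype ι] [DecidableEq ι] [Fintype κ] [DecidableEq κ]
    {M : Matrix ι ι F} {N : Matrix κ κ F} {c : F} (hc : c ≠ 0) (h : Congr M (c • N)) : Congr (c⁻¹ • M) N := by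
  have := h.smul c⁻¹
  rwa [smul_smul, inv_mul_cancel₀ hc, one_smul] at this

/-- Two graph automorphisms with the same model are conjugate. -/
theorem isConjUnder_of_model (hn : 2 ≤ n) {ι : Type} [Fintype ι] [DecidableEq ι] {B C : GL (Fin n) F}
    {G : Matrix ι ι F} {b c : F} (hb : b ≠ 0) (hc : c ≠ 0)
    (hB : Congr (B : Matrix (Fin n) (Fin n) F) (b • G)) (hC : Congr (C : Matrix (Fin n) (Fin n) F) (c • G)) :
    Cfsg.IsConjUnder (Cfsg.inndiagPSL n F) (graphAut B) (graphAut C) := by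
  refine (isConjUnder_graphAut hn).mpr ⟨b * c⁻¹, mul_ne_zero hb (inv_ne_zero hc), hB.trans ?_⟩
  have h := ((hC.smul_left hc).symm).smul b
  rwa [smul_smul] at h

/-! ### Odd dimension -/

theorem odd_model_odd_char (h2 : (2 : F) ≠ 0) {m : ℕ} (hnm : n = 2 * m + 1) {B : GL (Fin n) F}
    (hB : (B : Matrix (Fin n) (Fin n) F)ᵀ = (B : Matrix (Fin n) (Fin n) F) ∨
      (B : Matrix (Fin n) (Fin n) F)ᵀ = -(B : Matrix (Fin n) (Fin n) F)) :
    ∃ c : F, c ≠ 0 ∧ Congr (B : Matrix (Fin n) (Fin n) F) (c • oddMat m F) := by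
  have hd := Matrix.GeneralLinearGroup.det_ne_zero B
  have hsym := hB.resolve_right (not_skew_odd h2 ⟨m, hnm⟩ hd)
  have hG : (oddMat m F).det ≠ 0 := by
    rw [oddMat_det]; exact mul_ne_zero h2 (pow_ne_zero _ (neg_ne_zero.mpr one_ne_zero))
  refine ⟨(B : Matrix (Fin n) (Fin n) F).det * (oddMat m F).det, mul_ne_zero hd hG, ?_⟩
  refine congr_symmetric h2 (by simp; omega) hsym (by rw [Matrix.transpose_smul, oddMat_transpose]) hd ?_ ?_
  · rw [det_smul_congr]; exact mul_ne_zero (pow_ne_zero _ (mul_ne_zero hd hG)) hG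
  · rw [det_smul_congr, show Fintype.card (Unit ⊕ (Fin m ⊕ Fin m)) = 2 * m + 1 by simp; omega]
    exact ⟨((B : Matrix (Fin n) (Fin n) F).det * (oddMat m F).det) ^ (m + 1), by ring⟩

theorem odd_model_even_char [CharP F 2] {m : ℕ} (hnm : n = 2 * m + 1) {B : GL (Fin n) F}
    (hB : (B : Matrix (Fin n) (Fin n) F)ᵀ = (B : Matrix (Fin n) (Fin n) F) ∨
      (B : Matrix (Fin n) (Fin n) F)ᵀ = -(B : Matrix (Fin n) (Fin n) F)) :
    Congr (B : Matrix (Fin n) (Fin n) F) ((1 : F) • oneJ m F) := by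
  have hneg : -(B : Matrix (Fin n) (Fin n) F) = (B : Matrix (Fin n) (Fin n) F) := by
    ext i j; exact CharTwo.neg_eq _
  rw [hneg, or_self] at hB
  have hd := Matrix.GeneralLinearGroup.det_ne_zero B
  have hna : ∃ i, (B : Matrix (Fin n) (Fin n) F) i i ≠ 0 := by
    by_contra! h
    obtain ⟨k, hk, -⟩ := congr_alternating h (by rw [hneg, hB]) hd
    simp at hk; omega
  have hJ : (oneJ m F)ᵀ = oneJ m F := by
    rw [oneJ, Matrix.fromBlocks_transpose, J_transpose_char_two, Matrix.transpose_one, Matrix.transpose_zero,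
      Matrix.transpose_zero]
  rw [one_smul]
  refine (congr_one_char_two (κ := Unit ⊕ (Fin m ⊕ Fin m)) hB hd hna (by simp; omega)).trans
    (congr_one_char_two hJ ?_ ⟨Sum.inl (), by simp [oneJ]⟩ rfl).symm
  rw [oneJ, Matrix.det_fromBlocks_zero₂₁, det_J, Matrix.det_one, one_mul]
  exact one_ne_zero

theorem graph_odd_dim {m : ℕ} (hn : 3 ≤ n) (hnm : n = 2 * m + 1) {γ γ' : MulAut (PSLg n F)}
    (hγ : Cfsg.IsGraphAutClassPSL γ) (hγ2 : orderOf γ = 2) (hγ' : Cfsg.IsGraphAutClassPSL γ') (hγ'2 : orderOf γ' = 2) :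
    Nonempty (↥(Cfsg.inndiagPSL n F ⊓ Subgroup.centralizer {γ}) ≃* Cfsg.PGO F (Cfsg.quadFormOdd m F)) ∧
      Cfsg.IsConjUnder (Cfsg.inndiagPSL n F) γ γ' := by
  obtain ⟨B, rfl, hB⟩ := graphAut_normal_form hn hγ hγ2
  obtain ⟨C, rfl, hC⟩ := graphAut_normal_form hn hγ' hγ'2
  have hn2 : 2 ≤ n := by omega
  by_cases h2 : (2 : F) = 0
  · have : CharP F 2 := CharTwo.of_one_ne_zero_of_two_eq_zero one_ne_zero h2
    refine ⟨?_, isConjUnder_of_model hn2 one_ne_zero one_ne_zero (odd_model_even_char hnm hB) (odd_model_even_char hnm hC)⟩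
    obtain ⟨e₁⟩ := centralizer_graphAut_model hn2 one_ne_zero (odd_model_even_char hnm hB)
    obtain ⟨e₂⟩ := simGroup_oneJ_equiv (F := F) (m := m)
    obtain ⟨e₃⟩ := quadSim_odd_equiv (F := F) (m := m)
    exact ⟨e₁.trans (e₂.trans e₃.symm)⟩
  · obtain ⟨b, hb, hB'⟩ := odd_model_odd_char h2 hnm hB
    obtain ⟨c, hc, hC'⟩ := odd_model_odd_char h2 hnm hC
    refine ⟨?_, isConjUnder_of_model hn2 hb hc hB' hC'⟩
    show Nonempty (_ ≃* Cfsg.projQuot (Cfsg.Geo.quadSimilarityGroup _))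
    rw [quadSimilarityGroup_eq h2 (oddMat_transpose m) (oddMat_quad m)]
    exact centralizer_graphAut_model hn2 hb hB'

/-! ### Even dimension -/

/-- A matrix on another index type as an element of `GL_n`. -/
noncomputable def toGLn {ι : Type} [Fintype ι] [DecidableEq ι] (G : Matrix ι ι F) (hG : G.det ≠ 0)
    (hcard : Fintype.card ι = n) : GL (Fin n) F :=
  Matrix.GeneralLinearGroup.mkOfDetNeZero (G.submatrix (Fintype.equivFinOfCardEq hcard).symm (Fintype.equivFinOfCardEq hcard).symm)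
    (by rwa [Matrix.det_submatrix_equiv_self])

omit [Fintype F] in
theorem toGLn_congr {ι : Type} [Fintype ι] [DecidableEq ι] (G : Matrix ι ι F) (hG : G.det ≠ 0)
    (hcard : Fintype.card ι = n) : Congr (toGLn G hG hcard : Matrix (Fin n) (Fin n) F) ((1 : F) • G) := by
  rw [one_smul]
  exact (congr_submatrix G (Fintype.equivFinOfCardEq hcard).symm).symm

omit [Fintype F] in
theorem toGLn_transpose {ι : Type} [Fintype ι] [DecidableEq ι] {G : Matrix ι ι F} (hG : G.det ≠ 0)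
    (hcard : Fintype.card ι = n) {c : F} (h : Gᵀ = c • G) :
    (toGLn G hG hcard : Matrix (Fin n) (Fin n) F)ᵀ = c • (toGLn G hG hcard : Matrix (Fin n) (Fin n) F) := by
  show (G.submatrix _ _)ᵀ = c • G.submatrix _ _
  rw [Matrix.transpose_submatrix, h]
  rfl

theorem exists_nonsquare (h2 : (2 : F) ≠ 0) : ∃ ν : F, ¬ IsSquare ν := by
  refine FiniteField.exists_nonsquare fun h => h2 ?_
  have : CharP F 2 := h ▸ ringChar.charP F
  exact CharTwo.two_eq_zero

omit [Fintype F] in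
theorem aniso_of_nonsquare {ν : F} (hν : ¬ IsSquare ν) (z₁ z₂ : F) (h : z₁ ^ 2 + 0 * z₁ * z₂ + -ν * z₂ ^ 2 = 0) :
    z₁ = 0 ∧ z₂ = 0 := by
  by_cases h2 : z₂ = 0
  · subst h2
    exact ⟨by simpa using h, rfl⟩
  · exact absurd ⟨z₁ / z₂, by field_simp; linear_combination -h⟩ hν

theorem isSquare_mul_of_not (h2 : (2 : F) ≠ 0) {a b : F} (ha : a ≠ 0) (hb : b ≠ 0) (h : ¬ IsSquare a)
    (h' : ¬ IsSquare b) : IsSquare (a * b) :=
  (FormsDisc.isSquare_mul_iff_of_odd h2 ha hb).mpr ⟨fun x => absurd x h, fun x => absurd x h'⟩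

omit [Fintype F] in
theorem minusMat_det' {m : ℕ} (hm : 1 ≤ m) (ν : F) :
    (minusMat (m - 1) F (-ν)).det = (-1) ^ m * ν * 2 ^ 2 := by
  rw [minusMat_det]
  obtain ⟨k, rfl⟩ := Nat.exists_eq_add_of_le hm
  rw [Nat.add_sub_cancel_left, pow_add]
  ring

/-- The three types in even dimension, odd characteristic. -/
theorem even_model_odd_char (h2 : (2 : F) ≠ 0) {m : ℕ} (hm : 1 ≤ m) (hnm : n = 2 * m) {ν : F} (hν : ¬ IsSquare ν)
    {B : GL (Fin n) F}
    (hB : (B : Matrix (Fin n) (Fin n) F)ᵀ = (B : Matrix (Fin n) (Fin n) F) ∨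
      (B : Matrix (Fin n) (Fin n) F)ᵀ = -(B : Matrix (Fin n) (Fin n) F)) :
    Congr (B : Matrix (Fin n) (Fin n) F) ((1 : F) • Matrix.J (Fin m) F) ∨
      ((B : Matrix (Fin n) (Fin n) F)ᵀ = (B : Matrix (Fin n) (Fin n) F) ∧
        Congr (B : Matrix (Fin n) (Fin n) F) ((1 : F) • hypMat m F)) ∨
      ((B : Matrix (Fin n) (Fin n) F)ᵀ = (B : Matrix (Fin n) (Fin n) F) ∧
        Congr (B : Matrix (Fin n) (Fin n) F) ((1 : F) • minusMat (m - 1) F (-ν))) := by
  have hd := Matrix.GeneralLinearGroup.det_ne_zero B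
  simp only [one_smul]
  rcases hB with hsym | hskew
  · right
    have hP : (hypMat m F).det ≠ 0 := by rw [hypMat_det]; exact pow_ne_zero _ (neg_ne_zero.mpr one_ne_zero)
    by_cases hsq : IsSquare ((B : Matrix (Fin n) (Fin n) F).det * (hypMat m F).det)
    · exact Or.inl ⟨hsym, congr_symmetric h2 (by simp; omega) hsym (hypMat_transpose m) hd hP hsq⟩
    · refine Or.inr ⟨hsym, congr_symmetric h2 (by simp; omega) hsym (minusMat_transpose _ _) hd ?_ ?_⟩
      · rw [minusMat_det' hm]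
        exact mul_ne_zero (mul_ne_zero (pow_ne_zero _ (neg_ne_zero.mpr one_ne_zero)) (by rintro rfl; exact hν ⟨0, by simp⟩))
          (pow_ne_zero _ h2)
      · rw [minusMat_det' hm, ← mul_assoc, ← mul_assoc, FormsDisc.isSquare_mul_sq_iff h2]
        rw [hypMat_det] at hsq
        exact isSquare_mul_of_not h2 (mul_ne_zero hd (pow_ne_zero _ (neg_ne_zero.mpr one_ne_zero)))
          (by rintro rfl; exact hν ⟨0, by simp⟩) hsq hν
  · obtain ⟨k, hk, h⟩ := congr_alternating (diag_zero_of_skew h2 hskew) hskew hd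
    obtain rfl : k = m := by simp at hk; omega
    exact Or.inl h

theorem graph_even_dim_odd_char (hodd : Odd (Fintype.card F)) {m : ℕ} (hm : 2 ≤ m) (hnm : n = 2 * m) :
    ∃ (γ₁ γ₂ γ₃ : MulAut (PSLg n F)) (a b : F),
      (∀ z₁ z₂ : F, z₁ ^ 2 + a * z₁ * z₂ + b * z₂ ^ 2 = 0 → z₁ = 0 ∧ z₂ = 0) ∧
      Cfsg.IsGraphAutClassPSL γ₁ ∧ orderOf γ₁ = 2 ∧ Cfsg.IsGraphAutClassPSL γ₂ ∧ orderOf γ₂ = 2 ∧
      Cfsg.IsGraphAutClassPSL γ₃ ∧ orderOf γ₃ = 2 ∧ ¬ Cfsg.IsConjUnder (Cfsg.inndiagPSL n F) γ₁ γ₂ ∧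
      ¬ Cfsg.IsConjUnder (Cfsg.inndiagPSL n F) γ₁ γ₃ ∧ ¬ Cfsg.IsConjUnder (Cfsg.inndiagPSL n F) γ₂ γ₃ ∧
      (∀ γ : MulAut (PSLg n F), Cfsg.IsGraphAutClassPSL γ → orderOf γ = 2 →
        Cfsg.IsConjUnder (Cfsg.inndiagPSL n F) γ₁ γ ∨ Cfsg.IsConjUnder (Cfsg.inndiagPSL n F) γ₂ γ ∨
          Cfsg.IsConjUnder (Cfsg.inndiagPSL n F) γ₃ γ) ∧
      Nonempty (↥(Cfsg.inndiagPSL n F ⊓ Subgroup.centralizer {γ₁}) ≃* Cfsg.PGSp m F) ∧
      Nonempty (↥(Cfsg.inndiagPSL n F ⊓ Subgroup.centralizer {γ₂}) ≃* Cfsg.PGO F (Cfsg.quadFormPlus m F)) ∧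
      Nonempty (↥(Cfsg.inndiagPSL n F ⊓ Subgroup.centralizer {γ₃}) ≃*
        Cfsg.PGO F (Cfsg.quadFormMinus (m - 1) F a b)) := by
  have h2 : (2 : F) ≠ 0 := FormsDisc.two_ne_zero_of_card_odd rfl hodd
  obtain ⟨ν, hν⟩ := exists_nonsquare h2
  have hν0 : ν ≠ 0 := by rintro rfl; exact hν ⟨0, by simp⟩
  have hn3 : 3 ≤ n := by omega
  have hn2 : 2 ≤ n := by omega
  have hP : (hypMat m F).det ≠ 0 := by rw [hypMat_det]; exact pow_ne_zero _ (neg_ne_zero.mpr one_ne_zero)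
  have hM : (minusMat (m - 1) F (-ν)).det ≠ 0 := by
    rw [minusMat_det' (by omega)]
    exact mul_ne_zero (mul_ne_zero (pow_ne_zero _ (neg_ne_zero.mpr one_ne_zero)) hν0) (pow_ne_zero _ h2)
  have hJ : (Matrix.J (Fin m) F).det ≠ 0 := by rw [det_J]; exact one_ne_zero
  let B₁ : GL (Fin n) F := toGLn _ hJ (by simp; omega)
  let B₂ : GL (Fin n) F := toGLn _ hP (by simp; omega)
  let B₃ : GL (Fin n) F := toGLn _ hM (by simp; omega)
  have h₁ : (B₁ : Matrix (Fin n) (Fin n) F)ᵀ = -(B₁ : Matrix (Fin n) (Fin n) F) :=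
    (toGLn_transpose hJ _ (c := -1) (by rw [Matrix.J_transpose, neg_one_smul])).trans (neg_one_smul _ _)
  have h₂ : (B₂ : Matrix (Fin n) (Fin n) F)ᵀ = (B₂ : Matrix (Fin n) (Fin n) F) :=
    (toGLn_transpose hP _ (c := 1) (by rw [hypMat_transpose, one_smul])).trans (one_smul _ _)
  have h₃ : (B₃ : Matrix (Fin n) (Fin n) F)ᵀ = (B₃ : Matrix (Fin n) (Fin n) F) :=
    (toGLn_transpose hM _ (c := 1) (by rw [minusMat_transpose, one_smul])).trans (one_smul _ _)
  have hskew_sym : ∀ C : GL (Fin n) F, (C : Matrix (Fin n) (Fin n) F)ᵀ = (C : Matrix (Fin n) (Fin n) F) →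
      ¬ Cfsg.IsConjUnder (Cfsg.inndiagPSL n F) (graphAut B₁) (graphAut C) := by
    intro C hC h
    obtain ⟨c, hc, hcg⟩ := (isConjUnder_graphAut hn2).mp h
    have h' := hcg.transpose_eq_smul (c := -1) (by rw [h₁, neg_one_smul])
    rw [Matrix.transpose_smul, hC, smul_smul, neg_one_mul, neg_smul, eq_neg_iff_add_eq_zero, ← two_smul F,
      smul_smul, smul_eq_zero] at h'
    rcases h' with h' | h'
    · exact mul_ne_zero h2 hc h'
    · have : Nonempty (Fin n) := ⟨⟨0, by omega⟩⟩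
      refine Matrix.GeneralLinearGroup.det_ne_zero C ?_
      rw [h']
      exact Matrix.det_zero
  refine ⟨graphAut B₁, graphAut B₂, graphAut B₃, 0, -ν, aniso_of_nonsquare hν,
    isGraphAutClassPSL_iff.mpr ⟨hn3, B₁, rfl⟩, orderOf_graphAut hn3 (Or.inr h₁),
    isGraphAutClassPSL_iff.mpr ⟨hn3, B₂, rfl⟩, orderOf_graphAut hn3 (Or.inl h₂),
    isGraphAutClassPSL_iff.mpr ⟨hn3, B₃, rfl⟩, orderOf_graphAut hn3 (Or.inl h₃),
    hskew_sym _ h₂, hskew_sym _ h₃, ?_, ?_, ?_, ?_, ?_⟩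
  · intro h
    obtain ⟨c, hc, hcg⟩ := (isConjUnder_graphAut hn2).mp h
    have hcg' := ((toGLn_congr _ hP (by simp; omega)).symm.trans hcg).trans
      ((toGLn_congr _ hM (by simp; omega)).smul c)
    rw [smul_smul, mul_one, one_smul] at hcg'
    obtain ⟨d, hd, hdd⟩ := hcg'.det_eq_sq (Fintype.equivOfCardEq (by simp; omega))
    rw [det_smul_congr, minusMat_det' (by omega), hypMat_det,
      show Fintype.card ((Fin (m - 1) ⊕ Fin (m - 1)) ⊕ Fin 2) = 2 * m by simp; omega] at hdd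
    refine hν ⟨d / (2 * c ^ m), ?_⟩
    have he : ((-1 : F) ^ m) ≠ 0 := pow_ne_zero _ (neg_ne_zero.mpr one_ne_zero)
    have h' : (c ^ m) ^ 2 * ν * 2 ^ 2 = d ^ 2 := mul_left_cancel₀ he (by linear_combination hdd)
    have hcm : c ^ m ≠ 0 := pow_ne_zero _ hc
    field_simp
    linear_combination h'
  · intro γ hγ hγ2
    obtain ⟨B, rfl, hB⟩ := graphAut_normal_form hn3 hγ hγ2
    rcases even_model_odd_char h2 (by omega) hnm hν hB with h | ⟨-, h⟩ | ⟨-, h⟩
    · exact Or.inl (isConjUnder_of_model hn2 one_ne_zero one_ne_zero (toGLn_congr _ hJ _) h)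
    · exact Or.inr (Or.inl (isConjUnder_of_model hn2 one_ne_zero one_ne_zero (toGLn_congr _ hP _) h))
    · exact Or.inr (Or.inr (isConjUnder_of_model hn2 one_ne_zero one_ne_zero (toGLn_congr _ hM _) h))
  · show Nonempty (_ ≃* Cfsg.projQuot (Cfsg.GSp m F))
    rw [GSp_eq]
    exact centralizer_graphAut_model hn2 one_ne_zero (toGLn_congr _ hJ _)
  · show Nonempty (_ ≃* Cfsg.projQuot (Cfsg.Geo.quadSimilarityGroup _))
    rw [quadSimilarityGroup_eq h2 (hypMat_transpose m) (hypMat_quad m)]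
    exact centralizer_graphAut_model hn2 one_ne_zero (toGLn_congr _ hP _)
  · show Nonempty (_ ≃* Cfsg.projQuot (Cfsg.Geo.quadSimilarityGroup _))
    rw [quadSimilarityGroup_eq h2 (minusMat_transpose _ _) (minusMat_quad _ _)]
    exact centralizer_graphAut_model hn2 one_ne_zero (toGLn_congr _ hM _)

theorem even_model_even_char [CharP F 2] {m : ℕ} (i₀ : Fin m) (hnm : n = 2 * m) {B : GL (Fin n) F}
    (hB : (B : Matrix (Fin n) (Fin n) F)ᵀ = (B : Matrix (Fin n) (Fin n) F) ∨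
      (B : Matrix (Fin n) (Fin n) F)ᵀ = -(B : Matrix (Fin n) (Fin n) F)) :
    Congr (B : Matrix (Fin n) (Fin n) F) ((1 : F) • Matrix.J (Fin m) F) ∨
      Congr (B : Matrix (Fin n) (Fin n) F) ((1 : F) • altExtra m F i₀) := by
  have hneg : -(B : Matrix (Fin n) (Fin n) F) = (B : Matrix (Fin n) (Fin n) F) := by
    ext i j; exact CharTwo.neg_eq _
  rw [hneg, or_self] at hB
  have hd := Matrix.GeneralLinearGroup.det_ne_zero B
  simp only [one_smul]
  by_cases hna : ∃ i, (B : Matrix (Fin n) (Fin n) F) i i ≠ 0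
  · exact Or.inr ((congr_one_char_two (κ := Fin m ⊕ Fin m) hB hd hna (by simp; omega)).trans
      (congr_one_char_two (altExtra_transpose i₀) (by rw [altExtra_det]; exact one_ne_zero)
        ⟨_, altExtra_nonalt i₀⟩ rfl).symm)
  · push Not at hna
    obtain ⟨k, hk, h⟩ := congr_alternating hna (by rw [hneg, hB]) hd
    obtain rfl : k = m := by simp at hk; omega
    exact Or.inl h

theorem graph_even_dim_even_char [CharP F 2] {m : ℕ} (hm : 2 ≤ m) (hnm : n = 2 * m) :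
    ∃ (γ₁ γ₃ : MulAut (PSLg n F)) (t : ↥(Matrix.symplecticGroup (Fin m) F)),
      Cfsg.IsTransvection (t : Matrix (Fin m ⊕ Fin m) (Fin m ⊕ Fin m) F) ∧
      Cfsg.IsGraphAutClassPSL γ₁ ∧ orderOf γ₁ = 2 ∧ Cfsg.IsGraphAutClassPSL γ₃ ∧ orderOf γ₃ = 2 ∧
      ¬ Cfsg.IsConjUnder (Cfsg.inndiagPSL n F) γ₁ γ₃ ∧
      (∀ γ : MulAut (PSLg n F), Cfsg.IsGraphAutClassPSL γ → orderOf γ = 2 →
        Cfsg.IsConjUnder (Cfsg.inndiagPSL n F) γ₁ γ ∨ Cfsg.IsConjUnder (Cfsg.inndiagPSL n F) γ₃ γ) ∧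
      Nonempty (↥(Cfsg.inndiagPSL n F ⊓ Subgroup.centralizer {γ₁}) ≃* ↥(Matrix.symplecticGroup (Fin m) F)) ∧
      Nonempty (↥(Cfsg.inndiagPSL n F ⊓ Subgroup.centralizer {γ₃}) ≃*
        ↥(Subgroup.centralizer ({t} : Set ↥(Matrix.symplecticGroup (Fin m) F)))) := by
  let i₀ : Fin m := ⟨0, by omega⟩
  have : Nonempty (Fin m) := ⟨i₀⟩
  have hn3 : 3 ≤ n := by omega
  have hn2 : 2 ≤ n := by omega
  have hJ : (Matrix.J (Fin m) F).det ≠ 0 := by rw [det_J]; exact one_ne_zero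
  have hE : (altExtra m F i₀).det ≠ 0 := by rw [altExtra_det]; exact one_ne_zero
  let B₁ : GL (Fin n) F := toGLn _ hJ (by simp; omega)
  let B₃ : GL (Fin n) F := toGLn _ hE (by simp; omega)
  have h₁ : (B₁ : Matrix (Fin n) (Fin n) F)ᵀ = (B₁ : Matrix (Fin n) (Fin n) F) :=
    (toGLn_transpose hJ _ (c := 1) (by rw [J_transpose_char_two, one_smul])).trans (one_smul _ _)
  have h₃ : (B₃ : Matrix (Fin n) (Fin n) F)ᵀ = (B₃ : Matrix (Fin n) (Fin n) F) :=
    (toGLn_transpose hE _ (c := 1) (by rw [altExtra_transpose, one_smul])).trans (one_smul _ _)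
  refine ⟨graphAut B₁, graphAut B₃, CfsgLib.Linear.Symp.tv (Pi.single (Sum.inl i₀) 1) 1,
    isTransvection_tv (by simp), isGraphAutClassPSL_iff.mpr ⟨hn3, B₁, rfl⟩, orderOf_graphAut hn3 (Or.inl h₁),
    isGraphAutClassPSL_iff.mpr ⟨hn3, B₃, rfl⟩, orderOf_graphAut hn3 (Or.inl h₃), ?_, ?_, ?_, ?_⟩
  · intro h
    obtain ⟨c, hc, hcg⟩ := (isConjUnder_graphAut hn2).mp h
    have hcg' := ((toGLn_congr _ hJ (by simp; omega)).symm.trans hcg).trans
      ((toGLn_congr _ hE (by simp; omega)).smul c)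
    rw [smul_smul, mul_one, one_smul] at hcg'
    have h0 := hcg'.self_zero form_self_zero (Pi.single (Sum.inr i₀) 1)
    rw [Matrix.smul_mulVec, dotProduct_smul, Matrix.mulVec_single_one, single_one_dotProduct, Matrix.col_apply,
      smul_eq_mul, mul_eq_zero] at h0
    exact h0.elim hc (altExtra_nonalt i₀)
  · intro γ hγ hγ2
    obtain ⟨B, rfl, hB⟩ := graphAut_normal_form hn3 hγ hγ2
    rcases even_model_even_char i₀ hnm hB with h | h
    · exact Or.inl (isConjUnder_of_model hn2 one_ne_zero one_ne_zero (toGLn_congr _ hJ _) h)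
    · exact Or.inr (isConjUnder_of_model hn2 one_ne_zero one_ne_zero (toGLn_congr _ hE _) h)
  · obtain ⟨e₁⟩ := centralizer_graphAut_model hn2 one_ne_zero (toGLn_congr _ hJ (by simp; omega : Fintype.card _ = n))
    obtain ⟨e₂⟩ := simGroup_J_equiv (F := F) (m := m) (by omega)
    exact ⟨e₁.trans e₂⟩
  · obtain ⟨e₁⟩ := centralizer_graphAut_model hn2 one_ne_zero (toGLn_congr _ hE (by simp; omega : Fintype.card _ = n))
    obtain ⟨e₂⟩ := simGroup_altExtra_equiv (F := F) i₀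
    exact ⟨e₁.trans e₂⟩

/-! ### Inverse transpose -/

theorem isSquare_neg_one_pow_iff (hodd : Odd (Fintype.card F)) {m : ℕ} (hnm : n = 2 * m) :
    IsSquare ((-1 : F) ^ m) ↔ Even (n * (Fintype.card F - 1) / 4) := by
  obtain ⟨k, hk⟩ := hodd
  have h4 : n * (Fintype.card F - 1) / 4 = m * k := by
    rw [hk, hnm, show 2 * m * (2 * k + 1 - 1) = 4 * (m * k) by rw [Nat.add_sub_cancel]; ring,
      Nat.mul_div_cancel_left _ (by norm_num)]
  rw [h4, Nat.even_mul]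
  rcases Nat.even_or_odd m with hm | hm
  · rw [hm.neg_one_pow]; exact iff_of_true IsSquare.one (Or.inl hm)
  · rw [hm.neg_one_pow, FiniteField.isSquare_neg_one_iff]
    simp [Nat.not_even_iff_odd.mpr hm]
    rw [Nat.even_iff]
    omega

theorem inverse_transpose_class (hodd : Odd (Fintype.card F)) {m : ℕ} (hm : 2 ≤ m) (hnm : n = 2 * m)
    {ι : MulAut (PSLg n F)} (hι : Cfsg.IsInverseTransposeAutPSL ι) :
    (Even (n * (Fintype.card F - 1) / 4) →
      Nonempty (↥(Cfsg.inndiagPSL n F ⊓ Subgroup.centralizer {ι}) ≃* Cfsg.PGO F (Cfsg.quadFormPlus m F))) ∧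
    (¬ Even (n * (Fintype.card F - 1) / 4) → ∃ a b : F,
      (∀ z₁ z₂ : F, z₁ ^ 2 + a * z₁ * z₂ + b * z₂ ^ 2 = 0 → z₁ = 0 ∧ z₂ = 0) ∧
      Nonempty (↥(Cfsg.inndiagPSL n F ⊓ Subgroup.centralizer {ι}) ≃*
        Cfsg.PGO F (Cfsg.quadFormMinus (m - 1) F a b))) := by
  have h2 : (2 : F) ≠ 0 := FormsDisc.two_ne_zero_of_card_odd rfl hodd
  have hn2 : 2 ≤ n := by omega
  have hι' : ι = graphAut (1 : GL (Fin n) F) := by
    rw [isInverseTransposeAutPSL_iff.mp hι, graphAut, map_one, one_mul]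
  subst hι'
  rw [← isSquare_neg_one_pow_iff hodd hnm]
  constructor
  · intro hsq
    have h : Congr ((1 : GL (Fin n) F) : Matrix (Fin n) (Fin n) F) ((1 : F) • hypMat m F) := by
      rw [one_smul]
      refine congr_symmetric h2 (by simp; omega) (by simp) (hypMat_transpose m) (by simp) ?_ ?_
      · rw [hypMat_det]; exact pow_ne_zero _ (neg_ne_zero.mpr one_ne_zero)
      · rw [Units.val_one, Matrix.det_one, one_mul, hypMat_det]; exact hsq
    show Nonempty (_ ≃* Cfsg.projQuot (Cfsg.Geo.quadSimilarityGroup _))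
    rw [quadSimilarityGroup_eq h2 (hypMat_transpose m) (hypMat_quad m)]
    exact centralizer_graphAut_model hn2 one_ne_zero h
  · intro hsq
    obtain ⟨ν, hν⟩ := exists_nonsquare h2
    have hν0 : ν ≠ 0 := by rintro rfl; exact hν ⟨0, by simp⟩
    refine ⟨0, -ν, aniso_of_nonsquare hν, ?_⟩
    have h : Congr ((1 : GL (Fin n) F) : Matrix (Fin n) (Fin n) F) ((1 : F) • minusMat (m - 1) F (-ν)) := by
      rw [one_smul]
      refine congr_symmetric h2 (by simp; omega) (by simp) (minusMat_transpose _ _) (by simp) ?_ ?_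
      · rw [minusMat_det' (by omega)]
        exact mul_ne_zero (mul_ne_zero (pow_ne_zero _ (neg_ne_zero.mpr one_ne_zero)) hν0) (pow_ne_zero _ h2)
      · rw [Units.val_one, Matrix.det_one, one_mul, minusMat_det' (by omega), FormsDisc.isSquare_mul_sq_iff h2]
        exact isSquare_mul_of_not h2 (pow_ne_zero _ (neg_ne_zero.mpr one_ne_zero)) hν0 hsq hν
    show Nonempty (_ ≃* Cfsg.projQuot (Cfsg.Geo.quadSimilarityGroup _))
    rw [quadSimilarityGroup_eq h2 (minusMat_transpose _ _) (minusMat_quad _ _)]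
    exact centralizer_graphAut_model hn2 one_ne_zero h

end CfsgLib.AutPSL
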