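import Mathlib
import Cfsg.Agent.Lib.AutPSL.FieldCentral

/-!
Centraliser and class splitting of involutory graph-field automorphisms of `PSL_n`.
-/

namespace CfsgLib.AutPSL

open Matrix
open scoped MatrixGroups

variable {n : ℕ} {F : Type*} [Field F] [Fintype F]

/-- An involutive automorphism of a field with `p ^ f` elements is `x ↦ x ^ (p ^ (f / 2))`. -/
theorem involution_eq_pow {p f : ℕ} [Fact p.Prime] (hF : Fintype.card F = p ^ f) {σ : F ≃+* F}
    (hr : orderOf σ = 2) (x : F) : σ x = x ^ (p ^ (f / 2)) := by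
  letI : Fintype ↥(fixedField σ) := Fintype.ofFinite _
  let σ' : F ≃ₐ[↥(fixedField σ)] F := AlgEquiv.ofRingEquiv (f := σ) (fun a => (mem_fixedField σ).mp a.2)
  obtain ⟨⟨i, hi⟩, hpow⟩ :=
    (FiniteField.bijective_frobeniusAlgEquivOfAlgebraic_pow (↥(fixedField σ)) F).2 σ'
  have hrank : Module.finrank (↥(fixedField σ)) F = 2 := by
    have h1 := card_fixedField_pow σ
    rw [hr, Nat.card_eq_fintype_card] at h1
    refine Nat.pow_right_injective (a := Fintype.card ↥(fixedField σ)) Fintype.one_lt_card ?_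
    show _ ^ _ = _ ^ 2
    rw [← Module.card_eq_pow_finrank, h1]
  have hσne : σ ≠ 1 := fun h => by rw [h, orderOf_one] at hr; omega
  have hi1 : i = 1 := by
    rw [hrank] at hi
    rcases Nat.eq_zero_or_pos i with h0 | h0
    · exfalso
      subst h0
      apply hσne
      ext y
      have := DFunLike.congr_fun hpow y
      exact this.symm
    · omega
  subst hi1
  have h2 := DFunLike.congr_fun hpow x
  simp only [pow_one] at h2
  rw [← (fixedField_card σ hF hr).2, Nat.card_eq_fintype_card]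
  exact h2.symm.trans (congrFun (FiniteField.coe_frobeniusAlgEquivOfAlgebraic (↥(fixedField σ)) F) x)

omit [Fintype F] in
theorem mem_GU_iff_mul {q : ℕ} {σ : F ≃+* F} (hσ : ∀ x, σ x = x ^ q) {g : GL (Fin n) F} :
    g ∈ Cfsg.GU n F q ↔ g.1 * (g.1.map σ)ᵀ = 1 := by
  have key : ∀ u v, Cfsg.hermForm n F q (g.1 *ᵥ u) (g.1 *ᵥ v) =
      u ⬝ᵥ ((g.1ᵀ * g.1.map σ) *ᵥ fun i => σ (v i)) := by
    intro u v
    have h1 : (fun i => σ ((g.1 *ᵥ v) i)) = g.1.map σ *ᵥ fun i => σ (v i) := by
      funext i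
      show σ.toRingHom ((g.1 *ᵥ v) i) = (g.1.map σ.toRingHom *ᵥ fun i => σ.toRingHom (v i)) i
      rw [RingHom.map_mulVec]
      rfl
    rw [← Matrix.mulVec_mulVec, Matrix.dotProduct_mulVec, Matrix.vecMul_transpose, ← h1]
    simp only [Cfsg.hermForm, dotProduct, hσ]
  have hform : ∀ u v, Cfsg.hermForm n F q u v = u ⬝ᵥ fun i => σ (v i) := fun u v => by
    simp only [Cfsg.hermForm, dotProduct, hσ]
  have heq : g ∈ Cfsg.GU n F q ↔ g.1ᵀ * g.1.map σ = 1 := by
    constructor
    · intro h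
      ext i j
      have h1 := h (Pi.single i 1) (Pi.single j 1)
      change Cfsg.hermForm n F q (g.1 *ᵥ Pi.single i 1) (g.1 *ᵥ Pi.single j 1) = _ at h1
      rw [key, hform] at h1
      have hs : (fun k => σ ((Pi.single j (1 : F) : Fin n → F) k)) = Pi.single j 1 := by
        funext k; by_cases hk : k = j
        · subst hk; simp
        · simp [hk]
      rw [hs, Matrix.mulVec_single_one, single_one_dotProduct, single_one_dotProduct] at h1
      rw [Matrix.one_apply]
      rw [Pi.single_apply] at h1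
      simpa [eq_comm] using h1
    · intro h u v
      show Cfsg.hermForm n F q (g.1 *ᵥ u) (g.1 *ᵥ v) = _
      rw [key, h, Matrix.one_mulVec, hform]
  rw [heq]
  constructor
  · intro h
    have h1 : (g.1.map σ)ᵀ * g.1 = 1 := by
      have := congrArg Matrix.transpose h
      rwa [Matrix.transpose_mul, Matrix.transpose_transpose, Matrix.transpose_one] at this
    exact mul_eq_one_comm.mp h1
  · intro h
    have := congrArg Matrix.transpose (mul_eq_one_comm.mp h)
    rwa [Matrix.transpose_mul, Matrix.transpose_transpose, Matrix.transpose_one] at this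

theorem projCentralizer_graphField_eq (hn : 2 ≤ n) {q : ℕ} {σ : F ≃+* F} (hσ : ∀ x, σ x = x ^ q)
    (hr : orderOf σ = 2) :
    projCentralizer (fieldAut σ * itAut : MulAut (PSLg n F)) =
      (Matrix.GeneralLinearGroup.scalar (R := F) (Fin n)).range ⊔ Cfsg.GU n F q := by
  have hiff : ∀ g : GL (Fin n) F, g ∈ projCentralizer (fieldAut σ * itAut : MulAut (PSLg n F)) ↔
      ∃ u : Fˣ, g.1 * (g.1.map σ)ᵀ = (u : F) • 1 := by
    intro g
    have hinv : (Matrix.GeneralLinearGroup.map σ.toRingHom (itGL g)).1 * (g.1.map σ)ᵀ = 1 := by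
      show (itGL g).1.map σ.toRingHom * (g.1.map σ.toRingHom)ᵀ = 1
      rw [← Matrix.transpose_map, ← Matrix.map_mul, itGL_coe, ← Matrix.transpose_mul, Units.mul_inv,
        Matrix.transpose_one, Matrix.map_one _ (map_zero _) (map_one _)]
    rw [mem_projCentralizer, graphField_diag_comm, mul_left_inj, diagAut_eq_iff hn]
    refine exists_congr fun u => ⟨fun h => ?_, fun h => ?_⟩
    · calc g.1 * (g.1.map σ)ᵀ = Matrix.scalar (Fin n) (u : F) *
            ((Matrix.GeneralLinearGroup.map σ.toRingHom (itGL g)).1 * (g.1.map σ)ᵀ) := by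
            conv_lhs => arg 1; rw [h]
            exact Matrix.mul_assoc _ _ _
        _ = _ := by rw [hinv, Matrix.mul_one, Matrix.scalar_apply, Matrix.smul_one_eq_diagonal]
    · apply Units.ext
      show g.1 = Matrix.scalar (Fin n) (u : F) * (Matrix.GeneralLinearGroup.map σ.toRingHom (itGL g)).1
      calc g.1 = g.1 * ((g.1.map σ)ᵀ * (Matrix.GeneralLinearGroup.map σ.toRingHom (itGL g)).1) := by
            rw [mul_eq_one_comm.mp hinv, Matrix.mul_one]
        _ = _ := by rw [← Matrix.mul_assoc, h, Matrix.scalar_apply, Matrix.smul_one_eq_diagonal]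
  apply le_antisymm
  · intro g hg
    obtain ⟨u, hu⟩ := (hiff g).mp hg
    have hσ2 : ∀ a, σ (σ a) = a := by
      intro a
      have := pow_orderOf_eq_one σ
      rw [hr, pow_two] at this
      exact DFunLike.congr_fun this a
    have hu' : σ (u : F) = u := by
      have h1 := congrArg (fun X : Matrix (Fin n) (Fin n) F => (X.map σ.toRingHom)ᵀ) hu
      simp only [Matrix.map_mul, Matrix.transpose_mul] at h1
      have h2 : ((g.1.map σ)ᵀ.map σ.toRingHom)ᵀ = g.1 := by ext i j; exact hσ2 _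
      rw [h2] at h1
      have h3 : g.1 * (g.1.map σ)ᵀ = (((u : F) • (1 : Matrix (Fin n) (Fin n) F)).map σ.toRingHom)ᵀ := h1
      rw [hu] at h3
      have h4 := congrFun (congrFun h3 ⟨0, by omega⟩) ⟨0, by omega⟩
      simp at h4
      exact h4.symm
    obtain ⟨x, hx⟩ := exists_norm_eq σ hr hu'
    rw [Finset.prod_range_succ, Finset.prod_range_one, pow_zero, pow_one] at hx
    change x * σ x = (u : F) at hx
    have hx0 : x ≠ 0 := fun h => u.ne_zero (by rw [← hx, h, zero_mul])
    have hG : Matrix.GeneralLinearGroup.scalar (Fin n) (Units.mk0 x hx0)⁻¹ * g ∈ Cfsg.GU n F q := by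
      rw [mem_GU_iff_mul hσ, Units.val_mul]
      show Matrix.scalar (Fin n) ((Units.mk0 x hx0)⁻¹ : Fˣ).1 * g.1 *
        ((Matrix.scalar (Fin n) ((Units.mk0 x hx0)⁻¹ : Fˣ).1 * g.1).map σ.toRingHom)ᵀ = 1
      rw [Units.val_inv_eq_inv_val, Units.val_mk0, Matrix.scalar_apply, ← Matrix.smul_one_eq_diagonal,
        Matrix.smul_mul, Matrix.one_mul]
      have hm : ((x⁻¹ • g.1).map σ.toRingHom)ᵀ = (σ x⁻¹) • (g.1.map σ)ᵀ := by ext i j; simp
      rw [hm, Matrix.smul_mul, Matrix.mul_smul, hu, smul_smul, smul_smul, ← hx, map_inv₀]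
      have : σ x ≠ 0 := (map_ne_zero σ).mpr hx0
      rw [show x⁻¹ * (σ x)⁻¹ * (x * σ x) = 1 by field_simp, one_smul]
    have : g = Matrix.GeneralLinearGroup.scalar (Fin n) (Units.mk0 x hx0) *
        (Matrix.GeneralLinearGroup.scalar (Fin n) (Units.mk0 x hx0)⁻¹ * g) := by
      rw [← mul_assoc, ← map_mul, mul_inv_cancel, map_one, one_mul]
    rw [this]
    exact mul_mem (Subgroup.mem_sup_left ⟨_, rfl⟩) (Subgroup.mem_sup_right hG)
  · refine sup_le ?_ ?_
    · rintro _ ⟨u, rfl⟩
      exact scalar_mem_projCentralizer _ u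
    · intro g hg
      exact (hiff g).mpr ⟨1, by rw [Units.val_one, one_smul]; exact (mem_GU_iff_mul hσ).mp hg⟩

theorem centralizer_graphField_equiv (hn : 2 ≤ n) {q : ℕ} {σ : F ≃+* F} (hσ : ∀ x, σ x = x ^ q)
    (hr : orderOf σ = 2) :
    Nonempty (↥(Cfsg.inndiagPSL n F ⊓ Subgroup.centralizer {(fieldAut σ * itAut : MulAut (PSLg n F))}) ≃*
      Cfsg.PGU n F q) := by
  let ψ : ↥(Cfsg.GU n F q) →* MulAut (PSLg n F) := diagAut.comp (Cfsg.GU n F q).subtype
  have hrange : ψ.range = Cfsg.inndiagPSL n F ⊓ Subgroup.centralizer {fieldAut σ * itAut} := by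
    rw [inndiag_inf_centralizer, projCentralizer_graphField_eq hn hσ hr, Subgroup.map_sup, MonoidHom.range_comp,
      Subgroup.range_subtype]
    refine (sup_eq_right.mpr ?_).symm
    rintro _ ⟨_, ⟨u, rfl⟩, rfl⟩
    show descend (conjSL _) ∈ _
    rw [conjSL_scalar, map_one]
    exact one_mem _
  have hker : ψ.ker = (Cfsg.Geo.scalars (Fin n) F).subgroupOf (Cfsg.GU n F q) := by
    ext A
    rw [MonoidHom.mem_ker, Subgroup.mem_subgroupOf]
    have h1 : Cfsg.Geo.scalars (Fin n) F = (diagAut (n := n) (F := F)).ker := by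
      rw [ker_diagAut hn, Matrix.GeneralLinearGroup.center_eq_range_scalar]
      rfl
    rw [h1, MonoidHom.mem_ker]
    rfl
  exact ⟨((QuotientGroup.quotientMulEquivOfEq hker.symm).trans
    ((QuotientGroup.quotientKerEquivRange ψ).trans (MulEquiv.subgroupCongr hrange))).symm⟩

theorem det_projCentralizer_graphField (hn : 2 ≤ n) {q : ℕ} {σ : F ≃+* F} (hσ : ∀ x, σ x = x ^ q)
    (hr : orderOf σ = 2) :
    (projCentralizer (fieldAut σ * itAut : MulAut (PSLg n F))).map Matrix.GeneralLinearGroup.det =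
      (powMonoidHom n : Fˣ →* Fˣ).range ⊔ (powMonoidHom (q + 1) : Fˣ →* Fˣ).ker := by
  rw [projCentralizer_graphField_eq hn hσ hr, Subgroup.map_sup, MonoidHom.map_range]
  congr 1
  · ext u
    constructor
    · rintro ⟨v, rfl⟩; exact ⟨v, (det_scalar_pow v).symm⟩
    · rintro ⟨v, rfl⟩; exact ⟨v, det_scalar_pow v⟩
  · ext u
    rw [MonoidHom.mem_ker, powMonoidHom_apply, Units.ext_iff, Units.val_pow_eq_pow_val, Units.val_one, pow_succ, ← hσ]
    constructor
    · rintro ⟨g, hg, rfl⟩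
      have h1 := congrArg Matrix.det ((mem_GU_iff_mul hσ).mp hg)
      rw [Matrix.det_mul, Matrix.det_transpose, Matrix.det_one] at h1
      have h2 : (g.1.map σ).det = σ g.1.det := (RingHom.map_det σ.toRingHom g.1).symm
      rw [h2] at h1
      rw [Matrix.GeneralLinearGroup.val_det_apply, mul_comm]
      exact h1
    · intro hu
      refine ⟨diagGL (Function.update (fun _ => 1) ⟨0, by omega⟩ u), ?_, ?_⟩
      · rw [SetLike.mem_coe, mem_GU_iff_mul hσ]
        show Matrix.diagonal (fun i => ((Function.update (fun _ : Fin n => (1 : Fˣ)) (⟨0, by omega⟩ : Fin n) u i : Fˣ) : F)) *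
          ((Matrix.diagonal (fun i => ((Function.update (fun _ : Fin n => (1 : Fˣ)) (⟨0, by omega⟩ : Fin n) u i : Fˣ) : F))).map σ)ᵀ =
            (1 : Matrix (Fin n) (Fin n) F)
        rw [Matrix.diagonal_map (map_zero σ), Matrix.diagonal_transpose, Matrix.diagonal_mul_diagonal,
          ← Matrix.diagonal_one]
        congr 1
        funext i
        by_cases hi : i = ⟨0, by omega⟩
        · subst hi; simp; rw [mul_comm]; exact hu
        · simp [hi]
      · apply Units.ext
        rw [Matrix.GeneralLinearGroup.val_det_apply]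
        show (Matrix.diagonal _).det = _
        rw [Matrix.det_diagonal, Finset.prod_eq_single ⟨0, by omega⟩]
        · simp
        · intro b _ hb; simp [hb]
        · simp

/-- S2704. -/
theorem graphField_automorphism_facts {p f : ℕ} [Fact p.Prime] (hF : Fintype.card F = p ^ f) (hn : 3 ≤ n)
    {x : MulAut (PSLg n F)} (hx : Cfsg.IsGraphFieldAutClassPSL x) (hx2 : orderOf x = 2) :
    Even f ∧ (∀ y : MulAut (PSLg n F), Cfsg.IsGraphFieldAutClassPSL y → orderOf y = 2 →
        Cfsg.IsConjUnder (Cfsg.inndiagPSL n F) x y) ∧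
      Nonempty (↥(Cfsg.inndiagPSL n F ⊓ Subgroup.centralizer {x}) ≃* Cfsg.PGU n F (p ^ (f / 2))) ∧
      Cfsg.splitClassCount (Cfsg.inndiagPSL n F) (Cfsg.Inn (PSLg n F)) x = Nat.gcd n (p ^ (f / 2) - 1) := by
  have hn2 : 2 ≤ n := by omega
  have normal : ∀ y : MulAut (PSLg n F), Cfsg.IsGraphFieldAutClassPSL y → orderOf y = 2 →
      ∃ (σ : F ≃+* F) (a : MulAut (PSLg n F)), orderOf σ = 2 ∧ a ∈ Cfsg.inndiagPSL n F ∧
        y = a * (fieldAut σ * itAut) * a⁻¹ := by
    rintro y ⟨-, α, φ, γ, σ, hσ, hφ, hγ, heq⟩ hy2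
    rw [isStdFieldAutPSL_iff] at hφ
    rw [isInverseTransposeAutPSL_iff] at hγ
    subst hφ hγ
    obtain ⟨h', hh'⟩ := graphField_normal_form hn2 heq
    obtain ⟨-, hσ2⟩ := graphField_order hn hσ Nat.prime_two (by rw [← hy2, hh', orderOf_conj_eq])
    exact ⟨σ, diagAut h', hσ2, mem_inndiag_iff.mpr ⟨h', rfl⟩, hh'⟩
  obtain ⟨σ, a, hσ2, ha, hxa⟩ := normal x hx hx2
  have hpow := involution_eq_pow hF hσ2
  obtain ⟨hdvd, -⟩ := fixedField_card σ hF hσ2
  refine ⟨even_iff_two_dvd.mpr hdvd, fun y hy hy2 => ?_, ?_, ?_⟩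
  · obtain ⟨τ, b, hτ2, hb, hyb⟩ := normal y hy hy2
    have : τ = σ := RingEquiv.ext fun z => by rw [hpow z, involution_eq_pow hF hτ2 z]
    subst this
    exact isConjUnder_trans (isConjUnder_symm ⟨a, ha, hxa⟩) ⟨b, hb, hyb⟩
  · obtain ⟨e₁⟩ := centralizer_equiv_of_conj _ ha hxa
    obtain ⟨e₂⟩ := centralizer_graphField_equiv hn2 hpow hσ2
    exact ⟨e₁.trans e₂⟩
  · rw [splitClassCount_congr _ _ (x' := fieldAut σ * itAut) (isConjUnder_symm ⟨a, ha, hxa⟩),
      splitClassCount_eq_det_index hn2, det_projCentralizer_graphField hn2 hpow hσ2, index_pow_sup]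
    congr 1
    have hq : Fintype.card F - 1 = (p ^ (f / 2) + 1) * (p ^ (f / 2) - 1) := by
      rw [hF, ← Nat.sq_sub_sq, one_pow, ← pow_mul, Nat.div_mul_cancel hdvd]
    have h1 : 1 ≤ p ^ (f / 2) := Nat.one_le_pow _ _ (Fact.out (p := p.Prime)).pos
    have h2 := Subgroup.card_mul_index (powMonoidHom (p ^ (f / 2) + 1) : Fˣ →* Fˣ).ker
    rw [IsCyclic.card_powMonoidHom_ker, Nat.card_units, Nat.card_eq_fintype_card, hq,
      Nat.gcd_eq_right (dvd_mul_right _ _)] at h2
    exact Nat.eq_of_mul_eq_mul_left (by omega) h2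

end CfsgLib.AutPSL
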