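import Mathlib
import Cfsg.Agent.Lib.AutPSL.GraphClass
import Cfsg.Agent.Lib.Linear.SympCard
import Cfsg.Agent.Lib.Classical.Quad.Std

/-!
The number of `PSL_n`-classes in the class of an involutory graph automorphism.
-/

set_option autoImplicit false

namespace CfsgLib.AutPSL

open Matrix
open scoped MatrixGroups

variable {n : ℕ} {F : Type*} [Field F] [Fintype F]

/-- `diag(c, …, c, 1, …, 1)`. -/
def halfScalar (m : ℕ) (c : Fˣ) : GL (Fin m ⊕ Fin m) F :=
  ⟨Matrix.fromBlocks ((c : F) • 1) 0 0 1, Matrix.fromBlocks (((c⁻¹ : Fˣ) : F) • 1) 0 0 1,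
    by simp [Matrix.fromBlocks_multiply, smul_smul, Matrix.fromBlocks_one],
    by simp [Matrix.fromBlocks_multiply, smul_smul, Matrix.fromBlocks_one]⟩

omit [Fintype F] in
theorem halfScalar_mul_J (m : ℕ) (c : Fˣ) :
    (halfScalar m c : Matrix (Fin m ⊕ Fin m) (Fin m ⊕ Fin m) F)ᵀ * Matrix.J (Fin m) F *
      (halfScalar m c : Matrix (Fin m ⊕ Fin m) (Fin m ⊕ Fin m) F) = (c : F) • Matrix.J (Fin m) F := by
  show (Matrix.fromBlocks ((c : F) • 1) 0 0 1 : Matrix (Fin m ⊕ Fin m) (Fin m ⊕ Fin m) F)ᵀ * Matrix.J (Fin m) F *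
    Matrix.fromBlocks ((c : F) • 1) 0 0 1 = _
  simp [Matrix.J, Matrix.fromBlocks_transpose, Matrix.fromBlocks_multiply, Matrix.fromBlocks_smul]

omit [Fintype F] in
theorem det_halfScalar (m : ℕ) (c : Fˣ) : Matrix.GeneralLinearGroup.det (halfScalar m c) = c ^ m := by
  apply Units.ext
  rw [Matrix.GeneralLinearGroup.val_det_apply, Units.val_pow_eq_pow_val]
  show (Matrix.fromBlocks ((c : F) • 1) 0 0 1 : Matrix (Fin m ⊕ Fin m) (Fin m ⊕ Fin m) F).det = _
  simp [Matrix.det_fromBlocks_zero₂₁, Matrix.det_smul]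

omit [Fintype F] in
theorem simGroup_J_decomp (m : ℕ) {g : GL (Fin m ⊕ Fin m) F} (hg : g ∈ simGroup (Matrix.J (Fin m) F)) :
    ∃ (c : Fˣ) (A : symplecticGroup (Fin m) F), g = halfScalar m c * spToGL A := by
  obtain ⟨c, hc⟩ := hg
  have hA : (((halfScalar m c)⁻¹ * g : GL (Fin m ⊕ Fin m) F) : Matrix (Fin m ⊕ Fin m) (Fin m ⊕ Fin m) F) ∈
      symplecticGroup (Fin m) F := by
    rw [SymplecticGroup.mem_iff']
    refine smul_right_injective _ c.ne_zero ?_
    show (c : F) • _ = (c : F) • Matrix.J (Fin m) F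
    rw [← Matrix.smul_mul, ← Matrix.mul_smul]
    conv_lhs => rw [← halfScalar_mul_J m c]
    rw [← hc, Units.val_mul, Matrix.transpose_mul]
    calc _ = (g : Matrix (Fin m ⊕ Fin m) (Fin m ⊕ Fin m) F)ᵀ *
          (((halfScalar m c : GL _ F) : Matrix (Fin m ⊕ Fin m) (Fin m ⊕ Fin m) F) *
            (((halfScalar m c)⁻¹ : GL _ F) : Matrix (Fin m ⊕ Fin m) (Fin m ⊕ Fin m) F))ᵀ * Matrix.J (Fin m) F *
          (((halfScalar m c : GL _ F) : Matrix (Fin m ⊕ Fin m) (Fin m ⊕ Fin m) F) *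
            (((halfScalar m c)⁻¹ : GL _ F) : Matrix (Fin m ⊕ Fin m) (Fin m ⊕ Fin m) F)) * g := by
          simp only [Matrix.transpose_mul, Matrix.mul_assoc]
      _ = _ := by rw [Units.mul_inv, Matrix.transpose_one, Matrix.mul_one, Matrix.mul_one]
  exact ⟨c, ⟨_, hA⟩, by rw [eq_comm, ← eq_inv_mul_iff_mul_eq]; exact Units.ext rfl⟩

omit [Fintype F] in
theorem det_simGroup_J (m : ℕ) :
    (simGroup (Matrix.J (Fin m) F)).map Matrix.GeneralLinearGroup.det = (powMonoidHom m : Fˣ →* Fˣ).range := by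
  ext u
  constructor
  · rintro ⟨g, hg, rfl⟩
    obtain ⟨c, A, rfl⟩ := simGroup_J_decomp m hg
    refine ⟨c, ?_⟩
    have hA : Matrix.GeneralLinearGroup.det (spToGL A) = 1 := by
      apply Units.ext
      rw [Matrix.GeneralLinearGroup.val_det_apply]
      exact SymplecticGroup.det_eq_one A.2
    rw [powMonoidHom_apply, map_mul, det_halfScalar, hA, mul_one]
  · rintro ⟨c, rfl⟩
    exact ⟨halfScalar m c, ⟨c, halfScalar_mul_J m c⟩, det_halfScalar m c⟩

theorem neg_one_mem_det_symmetric (h2 : (2 : F) ≠ 0) (hn : 0 < n) {B : GL (Fin n) F}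
    (hB : (B : Matrix (Fin n) (Fin n) F)ᵀ = (B : Matrix (Fin n) (Fin n) F)) :
    (-1 : Fˣ) ∈ (simGroup (B : Matrix (Fin n) (Fin n) F)).map Matrix.GeneralLinearGroup.det := by
  let w : Fin n → F := Function.update (fun _ => 1) ⟨0, hn⟩ (B : Matrix (Fin n) (Fin n) F).det
  have hw : (Matrix.diagonal w).det = (B : Matrix (Fin n) (Fin n) F).det := by
    rw [Matrix.det_diagonal, Finset.prod_eq_single ⟨0, hn⟩]
    · simp [w]
    · intro b _ hb; simp [w, hb]
    · simp
  have hd := Matrix.GeneralLinearGroup.det_ne_zero B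
  have hcongr : Congr (B : Matrix (Fin n) (Fin n) F) (Matrix.diagonal w) :=
    congr_symmetric h2 rfl hB (Matrix.diagonal_transpose w) hd (by rw [hw]; exact hd) (by rw [hw]; exact IsSquare.mul_self _)
  rw [simGroup_det_congr hcongr (Equiv.refl _)]
  refine ⟨diagGL (Function.update (fun _ => 1) ⟨0, hn⟩ (-1)), ⟨1, ?_⟩, ?_⟩
  · show (Matrix.diagonal fun i => ((Function.update (fun _ : Fin n => (1 : Fˣ)) ⟨0, hn⟩ (-1) i : Fˣ) : F))ᵀ * Matrix.diagonal w *
      (Matrix.diagonal fun i => ((Function.update (fun _ : Fin n => (1 : Fˣ)) ⟨0, hn⟩ (-1) i : Fˣ) : F)) = _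
    rw [Matrix.diagonal_transpose, Matrix.diagonal_mul_diagonal, Matrix.diagonal_mul_diagonal, Units.val_one,
      one_smul]
    congr 1
    funext i
    by_cases hi : i = ⟨0, hn⟩
    · subst hi; simp
    · simp [hi]
  · apply Units.ext
    rw [Matrix.GeneralLinearGroup.val_det_apply]
    show (Matrix.diagonal _).det = _
    rw [Matrix.det_diagonal, Finset.prod_eq_single ⟨0, hn⟩]
    · simp
    · intro b _ hb; simp [hb]
    · simp

theorem det_simGroup_symmetric (h2 : (2 : F) ≠ 0) {m : ℕ} (hm : 1 ≤ m) (hnm : n = 2 * m) {B : GL (Fin n) F}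
    (hB : (B : Matrix (Fin n) (Fin n) F)ᵀ = (B : Matrix (Fin n) (Fin n) F)) :
    (simGroup (B : Matrix (Fin n) (Fin n) F)).map Matrix.GeneralLinearGroup.det =
      (powMonoidHom m : Fˣ →* Fˣ).range ⊔ Subgroup.zpowers (-1 : Fˣ) := by
  have hneg := neg_one_mem_det_symmetric h2 (by omega) hB
  have hd := Matrix.GeneralLinearGroup.det_ne_zero B
  have hpm : ∀ (g : GL (Fin n) F) (c : Fˣ),
      (g : Matrix (Fin n) (Fin n) F)ᵀ * B * g = (c : F) • (B : Matrix (Fin n) (Fin n) F) →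
      Matrix.GeneralLinearGroup.det g = c ^ m ∨ Matrix.GeneralLinearGroup.det g = -(c ^ m) := by
    intro g c hc
    have h := det_sq_of_mem hd hc
    rw [Fintype.card_fin, show c ^ n = (c ^ m) ^ 2 by rw [← pow_mul]; congr 1; omega, Units.ext_iff,
      Units.val_pow_eq_pow_val, Units.val_pow_eq_pow_val, sq_eq_sq_iff_eq_or_eq_neg] at h
    exact h.imp (fun h => Units.ext h) fun h => Units.ext (by rw [Units.val_neg, h])
  refine le_antisymm ?_ (sup_le ?_ ((Subgroup.zpowers_le).mpr hneg))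
  · rintro _ ⟨g, ⟨c, hc⟩, rfl⟩
    rcases hpm g c hc with h | h <;> rw [h]
    · exact Subgroup.mem_sup_left ⟨c, rfl⟩
    · rw [show -(c ^ m) = (-1) * c ^ m from (neg_one_mul _).symm]
      exact mul_mem (Subgroup.mem_sup_right (Subgroup.mem_zpowers _)) (Subgroup.mem_sup_left (show c ^ m ∈ (powMonoidHom m : Fˣ →* Fˣ).range from ⟨c, rfl⟩))
  · rintro _ ⟨c, rfl⟩
    rw [powMonoidHom_apply]
    have hc : Congr (B : Matrix (Fin n) (Fin n) F) ((c : F) • (B : Matrix (Fin n) (Fin n) F)) := by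
      refine congr_symmetric h2 rfl hB (by rw [Matrix.transpose_smul, hB]) hd ?_ ?_
      · rw [det_smul_congr]; exact mul_ne_zero (pow_ne_zero _ c.ne_zero) hd
      · rw [det_smul_congr, Fintype.card_fin, show (c : F) ^ n = ((c : F) ^ m) ^ 2 by rw [← pow_mul]; congr 1; omega]
        exact ⟨(B : Matrix (Fin n) (Fin n) F).det * (c : F) ^ m, by ring⟩
    obtain ⟨H, H', h1, h2', h3⟩ := hc
    let g : GL (Fin n) F := ⟨H, H', h1, h2'⟩
    have hg : Matrix.GeneralLinearGroup.det g ∈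
        (simGroup (B : Matrix (Fin n) (Fin n) F)).map Matrix.GeneralLinearGroup.det := ⟨g, ⟨c, h3⟩, rfl⟩
    rcases hpm g c h3 with h | h
    · rwa [h] at hg
    · rw [h] at hg
      have := mul_mem hneg hg
      rwa [neg_one_mul, neg_neg] at this

theorem index_neg_one (h2 : (2 : F) ≠ 0) :
    (Subgroup.zpowers (-1 : Fˣ)).index * 2 = Fintype.card F - 1 := by
  have h1 : orderOf (-1 : Fˣ) = 2 := by
    refine orderOf_eq_prime (by rw [neg_one_sq]) fun h => h2 ?_
    have := congrArg Units.val h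
    rw [Units.val_neg, Units.val_one] at this
    linear_combination -this
  have h := Subgroup.card_mul_index (Subgroup.zpowers (-1 : Fˣ))
  rw [Nat.card_zpowers, h1, Nat.card_units, Nat.card_eq_fintype_card] at h
  rw [mul_comm]; exact h

theorem split_symmetric (h2 : (2 : F) ≠ 0) {m : ℕ} (hm : 1 ≤ m) (hnm : n = 2 * m) {B : GL (Fin n) F}
    (hB : (B : Matrix (Fin n) (Fin n) F)ᵀ = (B : Matrix (Fin n) (Fin n) F)) :
    Cfsg.splitClassCount (Cfsg.inndiagPSL n F) (Cfsg.Inn (PSLg n F)) (graphAut B) =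
      Nat.gcd n (Fintype.card F - 1) / 2 := by
  rw [splitClassCount_graphAut (by omega), det_simGroup_symmetric h2 hm hnm hB, index_pow_sup, hnm,
    ← index_neg_one h2, mul_comm (Subgroup.zpowers (-1 : Fˣ)).index 2, Nat.gcd_mul_left,
    Nat.mul_div_cancel_left _ (by norm_num)]

theorem split_symplectic {m : ℕ} (hm : 1 ≤ m) (hnm : n = 2 * m) {B : GL (Fin n) F}
    (hB : Congr (B : Matrix (Fin n) (Fin n) F) ((1 : F) • Matrix.J (Fin m) F)) :
    Cfsg.splitClassCount (Cfsg.inndiagPSL n F) (Cfsg.Inn (PSLg n F)) (graphAut B) =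
      Nat.gcd m (Fintype.card F - 1) := by
  rw [one_smul] at hB
  rw [splitClassCount_graphAut (by omega),
    simGroup_det_congr hB (Fintype.equivOfCardEq (by simp; omega)), det_simGroup_J,
    IsCyclic.index_powMonoidHom_range, Nat.card_units, Nat.card_eq_fintype_card, Nat.gcd_comm]

theorem split_other (hn : 2 ≤ n) (h : Odd n ∨ (2 : F) = 0) (B : GL (Fin n) F) :
    Cfsg.splitClassCount (Cfsg.inndiagPSL n F) (Cfsg.Inn (PSLg n F)) (graphAut B) =
      Nat.gcd n (Fintype.card F - 1) := by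
  have hD : (simGroup (B : Matrix (Fin n) (Fin n) F)).map Matrix.GeneralLinearGroup.det =
      (powMonoidHom n : Fˣ →* Fˣ).range := by
    refine le_antisymm ?_ ?_
    · rintro _ ⟨g, ⟨c, hc⟩, rfl⟩
      have hsq := det_sq_of_mem (Matrix.GeneralLinearGroup.det_ne_zero B) hc
      rw [Fintype.card_fin] at hsq
      set d := Matrix.GeneralLinearGroup.det g
      rcases h with ⟨k, hk⟩ | h2
      · obtain ⟨s, hs⟩ : ∃ s, c = s * s := ⟨d * (c ^ k)⁻¹, by
          rw [mul_mul_mul_comm, ← pow_two, hsq, hk, ← _root_.mul_inv_rev, ← pow_add, ← two_mul, pow_succ']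
          group⟩
        have hd : d = s ^ n ∨ d = -(s ^ n) := by
          rw [hs, ← pow_two, ← pow_mul, mul_comm 2 n, pow_mul, Units.ext_iff, Units.val_pow_eq_pow_val,
            Units.val_pow_eq_pow_val, sq_eq_sq_iff_eq_or_eq_neg] at hsq
          exact hsq.imp (fun h => Units.ext h) fun h => Units.ext (by rw [Units.val_neg, h])
        rcases hd with hd | hd
        · exact ⟨s, by rw [powMonoidHom_apply, hd]⟩
        · exact ⟨-s, by rw [powMonoidHom_apply, hd, Odd.neg_pow ⟨k, hk⟩]⟩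
      · have : CharP F 2 := CharTwo.of_one_ne_zero_of_two_eq_zero one_ne_zero h2
        obtain ⟨s, rfl⟩ := isSquare_unit c
        refine ⟨s, ?_⟩
        rw [← pow_two, ← pow_mul, mul_comm 2 n, pow_mul, Units.ext_iff, Units.val_pow_eq_pow_val,
          Units.val_pow_eq_pow_val, CharTwo.sq_inj] at hsq
        rw [powMonoidHom_apply]
        exact (Units.ext hsq).symm
    · rintro _ ⟨u, rfl⟩
      exact ⟨Matrix.GeneralLinearGroup.scalar (Fin n) u,
        scalar_mem_simGroup _ ((Cfsg.Geo.mem_scalars_iff _).mpr ⟨u, by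
          show Matrix.scalar (Fin n) (u : F) = _
          rw [Matrix.scalar_apply, Matrix.smul_one_eq_diagonal]⟩),
        det_scalar_pow u⟩
  rw [splitClassCount_graphAut hn, hD, IsCyclic.index_powMonoidHom_range, Nat.card_units, Nat.card_eq_fintype_card,
    Nat.gcd_comm]

/-! ### `PGO^± ≇ PGSp` -/

omit [Fintype F] in
theorem card_simGroup_le [Finite F] {ι : Type} [Fintype ι] [DecidableEq ι] (Q : (ι → F) → F) :
    Nat.card ↥(Cfsg.Geo.quadSimilarityGroup Q) ≤ Nat.card Fˣ * Nat.card ↥(Cfsg.isometryGroup F Q) := by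
  classical
  let S := Cfsg.Geo.quadSimilarityGroup Q
  let R : Fˣ → GL ι F := fun c =>
    if h : ∃ g : GL ι F, ∀ v, Q ((g : Matrix ι ι F) *ᵥ v) = (c : F) * Q v then h.choose else 1
  have hR : ∀ c : Fˣ, (∃ g : GL ι F, ∀ v, Q ((g : Matrix ι ι F) *ᵥ v) = (c : F) * Q v) →
      ∀ v, Q ((R c : Matrix ι ι F) *ᵥ v) = (c : F) * Q v := by
    intro c h
    simp only [R, dif_pos h]
    exact h.choose_spec
  let mult : S → Fˣ := fun g => g.2.choose
  have hm : ∀ g : S, ∀ v, Q ((g.1 : Matrix ι ι F) *ᵥ v) = (mult g : F) * Q v := fun g => g.2.choose_spec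
  have hmem : ∀ g : S, (R (mult g))⁻¹ * g.1 ∈ Cfsg.isometryGroup F Q := by
    intro g u _
    have hr := hR (mult g) ⟨g.1, hm g⟩
    have h1 := hr ((((R (mult g))⁻¹ * g.1 : GL ι F) : Matrix ι ι F) *ᵥ u)
    rw [Matrix.mulVec_mulVec, ← Units.val_mul, mul_inv_cancel_left, hm] at h1
    exact (mul_left_cancel₀ (Units.ne_zero _) h1).symm
  rw [← Nat.card_prod]
  refine Nat.card_le_card_of_injective (fun g : S => (mult g, (⟨_, hmem g⟩ : Cfsg.isometryGroup F Q))) ?_
  intro g g' h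
  simp only [Prod.mk.injEq, Subtype.mk.injEq] at h
  obtain ⟨h1, h2⟩ := h
  rw [h1, mul_right_inj] at h2
  exact Subtype.ext h2

omit [Fintype F] in
theorem le_card_GSp [Finite F] {m : ℕ} (hm : 1 ≤ m) :
    Nat.card Fˣ * Nat.card ↥(symplecticGroup (Fin m) F) ≤ Nat.card ↥(Cfsg.GSp m F) := by
  rw [GSp_eq, ← Nat.card_prod]
  refine Nat.card_le_card_of_injective (fun p => ⟨halfScalar m p.1 * spToGL p.2,
    mul_mem ⟨p.1, halfScalar_mul_J m p.1⟩ ⟨1, by
      rw [spToGL_coe, SymplecticGroup.mem_iff'.mp p.2.2, Units.val_one, one_smul]⟩⟩) ?_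
  rintro ⟨c, A⟩ ⟨c', A'⟩ h
  simp only [Subtype.mk.injEq] at h
  have key : ∀ (d : Fˣ) (X : symplecticGroup (Fin m) F),
      ((halfScalar m d * spToGL X : GL (Fin m ⊕ Fin m) F) : Matrix (Fin m ⊕ Fin m) (Fin m ⊕ Fin m) F)ᵀ *
        Matrix.J (Fin m) F *
        ((halfScalar m d * spToGL X : GL (Fin m ⊕ Fin m) F) : Matrix (Fin m ⊕ Fin m) (Fin m ⊕ Fin m) F) =
      (d : F) • Matrix.J (Fin m) F := by
    intro d X
    rw [Units.val_mul, Matrix.transpose_mul, spToGL_coe]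
    calc X.1ᵀ * (halfScalar m d : Matrix (Fin m ⊕ Fin m) (Fin m ⊕ Fin m) F)ᵀ * Matrix.J (Fin m) F *
          ((halfScalar m d : Matrix (Fin m ⊕ Fin m) (Fin m ⊕ Fin m) F) * X.1) =
        X.1ᵀ * ((halfScalar m d : Matrix (Fin m ⊕ Fin m) (Fin m ⊕ Fin m) F)ᵀ * Matrix.J (Fin m) F *
          (halfScalar m d : Matrix (Fin m ⊕ Fin m) (Fin m ⊕ Fin m) F)) * X.1 := by simp only [Matrix.mul_assoc]
      _ = _ := by rw [halfScalar_mul_J, Matrix.mul_smul, Matrix.smul_mul, SymplecticGroup.mem_iff'.mp X.2]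
  have hc : c = c' := by
    have h1 := (key c A).symm.trans ((congrArg (fun g : GL (Fin m ⊕ Fin m) F =>
      (g : Matrix (Fin m ⊕ Fin m) (Fin m ⊕ Fin m) F)ᵀ * Matrix.J (Fin m) F *
        (g : Matrix (Fin m ⊕ Fin m) (Fin m ⊕ Fin m) F)) h).trans (key c' A'))
    have h2 := congrFun (congrFun h1 (Sum.inr ⟨0, by omega⟩)) (Sum.inl ⟨0, by omega⟩)
    simp [Matrix.J] at h2
    exact Units.ext h2
  subst hc
  rw [mul_right_inj] at h
  exact Prod.ext rfl (Subtype.ext (congrArg Units.val h))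

omit [Fintype F] in
theorem projQuot_card [Finite F] {ι : Type} [Fintype ι] [DecidableEq ι] (K : Subgroup (GL ι F))
    (hK : Cfsg.Geo.scalars ι F ≤ K) :
    Nat.card ↥K = Nat.card (Cfsg.projQuot K) * Nat.card ↥(Cfsg.Geo.scalars ι F) := by
  rw [Subgroup.card_eq_card_quotient_mul_card_subgroup ((Cfsg.Geo.scalars ι F).subgroupOf K),
    Nat.card_congr (Subgroup.subgroupOfEquivOfLe hK).toEquiv]

omit [Fintype F] in
theorem card_scalars [Finite F] {ι : Type} [Fintype ι] [DecidableEq ι] [Nonempty ι] :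
    Nat.card ↥(Cfsg.Geo.scalars ι F) = Nat.card Fˣ := by
  refine (Nat.card_congr (MonoidHom.ofInjective ?_).toEquiv).symm
  exact Units.map_injective fun a b h => by
    simpa using congrFun (congrFun h (Classical.arbitrary ι)) (Classical.arbitrary ι)

theorem orth_lt_plus {m : ℕ} (hm : 1 ≤ m) (h2 : (2 : F) ≠ 0) :
    Nat.card ↥(Cfsg.isometryGroup F (Cfsg.quadFormPlus m F)) < Nat.card ↥(symplecticGroup (Fin m) F) := by
  obtain ⟨k, rfl⟩ : ∃ k, m = k + 1 := ⟨m - 1, by omega⟩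
  have hq : 3 ≤ Fintype.card F := by
    have h1 := Fintype.one_lt_card (α := F)
    have h3 := Classical.Quad.two_ne_zero_iff_odd.mp h2
    rw [Nat.card_eq_fintype_card, Nat.odd_iff] at h3
    omega
  let e := Classical.Quad.plusEquiv (k + 1) F
  let Q := (Classical.Quad.hypForm (k + 1) (Classical.Quad.zeroKernel F)).comp e.toLinearMap
  have hiso := Nat.card_congr ((Classical.Quad.isometryGroupEquiv Q (fun v => Classical.Quad.plusEquiv_spec _ v)).trans
    (Classical.Quad.orthCongr (Q' := Classical.Quad.hypForm (k + 1) (Classical.Quad.zeroKernel F)) e fun x => rfl)).toEquiv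
  rw [hiso, Classical.Quad.card_orth_plus, Linear.Symp.card_symplectic, Finset.prod_range_succ, Nat.card_eq_fintype_card]
  set q := Fintype.card F
  set P := ∏ i ∈ Finset.range k, (q ^ (2 * (i + 1)) - 1)
  have hP : 0 < P := Finset.prod_pos fun i _ => by
    have : 1 < q ^ (2 * (i + 1)) := Nat.one_lt_pow (by omega) (by omega)
    omega
  have hx : 3 ≤ q ^ (k + 1) := le_trans hq (Nat.le_self_pow (by omega) q)
  rw [show q ^ ((k + 1) ^ 2) = q ^ ((k + 1) * k) * q ^ (k + 1) by rw [← pow_add]; congr 1; ring,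
    show q ^ (2 * (k + 1)) = q ^ (k + 1) * q ^ (k + 1) by rw [← pow_add]; congr 1; ring]
  set x := q ^ (k + 1)
  set y := q ^ ((k + 1) * k)
  have hy : 0 < y := pow_pos (by omega) _
  have : 2 * (x - 1) < x * (x * x - 1) := by
    have : 2 * (x - 1) < x * 2 := by omega
    exact lt_of_lt_of_le this (Nat.mul_le_mul_left x (by have := Nat.mul_le_mul hx hx; omega))
  calc 2 * y * (x - 1) * P = 2 * (x - 1) * (y * P) := by ring
    _ < x * (x * x - 1) * (y * P) := Nat.mul_lt_mul_of_pos_right this (Nat.mul_pos hy hP)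
    _ = y * x * (P * (x * x - 1)) := by ring

theorem orth_lt_minus {m : ℕ} (hm : 1 ≤ m) (h2 : (2 : F) ≠ 0) {ν : F} (hν : ¬ IsSquare ν) :
    Nat.card ↥(Cfsg.isometryGroup F (Cfsg.quadFormMinus (m - 1) F 0 (-ν))) <
      Nat.card ↥(symplecticGroup (Fin m) F) := by
  obtain ⟨k, rfl⟩ : ∃ k, m = k + 1 := ⟨m - 1, by omega⟩
  rw [Nat.add_sub_cancel]
  have hq : 3 ≤ Fintype.card F := by
    have h1 := Fintype.one_lt_card (α := F)
    have h3 := Classical.Quad.two_ne_zero_iff_odd.mp h2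
    rw [Nat.card_eq_fintype_card, Nat.odd_iff] at h3
    omega
  let e := Classical.Quad.minusEquiv k F
  let Q := (Classical.Quad.hypForm k (Classical.Quad.binForm (0 : F) (-ν))).comp e.toLinearMap
  have hiso := Nat.card_congr ((Classical.Quad.isometryGroupEquiv Q (fun v => Classical.Quad.minusEquiv_spec k 0 (-ν) v)).trans
    (Classical.Quad.orthCongr (Q' := Classical.Quad.hypForm k (Classical.Quad.binForm (0 : F) (-ν))) e fun x => rfl)).toEquiv
  rw [hiso, Classical.Quad.card_orth_minus (aniso_of_nonsquare hν), Linear.Symp.card_symplectic, Finset.prod_range_succ,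
    Nat.card_eq_fintype_card]
  set q := Fintype.card F
  set P := ∏ i ∈ Finset.range k, (q ^ (2 * (i + 1)) - 1)
  have hP : 0 < P := Finset.prod_pos fun i _ => by
    have : 1 < q ^ (2 * (i + 1)) := Nat.one_lt_pow (by omega) (by omega)
    omega
  have hx : 3 ≤ q ^ (k + 1) := le_trans hq (Nat.le_self_pow (by omega) q)
  rw [show q ^ ((k + 1) ^ 2) = q ^ ((k + 1) * k) * q ^ (k + 1) by rw [← pow_add]; congr 1; ring,
    show q ^ (2 * (k + 1)) = q ^ (k + 1) * q ^ (k + 1) by rw [← pow_add]; congr 1; ring]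
  set x := q ^ (k + 1)
  set y := q ^ ((k + 1) * k)
  have hy : 0 < y := pow_pos (by omega) _
  have : 2 * (x + 1) < x * (x * x - 1) := by
    have : 2 * (x + 1) < x * 3 := by omega
    exact lt_of_lt_of_le this (Nat.mul_le_mul_left x (by have := Nat.mul_le_mul hx hx; omega))
  calc 2 * y * (x + 1) * P = 2 * (x + 1) * (y * P) := by ring
    _ < x * (x * x - 1) * (y * P) := Nat.mul_lt_mul_of_pos_right this (Nat.mul_pos hy hP)
    _ = y * x * (P * (x * x - 1)) := by ring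

omit [Fintype F] in
theorem not_PGSp [Finite F] {m : ℕ} (hm : 1 ≤ m) {ι : Type} [Fintype ι] [DecidableEq ι] [Nonempty ι]
    {Q : (ι → F) → F} (hQ : ∀ (c : F) v, Q (c • v) = c ^ 2 * Q v)
    (hlt : Nat.card ↥(Cfsg.isometryGroup F Q) < Nat.card ↥(symplecticGroup (Fin m) F)) :
    ¬ Nonempty (Cfsg.PGO F Q ≃* Cfsg.PGSp m F) := by
  rintro ⟨e⟩
  have : Nonempty (Fin m) := ⟨⟨0, by omega⟩⟩
  have h1 := projQuot_card (Cfsg.GSp m F) (by rw [GSp_eq]; exact fun g hg => scalar_mem_simGroup _ hg)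
  have h2 := projQuot_card (Cfsg.Geo.quadSimilarityGroup Q) fun g hg => by
    obtain ⟨c, hc⟩ := (Cfsg.Geo.mem_scalars_iff g).mp hg
    exact ⟨c * c, fun v => by rw [hc, Matrix.smul_mulVec, Matrix.one_mulVec, hQ, Units.val_mul, pow_two]⟩
  rw [card_scalars] at h1 h2
  have h3 := le_card_GSp (F := F) hm
  have h4 := card_simGroup_le Q
  rw [h1] at h3
  rw [h2, Nat.card_congr e.toEquiv] at h4
  have h5 := Nat.mul_lt_mul_of_pos_left hlt (Nat.card_pos : 0 < Nat.card Fˣ)
  exact absurd (h3.trans h4) (not_le.mpr h5)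

theorem graph_splitting {p f : ℕ} [Fact p.Prime] (hF : Fintype.card F = p ^ f) (hf : 1 ≤ f) (hn : 3 ≤ n)
    {γ : MulAut (PSLg n F)} (hγ : Cfsg.IsGraphAutClassPSL γ) (hγ2 : orderOf γ = 2) :
    ((Even n ∧ Odd p ∧ Nonempty (↥(Cfsg.inndiagPSL n F ⊓ Subgroup.centralizer {γ}) ≃* Cfsg.PGSp (n / 2) F)) →
      Cfsg.splitClassCount (Cfsg.inndiagPSL n F) (Cfsg.Inn (PSLg n F)) γ = Nat.gcd (n / 2) (p ^ f - 1)) ∧
    ((Even n ∧ Odd p ∧ ¬ Nonempty (↥(Cfsg.inndiagPSL n F ⊓ Subgroup.centralizer {γ}) ≃* Cfsg.PGSp (n / 2) F)) →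
      Cfsg.splitClassCount (Cfsg.inndiagPSL n F) (Cfsg.Inn (PSLg n F)) γ = Nat.gcd n (p ^ f - 1) / 2) ∧
    (¬ (Even n ∧ Odd p) →
      Cfsg.splitClassCount (Cfsg.inndiagPSL n F) (Cfsg.Inn (PSLg n F)) γ = Nat.gcd n (p ^ f - 1)) := by
  obtain ⟨B, rfl, hB⟩ := graphAut_normal_form hn hγ hγ2
  have hn2 : 2 ≤ n := by omega
  rw [← hF]
  have hodd : Odd p ↔ (2 : F) ≠ 0 := by
    rw [Classical.Quad.two_ne_zero_iff_odd, Nat.card_eq_fintype_card, hF, Nat.odd_pow_iff (by omega)]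
  have key : Even n → (2 : F) ≠ 0 →
      (Congr (B : Matrix (Fin n) (Fin n) F) ((1 : F) • Matrix.J (Fin (n / 2)) F) ∧
        Nonempty (↥(Cfsg.inndiagPSL n F ⊓ Subgroup.centralizer {graphAut B}) ≃* Cfsg.PGSp (n / 2) F)) ∨
      ((B : Matrix (Fin n) (Fin n) F)ᵀ = (B : Matrix (Fin n) (Fin n) F) ∧
        ¬ Nonempty (↥(Cfsg.inndiagPSL n F ⊓ Subgroup.centralizer {graphAut B}) ≃* Cfsg.PGSp (n / 2) F)) := by
    intro he h2
    have hnm : n = 2 * (n / 2) := by obtain ⟨k, rfl⟩ := he; omega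
    obtain ⟨ν, hν⟩ := exists_nonsquare h2
    rcases even_model_odd_char h2 (by omega) hnm hν hB with h | ⟨hs, h⟩ | ⟨hs, h⟩
    · refine Or.inl ⟨h, ?_⟩
      show Nonempty (_ ≃* Cfsg.projQuot (Cfsg.GSp _ F))
      rw [GSp_eq]
      exact centralizer_graphAut_model hn2 one_ne_zero h
    · refine Or.inr ⟨hs, ?_⟩
      rintro ⟨e⟩
      obtain ⟨e'⟩ := centralizer_graphAut_model hn2 one_ne_zero h
      rw [← quadSimilarityGroup_eq h2 (hypMat_transpose _) (hypMat_quad _)] at e'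
      have : Nonempty (Fin (n / 2)) := ⟨⟨0, by omega⟩⟩
      exact not_PGSp (by omega) (fun c v => by
          simp only [Cfsg.quadFormPlus, Pi.smul_apply, smul_eq_mul, Finset.mul_sum]
          exact Finset.sum_congr rfl fun i _ => by ring)
        (orth_lt_plus (by omega) h2) ⟨e'.symm.trans e⟩
    · refine Or.inr ⟨hs, ?_⟩
      rintro ⟨e⟩
      obtain ⟨e'⟩ := centralizer_graphAut_model hn2 one_ne_zero h
      rw [← quadSimilarityGroup_eq h2 (minusMat_transpose _ _) (minusMat_quad _ _)] at e'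
      exact not_PGSp (by omega) (fun c v => by
          simp only [Cfsg.quadFormMinus, Pi.smul_apply, smul_eq_mul, mul_add, Finset.mul_sum]
          congr 1
          · exact Finset.sum_congr rfl fun i _ => by ring
          · ring)
        (orth_lt_minus (by omega) h2 hν) ⟨e'.symm.trans e⟩
  refine ⟨?_, ?_, ?_⟩
  · rintro ⟨he, hp, hiso⟩
    rcases key he (hodd.mp hp) with ⟨h, -⟩ | ⟨-, hno⟩
    · exact split_symplectic (by omega) (by obtain ⟨k, rfl⟩ := he; omega) h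
    · exact absurd hiso hno
  · rintro ⟨he, hp, hiso⟩
    rcases key he (hodd.mp hp) with ⟨-, h⟩ | ⟨h, -⟩
    · exact absurd h hiso
    · exact split_symmetric (hodd.mp hp) (m := n / 2) (by omega) (by obtain ⟨k, rfl⟩ := he; omega) h
  · intro h
    refine split_other hn2 ?_ B
    by_cases he : Even n
    · exact Or.inr (by by_contra h2; exact h ⟨he, hodd.mpr h2⟩)
    · exact Or.inl (Nat.not_even_iff_odd.mp he)

end CfsgLib.AutPSL
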